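import Mathlib.Algebra.Homology.DerivedCategory.KInjective
import Mathlib.CategoryTheory.Localization.DerivabilityStructure.Constructor
import Mathlib.CategoryTheory.Localization.DerivabilityStructure.Derives

/-!
# The right derivability structure given by K-injective complexes

If every cochain complex of an abelian category `A` admits a quasi-isomorphism to a K-injective
complex, then the inclusion of K-injective objects in the homotopy category `K(A)` is a right
derivability structure (with respect to isomorphisms and quasi-isomorphisms). Consequently every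
functor out of `K(A)` has a (pointwise) right derived functor whose unit is an isomorphism on
K-injective complexes.
-/

set_option autoImplicit false
universe w v u
open CategoryTheory CategoryTheory.Limits

namespace Groth.Agent.H5.KInjDeriv

variable (A : Type u) [Category.{v} A] [Abelian A]

/-- the K-injective objects of the homotopy category -/
def kInj : ObjectProperty (HomotopyCategory A (ComplexShape.up ℤ)) := fun X => CochainComplex.IsKInjective X.as

/-- the full subcategory of K-injective objects -/
abbrev KInj := (kInj A).FullSubcategory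

variable {A}

lemma quasiIso_of_isIso {X Y : HomotopyCategory A (ComplexShape.up ℤ)} (f : X ⟶ Y) [IsIso f] :
    HomotopyCategory.quasiIso A (ComplexShape.up ℤ) f := by
  rw [HomotopyCategory.mem_quasiIso_iff]
  intro n
  infer_instance

variable (A) in
/-- the localizer morphism given by the inclusion of K-injective objects -/
def Φ : LocalizerMorphism (MorphismProperty.isomorphisms (KInj A))
    (HomotopyCategory.quasiIso A (ComplexShape.up ℤ)) where
  functor := (kInj A).ι
  map X Y f (hf : IsIso f) := by
    have : IsIso ((kInj A).ι.map f) := inferInstance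
    exact quasiIso_of_isIso _

variable [HasDerivedCategory.{w} A]

/-- precomposition with a quasi-isomorphism is bijective on morphisms to a K-injective object -/
lemma exists_unique_fac {X Y : HomotopyCategory A (ComplexShape.up ℤ)} (w : X ⟶ Y)
    (hw : HomotopyCategory.quasiIso A (ComplexShape.up ℤ) w) (I : KInj A) (g : X ⟶ I.obj) :
    ∃! g' : Y ⟶ I.obj, w ≫ g' = g := by
  have hI : CochainComplex.IsKInjective I.obj.as := I.property
  have : IsIso (DerivedCategory.Qh.map w) := Localization.inverts DerivedCategory.Qh _ w hw
  have hb : ∀ K : HomotopyCategory A (ComplexShape.up ℤ),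
      Function.Bijective (DerivedCategory.Qh.map : (K ⟶ I.obj) → _) := fun K =>
    CochainComplex.IsKInjective.Qh_map_bijective K I.obj.as
  obtain ⟨g', hg'⟩ := (hb Y).2 (inv (DerivedCategory.Qh.map w) ≫ DerivedCategory.Qh.map g)
  refine ⟨g', (hb X).1 ?_, fun g'' hg'' => (hb Y).1 ?_⟩
  · rw [Functor.map_comp, hg', IsIso.hom_inv_id_assoc]
  · rw [hg', ← hg'', Functor.map_comp, IsIso.inv_hom_id_assoc]

variable (hKinj : ∀ K : CochainComplex A ℤ, ∃ (I : CochainComplex A ℤ) (f : K ⟶ I),
  I.IsKInjective ∧ QuasiIso f)

include hKinj

lemma nonempty_rightResolution (X₂ : HomotopyCategory A (ComplexShape.up ℤ)) :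
    Nonempty ((Φ A).RightResolution X₂) := by
  obtain ⟨I, f, hI, hf⟩ := hKinj X₂.as
  exact ⟨{ X₁ := ⟨(HomotopyCategory.quotient A _).obj I, hI⟩
           w := (HomotopyCategory.quotient A _).map f
           hw := (HomotopyCategory.quotient_map_mem_quasiIso_iff f).2 hf }⟩

lemma isConnected_rightResolution (X₂ : HomotopyCategory A (ComplexShape.up ℤ)) :
    IsConnected ((Φ A).RightResolution X₂) := by
  have := nonempty_rightResolution hKinj X₂
  refine zigzag_isConnected (fun R R' => ?_)
  obtain ⟨φ, hφ, -⟩ := exists_unique_fac R.w R.hw R'.X₁ R'.w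
  exact Zigzag.of_hom { f := ObjectProperty.homMk φ, comm := hφ }

lemma hasRightResolutions_arrow : (Φ A).arrow.HasRightResolutions := by
  intro f
  obtain ⟨Rl⟩ := nonempty_rightResolution hKinj f.left
  obtain ⟨Rr⟩ := nonempty_rightResolution hKinj f.right
  obtain ⟨φ, hφ, -⟩ := exists_unique_fac Rl.w Rl.hw Rr.X₁ (f.hom ≫ Rr.w)
  exact ⟨{ X₁ := Arrow.mk (ObjectProperty.homMk φ : Rl.X₁ ⟶ Rr.X₁)
           w := Arrow.homMk Rl.w Rr.w hφ
           hw := ⟨Rl.hw, Rr.hw⟩ }⟩

omit hKinj in
lemma Qh_map_bijective' (X : HomotopyCategory A (ComplexShape.up ℤ)) (I : KInj A) :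
    Function.Bijective (DerivedCategory.Qh.map : (X ⟶ I.obj) → _) := by
  have hI : CochainComplex.IsKInjective I.obj.as := I.property
  exact CochainComplex.IsKInjective.Qh_map_bijective X I.obj.as

omit hKinj in
instance : ((Φ A).functor ⋙ DerivedCategory.Qh (C := A)).Faithful where
  map_injective {X Y} f g h := by
    apply ((kInj A).ι).map_injective
    exact (Qh_map_bijective' X.obj Y).1 h

omit hKinj in
instance : ((Φ A).functor ⋙ DerivedCategory.Qh (C := A)).Full where
  map_surjective {X Y} f := by
    obtain ⟨g, hg⟩ := (Qh_map_bijective' X.obj Y).2 f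
    exact ⟨ObjectProperty.homMk g, hg⟩

lemma essSurj : ((Φ A).functor ⋙ DerivedCategory.Qh (C := A)).EssSurj where
  mem_essImage Y := by
    obtain ⟨R⟩ := nonempty_rightResolution hKinj (DerivedCategory.Qh.objPreimage Y)
    have : IsIso (DerivedCategory.Qh.map R.w) :=
      Localization.inverts DerivedCategory.Qh _ R.w R.hw
    exact ⟨R.X₁, ⟨(asIso (DerivedCategory.Qh.map R.w)).symm ≪≫
      DerivedCategory.Qh.objObjPreimageIso Y⟩⟩

lemma isLocalizedEquivalence : (Φ A).IsLocalizedEquivalence := by
  have := essSurj hKinj
  have : ((Φ A).functor ⋙ DerivedCategory.Qh (C := A)).IsEquivalence := { }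
  have : ((Φ A).functor ⋙ DerivedCategory.Qh (C := A)).IsLocalization
      (MorphismProperty.isomorphisms (KInj A)) :=
    Functor.IsLocalization.of_isEquivalence _ _ le_rfl
  exact LocalizerMorphism.IsLocalizedEquivalence.of_isLocalization_of_isLocalization (Φ A)
    DerivedCategory.Qh

lemma isRightDerivabilityStructure : (Φ A).IsRightDerivabilityStructure := by
  have := isLocalizedEquivalence hKinj
  have := isConnected_rightResolution hKinj
  have := hasRightResolutions_arrow hKinj
  exact LocalizerMorphism.IsRightDerivabilityStructure.mk' (Φ A)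

section

variable {D' : Type*} [Category D'] (F : HomotopyCategory A (ComplexShape.up ℤ) ⥤ D')

omit hKinj in
lemma derives : (Φ A).Derives F := MorphismProperty.isInvertedBy_isomorphisms _

lemma hasRightDerivedFunctor :
    F.HasRightDerivedFunctor (HomotopyCategory.quasiIso A (ComplexShape.up ℤ)) := by
  have := isRightDerivabilityStructure hKinj
  have := (derives F).hasPointwiseRightDerivedFunctor
  infer_instance

lemma isIso_totalRightDerivedUnit_app
    [F.HasRightDerivedFunctor (HomotopyCategory.quasiIso A (ComplexShape.up ℤ))]
    (I : CochainComplex A ℤ) (hI : I.IsKInjective) :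
    IsIso ((F.totalRightDerivedUnit DerivedCategory.Qh
      (HomotopyCategory.quasiIso A (ComplexShape.up ℤ))).app
        ((HomotopyCategory.quotient A (ComplexShape.up ℤ)).obj I)) := by
  have := isRightDerivabilityStructure hKinj
  exact (derives F).isIso_of_isRightDerivedFunctor (F.totalRightDerivedUnit DerivedCategory.Qh
      (HomotopyCategory.quasiIso A (ComplexShape.up ℤ)))
    ⟨(HomotopyCategory.quotient A (ComplexShape.up ℤ)).obj I, hI⟩

end

end Groth.Agent.H5.KInjDeriv
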