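import Mathlib.Algebra.Homology.HomotopyCategory.MappingCocone
import Mathlib.Algebra.Homology.HomotopyCategory.ShortExact
import Mathlib.Algebra.Homology.HomologySequenceLemmas
import Mathlib.Algebra.Homology.HomologicalComplexAbelian
import Mathlib.Algebra.Homology.HomotopyCategory.Acyclic
import Mathlib.CategoryTheory.Abelian.Refinements

/-!
# Resolutions of unbounded complexes by objects of a class `P` of finite coresolution dimension
-/

set_option autoImplicit false
universe v u
open CategoryTheory CategoryTheory.Limits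

namespace Groth.Agent.H5.PRes

open CochainComplex HomComplex

variable {A : Type u} [Category.{v} A] [Abelian A]

section Cocone

variable {K L : CochainComplex A ℤ} (φ : K ⟶ L)

lemma cocone_ext_to {T : A} {p q : ℤ} (hpq : p + -1 = q) (u v : T ⟶ (mappingCocone φ).X p)
    (h₁ : u ≫ (mappingCocone.fst φ).f p = v ≫ (mappingCocone.fst φ).f p)
    (h₂ : u ≫ (mappingCocone.snd φ).v p q hpq = v ≫ (mappingCocone.snd φ).v p q hpq) : u = v := by
  have := mappingCocone.id_X φ p q hpq
  rw [← Category.comp_id u, ← Category.comp_id v, ← this]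
  simp only [Preadditive.comp_add, reassoc_of% h₁, reassoc_of% h₂]

lemma cocone_ext_from {T : A} {p q : ℤ} (hpq : p + -1 = q) (u v : (mappingCocone φ).X p ⟶ T)
    (h₁ : (mappingCocone.inl φ).v p p (add_zero p) ≫ u = (mappingCocone.inl φ).v p p (add_zero p) ≫ v)
    (h₂ : (mappingCocone.inr φ).1.v q p (by omega) ≫ u = (mappingCocone.inr φ).1.v q p (by omega) ≫ v) :
    u = v := by
  have := mappingCocone.id_X φ p q hpq
  rw [← Category.id_comp u, ← Category.id_comp v, ← this]
  simp only [Preadditive.add_comp, Category.assoc, h₁, h₂]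

/-- the terms of the mapping cocone are biproducts -/
noncomputable def coconeXIso (p q : ℤ) (hpq : p + -1 = q) :
    (mappingCocone φ).X p ≅ K.X p ⊞ L.X q where
  hom := biprod.lift ((mappingCocone.fst φ).f p) ((mappingCocone.snd φ).v p q hpq)
  inv := biprod.desc ((mappingCocone.inl φ).v p p (add_zero p))
    ((mappingCocone.inr φ).1.v q p (by omega))
  hom_inv_id := by
    rw [biprod.lift_desc]
    exact mappingCocone.id_X φ p q hpq
  inv_hom_id := by
    ext <;> simp

lemma δ_snd :
    δ (-1) 0 (mappingCocone.snd φ) =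
      -(Cochain.ofHom (mappingCocone.fst φ)).comp (Cochain.ofHom φ) (add_zero 0) := by
  have h : mappingCocone.descCochain φ (0 : Cochain K L (-1)) (Cochain.ofHom (𝟙 L))
      (by omega) = mappingCocone.snd φ := by
    ext p q hpq
    apply cocone_ext_from φ hpq
    · simp
    · simp
  have := mappingCocone.δ_descCochain φ (0 : Cochain K L (-1)) (Cochain.ofHom (𝟙 L))
    (by omega) 1 (by omega)
  rw [h] at this
  rw [this]
  simp

end Cocone

section General

lemma quasiIso_iff_exactAt_mappingCone {K L : CochainComplex A ℤ} (φ : K ⟶ L) :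
    QuasiIso φ ↔ ∀ n, (CochainComplex.mappingCone φ).ExactAt n := by
  rw [← HomologicalComplex.mem_quasiIso_iff, ← HomotopyCategory.quotient_map_mem_quasiIso_iff,
    HomotopyCategory.quasiIso_eq_trW_subcategoryAcyclic,
    ← HomotopyCategory.quotient_obj_mem_subcategoryAcyclic_iff_exactAt]
  exact (HomotopyCategory.subcategoryAcyclic A).trW_iff_of_distinguished _
    (HomotopyCategory.mappingCone_triangleh_distinguished φ)

lemma acyclic_mappingCocone {K L : CochainComplex A ℤ} (φ : K ⟶ L) [QuasiIso φ] :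
    (mappingCocone φ).Acyclic := by
  intro p
  have h := (quasiIso_iff_exactAt_mappingCone φ).1 inferInstance (-1 + p)
  rw [HomologicalComplex.exactAt_iff_isZero_homology] at h ⊢
  exact IsZero.of_iso h (((HomologicalComplex.homologyFunctor A _ 0).shiftIso (-1) p (-1 + p)
    rfl).app (mappingCone φ))

lemma quasiIso_f_of_acyclic {S : ShortComplex (CochainComplex A ℤ)} (hS : S.ShortExact)
    (h : S.X₃.Acyclic) : QuasiIso S.f := by
  rw [quasiIso_iff]
  intro i
  rw [quasiIsoAt_iff_isIso_homologyMap]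
  have hz : ∀ j, IsZero (S.X₃.homology j) := fun j => (h j).isZero_homology
  have : Mono (HomologicalComplex.homologyMap S.f i) :=
    (hS.homology_exact₁ (i - 1) i (by simp)).mono_g ((hz _).eq_of_src _ _)
  have : Epi (HomologicalComplex.homologyMap S.f i) :=
    (hS.homology_exact₂ i).epi_f ((hz _).eq_of_tgt _ _)
  exact isIso_of_mono_of_epi _

end General

section SES

variable (S : ShortComplex (CochainComplex A ℤ)) {L' : CochainComplex A ℤ} (f' : S.X₃ ⟶ L')

/-- the canonical map from the kernel to the mapping cocone -/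
noncomputable def θ : S.X₁ ⟶ mappingCocone (S.g ≫ f') :=
  mappingCocone.lift (S.g ≫ f') S.f 0 (by simp [reassoc_of% S.zero])

/-- the canonical map between mapping cocones -/
noncomputable def ρ : mappingCocone (S.g ≫ f') ⟶ mappingCocone f' :=
  mappingCocone.lift f' (mappingCocone.fst (S.g ≫ f') ≫ S.g) (mappingCocone.snd (S.g ≫ f')) (by
    rw [δ_snd, Category.assoc, Cochain.ofHom_comp]
    simp)

@[reassoc (attr := simp)]
lemma θ_fst (p : ℤ) : (θ S f').f p ≫ (mappingCocone.fst (S.g ≫ f')).f p = S.f.f p := by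
  simp [θ]

@[reassoc (attr := simp)]
lemma θ_snd (p q : ℤ) (hpq : p + -1 = q) :
    (θ S f').f p ≫ (mappingCocone.snd (S.g ≫ f')).v p q hpq = 0 := by
  simp [θ]

@[reassoc (attr := simp)]
lemma ρ_fst (p : ℤ) : (ρ S f').f p ≫ (mappingCocone.fst f').f p =
    (mappingCocone.fst (S.g ≫ f')).f p ≫ S.g.f p := by
  simp [ρ]

@[reassoc (attr := simp)]
lemma ρ_snd (p q : ℤ) (hpq : p + -1 = q) :
    (ρ S f').f p ≫ (mappingCocone.snd f').v p q hpq =
      (mappingCocone.snd (S.g ≫ f')).v p q hpq := by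
  simp [ρ]

@[reassoc (attr := simp)]
lemma θ_ρ : θ S f' ≫ ρ S f' = 0 := by
  ext p
  apply cocone_ext_to f' (rfl : p + -1 = p + -1)
  · have : S.f.f p ≫ S.g.f p = 0 := by
      rw [← HomologicalComplex.comp_f, S.zero, HomologicalComplex.zero_f]
    simp [this]
  · simp

@[reassoc]
lemma inl_ρ (p : ℤ) : (mappingCocone.inl (S.g ≫ f')).v p p (add_zero p) ≫ (ρ S f').f p =
    S.g.f p ≫ (mappingCocone.inl f').v p p (add_zero p) := by
  apply cocone_ext_to f' (rfl : p + -1 = p + -1)
  · simp
  · simp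

@[reassoc]
lemma inr_ρ (p q : ℤ) (hpq : q + 1 = p) :
    (mappingCocone.inr (S.g ≫ f')).1.v q p hpq ≫ (ρ S f').f p =
      (mappingCocone.inr f').1.v q p hpq := by
  apply cocone_ext_to f' (show p + -1 = q by omega)
  · simp
  · simp

/-- the short complex `0 → X₁ → cocone(g ≫ f') → cocone(f') → 0` -/
noncomputable def sharp : ShortComplex (CochainComplex A ℤ) :=
  ShortComplex.mk (θ S f') (ρ S f') (θ_ρ S f')

variable {S}

lemma sharp_shortExact (hS : S.ShortExact) : (sharp S f').ShortExact := by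
  apply HomologicalComplex.shortExact_of_degreewise_shortExact
  intro p
  have hSp : (S.map (HomologicalComplex.eval A _ p)).ShortExact := hS.map_of_exact _
  have : Mono (S.f.f p) := hSp.mono_f
  have : Epi (S.g.f p) := hSp.epi_g
  have hmono : Mono ((θ S f').f p) := mono_of_mono_fac (θ_fst S f' p)
  have hepi : Epi ((ρ S f').f p) := by
    constructor
    intro T u v h
    apply cocone_ext_from f' (rfl : p + -1 = p + -1)
    · rw [← cancel_epi (S.g.f p), ← inl_ρ_assoc, ← inl_ρ_assoc, h]
    · rw [← inr_ρ_assoc S f' p (p + -1) (by omega), ← inr_ρ_assoc S f' p (p + -1) (by omega), h]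
  refine ShortComplex.ShortExact.mk' ?_ hmono hepi
  rw [ShortComplex.exact_iff_exact_up_to_refinements]
  intro T x hx
  change T ⟶ (mappingCocone (S.g ≫ f')).X p at x
  change x ≫ (ρ S f').f p = 0 at hx
  change ∃ (A' : A) (π : A' ⟶ T) (_ : Epi π) (x₁ : A' ⟶ S.X₁.X p),
    π ≫ x = x₁ ≫ (θ S f').f p
  have h1 : (x ≫ (mappingCocone.fst (S.g ≫ f')).f p) ≫ S.g.f p = 0 := by
    rw [Category.assoc, ← ρ_fst, reassoc_of% hx, zero_comp]
  have h2 : x ≫ (mappingCocone.snd (S.g ≫ f')).v p (p + -1) rfl = 0 := by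
    rw [← ρ_snd S f' p (p + -1) rfl, reassoc_of% hx, zero_comp]
  have := hSp.mono_f
  obtain ⟨y, hy⟩ : ∃ y : T ⟶ S.X₁.X p, y ≫ S.f.f p = x ≫ (mappingCocone.fst (S.g ≫ f')).f p :=
    ⟨hSp.exact.lift _ h1, hSp.exact.lift_f _ h1⟩
  refine ⟨T, 𝟙 _, inferInstance, y, ?_⟩
  apply cocone_ext_to (S.g ≫ f') (rfl : p + -1 = p + -1)
  · simp [hy]
  · simp [h2]

lemma quasiIso_θ (hS : S.ShortExact) [QuasiIso f'] : QuasiIso (θ S f') :=
  quasiIso_f_of_acyclic (sharp_shortExact f' hS) (acyclic_mappingCocone f')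

end SES

section Induction

/-- the "coinduced" complex with terms `J p ⊞ J (p+1)` -/
noncomputable def coind (J : ℤ → A) : CochainComplex A ℤ :=
  CochainComplex.of (fun p => J p ⊞ J (p + 1)) (fun p => biprod.snd ≫ biprod.inl)
    (fun p => by simp)

/-- the canonical map to the coinduced complex -/
noncomputable def toCoind (X : CochainComplex A ℤ) (J : ℤ → A) (i : ∀ p, X.X p ⟶ J p) :
    X ⟶ coind J where
  f p := (biprod.lift (i p) (X.d p (p + 1) ≫ i (p + 1)) : X.X p ⟶ J p ⊞ J (p + 1))
  comm' p q hpq := by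
    obtain rfl : p + 1 = q := hpq
    dsimp only [coind]
    rw [CochainComplex.of_d]
    ext <;> simp

lemma toCoind_f_fst (X : CochainComplex A ℤ) (J : ℤ → A) (i : ∀ p, X.X p ⟶ J p) (p : ℤ) :
    (toCoind X J i).f p ≫ (biprod.fst : J p ⊞ J (p + 1) ⟶ J p) = i p :=
  biprod.lift_fst _ _

variable (P : ObjectProperty A) (E : ℕ → ObjectProperty A)

theorem exists_resolution
    (hP_iso : ∀ ⦃X Y : A⦄, (X ≅ Y) → P X → P Y)
    (hP_biprod : ∀ X Y, P X → P Y → P (X ⊞ Y))
    (hP_mono : ∀ X : A, ∃ (Y : A) (i : X ⟶ Y), P Y ∧ Mono i)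
    (hE0 : ∀ X, E 0 X → P X)
    (hE : ∀ (m : ℕ) (S : ShortComplex A), S.ShortExact → E (m + 1) S.X₁ → P S.X₂ → E m S.X₃)
    (m : ℕ) (X : CochainComplex A ℤ) (hX : ∀ p, E m (X.X p)) :
    ∃ (L : CochainComplex A ℤ) (f : X ⟶ L), QuasiIso f ∧ ∀ p, P (L.X p) := by
  induction m generalizing X with
  | zero => exact ⟨X, 𝟙 X, inferInstance, fun p => hE0 _ (hX p)⟩
  | succ m ih =>
    choose J i hJ hi using hP_mono
    let g := toCoind X (fun p => J (X.X p)) (fun p => i (X.X p))
    have hg : ∀ p, Mono (g.f p) := fun p =>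
      mono_of_mono_fac (toCoind_f_fst X (fun p => J (X.X p)) (fun p => i (X.X p)) p)
    have : Mono g := HomologicalComplex.mono_of_mono_f g hg
    let S : ShortComplex (CochainComplex A ℤ) :=
      ShortComplex.mk g (cokernel.π g) (cokernel.condition g)
    have hS : S.ShortExact :=
      ShortComplex.ShortExact.mk' (ShortComplex.exact_cokernel g) inferInstance inferInstance
    have hG : ∀ p, P (S.X₂.X p) := fun p => hP_biprod _ _ (hJ _) (hJ _)
    have hX' : ∀ p, E m (S.X₃.X p) := fun p =>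
      hE m _ (hS.map_of_exact (HomologicalComplex.eval A _ p)) (hX p) (hG p)
    obtain ⟨L', f', hf', hL'⟩ := ih S.X₃ hX'
    refine ⟨mappingCocone (S.g ≫ f'), θ S f', quasiIso_θ f' hS, fun p => ?_⟩
    exact hP_iso (coconeXIso (S.g ≫ f') p (p + -1) rfl).symm
      (hP_biprod _ _ (hG p) (hL' _))

end Induction

end Groth.Agent.H5.PRes
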