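import Mathlib.Algebra.Homology.HomotopyCategory.Plus
import Mathlib.Algebra.Homology.HomotopyCategory.Acyclic

/-!
# The triangulated subcategory of the homotopy category given by a termwise condition
-/

set_option autoImplicit false
universe v u
open CategoryTheory CategoryTheory.Limits Pretriangulated ZeroObject

namespace Groth.Agent.H5.Termwise

variable {A : Type u} [Category.{v} A] [Preadditive A] (P : ObjectProperty A)

/-- complexes whose terms satisfy `P` -/
def termwiseC : ObjectProperty (CochainComplex A ℤ) := fun K => ∀ n, P (K.X n)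

/-- objects of the homotopy category whose underlying complex has terms satisfying `P`. -/
def termwise : ObjectProperty (HomotopyCategory A (ComplexShape.up ℤ)) :=
  (termwiseC P).strictMap (HomotopyCategory.quotient _ _)

variable {P} in
@[simp]
lemma termwise_quotient_obj_iff (K : CochainComplex A ℤ) :
    termwise P ((HomotopyCategory.quotient _ _).obj K) ↔ ∀ n, P (K.X n) := by
  refine ⟨?_, fun h ↦ ⟨_, h⟩⟩
  simp only [termwise, ObjectProperty.strictMap_iff]
  rintro ⟨L, h, hL⟩
  obtain rfl : L = K := congr_arg Quotient.as hL
  exact h

variable (hP0 : ∀ X : A, IsZero X → P X)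

include hP0 in
lemma containsZero [HasZeroObject A] : (termwise P).ContainsZero where
  exists_zero :=
    ⟨(HomotopyCategory.quotient _ _).obj 0, Functor.map_isZero _ (isZero_zero _), by
      simp only [termwise_quotient_obj_iff]
      intro n
      exact hP0 _ ((HomologicalComplex.eval A (ComplexShape.up ℤ) n).map_isZero (isZero_zero _))⟩

instance : (termwise P).IsStableUnderShift ℤ where
  isStableUnderShiftBy n :=
    { le_shift K hK := by
        obtain ⟨K : CochainComplex _ _, rfl⟩ := K.quotient_obj_surjective
        simp only [termwise_quotient_obj_iff] at hK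
        rw [ObjectProperty.prop_shift_iff, HomotopyCategory.shift_quotient_obj,
          termwise_quotient_obj_iff]
        intro m
        exact hK _ }

variable [HasZeroObject A] [HasBinaryBiproducts A]
  (hPiso : ∀ ⦃X Y : A⦄, (X ≅ Y) → P X → P Y)
  (hPbiprod : ∀ X Y : A, P X → P Y → P (X ⊞ Y))

include hPiso hPbiprod in
set_option backward.defeqAttrib.useBackward true in
set_option backward.isDefEq.respectTransparency false in
lemma isTriangulatedClosed₃ : (termwise P).IsTriangulatedClosed₃ where
  ext₃' T hT h₁ h₂ := by
    have h₁' : ∀ n, P (T.obj₁.as.X n) := by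
      rwa [← termwise_quotient_obj_iff]
    have h₂' : ∀ n, P (T.obj₂.as.X n) := by
      rwa [← termwise_quotient_obj_iff]
    obtain ⟨f : T.obj₁.as ⟶ T.obj₂.as, hf⟩ := (HomotopyCategory.quotient _ _).map_surjective T.mor₁
    refine ⟨_, ?_,
      ⟨Triangle.π₃.mapIso (isoTriangleOfIso₁₂ T _ hT
        (HomotopyCategory.mappingCone_triangleh_distinguished f)
        (Iso.refl _) (Iso.refl _) ?_)⟩⟩
    · dsimp
      simp only [termwise_quotient_obj_iff]
      intro n
      exact hPiso (HomologicalComplex.homotopyCofiber.XIsoBiprod f n (n + 1) rfl).symm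
        (hPbiprod _ _ (h₁' _) (h₂' _))
    · simp [hf]

include hP0 hPiso hPbiprod in
lemma isTriangulated : (termwise P).IsTriangulated :=
  have := containsZero P hP0
  have := isTriangulatedClosed₃ P hPiso hPbiprod
  { toIsTriangulatedClosed₂ := .of_isTriangulatedClosed₃ }

end Groth.Agent.H5.Termwise
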