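import Mathlib.CategoryTheory.Triangulated.LocalizingSubcategory
import Mathlib.CategoryTheory.Localization.DerivabilityStructure.Constructor
import Mathlib.CategoryTheory.Localization.DerivabilityStructure.Derives

/-!
# Right derivability structures from triangulated subcategories with enough resolutions

Let `𝒜`, `ℬ` be triangulated subcategories of a triangulated category `C` (closed under
isomorphisms). If every object `X` of `C` admits a morphism `s : X ⟶ Y` with `Y ∈ 𝒜` and cone of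
`s` in `ℬ`, then the inclusion of `𝒜` is a right derivability structure (for `ℬ.trW`).
-/

set_option autoImplicit false
open CategoryTheory CategoryTheory.Limits Pretriangulated

namespace Groth.Agent.H5.TriDeriv

variable {C : Type*} [Category C] [HasZeroObject C] [HasShift C ℤ] [Preadditive C]
  [∀ (n : ℤ), (shiftFunctor C n).Additive] [Pretriangulated C] [IsTriangulated C]
  (𝒜 ℬ : ObjectProperty C) [𝒜.IsTriangulated] [ℬ.IsTriangulated]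
  [𝒜.IsClosedUnderIsomorphisms] [ℬ.IsClosedUnderIsomorphisms]
  (hres : ∀ X : C, ∃ (Y : C) (s : X ⟶ Y), 𝒜 Y ∧ ℬ.trW s)

include hres

lemma trW_inf_of_trW {X Y : C} (s : X ⟶ Y) (hX : 𝒜 X) (hY : 𝒜 Y) (hs : ℬ.trW s) :
    (𝒜 ⊓ ℬ).trW s := by
  obtain ⟨Z, g, h, hT, hZ⟩ := hs
  exact ⟨Z, g, h, hT, 𝒜.ext_of_isTriangulatedClosed₃ _ hT hX hY, hZ⟩

omit hres in
lemma trW_inf_of_trW' {X Y : C} (s : X ⟶ Y) (hX : 𝒜 X) (hY : 𝒜 Y) (hs : ℬ.trW s) :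
    (𝒜 ⊓ ℬ).trW s := by
  obtain ⟨Z, g, h, hT, hZ⟩ := hs
  exact ⟨Z, g, h, hT, 𝒜.ext_of_isTriangulatedClosed₃ _ hT hX hY, hZ⟩

lemma isVerdierRightLocalizing : 𝒜.IsVerdierRightLocalizing ℬ := by
  rw [ObjectProperty.isVerdierRightLocalizing_iff]
  intro X Y s hX hs
  obtain ⟨Z, b, hZ, hb⟩ := hres Y
  exact ⟨Z, s ≫ b, b, hZ, trW_inf_of_trW' 𝒜 ℬ _ hX hZ (ℬ.trW.comp_mem _ _ hs hb), rfl⟩

/-- the localizer morphism -/
abbrev Φ := 𝒜.triangulatedLocalizerMorphism ℬ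

lemma hasRightResolutions : (Φ 𝒜 ℬ).HasRightResolutions := by
  intro X
  obtain ⟨Y, s, hY, hs⟩ := hres X
  exact ⟨{ X₁ := ⟨Y, hY⟩, w := s, hw := hs }⟩

lemma isLocalizedEquivalence : (Φ 𝒜 ℬ).IsLocalizedEquivalence := by
  have := isVerdierRightLocalizing 𝒜 ℬ hres
  have := hasRightResolutions 𝒜 ℬ hres
  let L₁ := ((ℬ.inverseImage 𝒜.ι).trW).Q
  let L₂ := (ℬ.trW).Q
  let G := (Φ 𝒜 ℬ).localizedFunctor L₁ L₂
  have : ((Φ 𝒜 ℬ).functor ⋙ L₂).EssSurj := (Φ 𝒜 ℬ).essSurj_of_hasRightResolutions L₂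
  have : G.EssSurj := ⟨fun Y => by
    obtain ⟨X, ⟨e⟩⟩ : ∃ X, Nonempty (((Φ 𝒜 ℬ).functor ⋙ L₂).obj X ≅ Y) :=
      ⟨_, ⟨((Φ 𝒜 ℬ).functor ⋙ L₂).objObjPreimageIso Y⟩⟩
    exact ⟨L₁.obj X, ⟨((CatCommSq.iso (Φ 𝒜 ℬ).functor L₁ L₂ G).symm.app X) ≪≫ e⟩⟩⟩
  have : G.IsEquivalence := { }
  exact LocalizerMorphism.IsLocalizedEquivalence.mk' (Φ 𝒜 ℬ) L₁ L₂ G

lemma isConnected_rightResolution (X : C) : IsConnected ((Φ 𝒜 ℬ).RightResolution X) := by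
  have : Nonempty ((Φ 𝒜 ℬ).RightResolution X) := hasRightResolutions 𝒜 ℬ hres X
  refine zigzag_isConnected (fun R R' => ?_)
  obtain ⟨ψ, hψ⟩ := MorphismProperty.HasLeftCalculusOfFractions.exists_leftFraction
    (W := ℬ.trW) ({ X' := X, s := R.w, hs := R.hw, f := R'.w } :
      ℬ.trW.RightFraction R.X₁.obj R'.X₁.obj)
  dsimp at hψ
  obtain ⟨Z, r, hZ, hr⟩ := hres ψ.Y'
  let R'' : (Φ 𝒜 ℬ).RightResolution X :=
    { X₁ := ⟨Z, hZ⟩
      w := R.w ≫ ψ.f ≫ r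
      hw := by
        have : R.w ≫ ψ.f ≫ r = R'.w ≫ ψ.s ≫ r := by rw [← reassoc_of% hψ]
        rw [this]
        exact ℬ.trW.comp_mem _ _ R'.hw (ℬ.trW.comp_mem _ _ ψ.hs hr) }
  let a : R ⟶ R'' := { f := ObjectProperty.homMk (ψ.f ≫ r), comm := rfl }
  let b : R' ⟶ R'' :=
    { f := ObjectProperty.homMk (ψ.s ≫ r)
      comm := by
        change R'.w ≫ ψ.s ≫ r = R.w ≫ ψ.f ≫ r
        rw [← reassoc_of% hψ] }
  exact (Zigzag.of_hom a).trans (Zigzag.of_inv b)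

lemma hasRightResolutions_arrow : (Φ 𝒜 ℬ).arrow.HasRightResolutions := by
  intro f
  obtain ⟨Rl⟩ := hasRightResolutions 𝒜 ℬ hres f.left
  obtain ⟨Rr⟩ := hasRightResolutions 𝒜 ℬ hres f.right
  obtain ⟨ψ, hψ⟩ := MorphismProperty.HasLeftCalculusOfFractions.exists_leftFraction
    (W := ℬ.trW) ({ X' := f.left, s := Rl.w, hs := Rl.hw, f := f.hom ≫ Rr.w } :
      ℬ.trW.RightFraction Rl.X₁.obj Rr.X₁.obj)
  dsimp at hψ
  obtain ⟨Z, r, hZ, hr⟩ := hres ψ.Y'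
  let Rr' : (Φ 𝒜 ℬ).RightResolution f.right :=
    { X₁ := ⟨Z, hZ⟩
      w := Rr.w ≫ ψ.s ≫ r
      hw := ℬ.trW.comp_mem _ _ Rr.hw (ℬ.trW.comp_mem _ _ ψ.hs hr) }
  exact ⟨{ X₁ := Arrow.mk (ObjectProperty.homMk (ψ.f ≫ r) : Rl.X₁ ⟶ Rr'.X₁)
           w := Arrow.homMk Rl.w Rr'.w (by
            change Rl.w ≫ ψ.f ≫ r = f.hom ≫ Rr.w ≫ ψ.s ≫ r
            rw [← reassoc_of% hψ])
           hw := ⟨Rl.hw, Rr'.hw⟩ }⟩

theorem isRightDerivabilityStructure : (Φ 𝒜 ℬ).IsRightDerivabilityStructure := by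
  have := isLocalizedEquivalence 𝒜 ℬ hres
  have := isConnected_rightResolution 𝒜 ℬ hres
  have := hasRightResolutions_arrow 𝒜 ℬ hres
  exact LocalizerMorphism.IsRightDerivabilityStructure.mk' (Φ 𝒜 ℬ)

omit hres [IsTriangulated C] [ℬ.IsTriangulated] [𝒜.IsClosedUnderIsomorphisms]
  [ℬ.IsClosedUnderIsomorphisms] in
/-- a triangulated functor which kills `𝒜 ⊓ ℬ` is derived by `Φ 𝒜 ℬ`. -/
lemma derives {D : Type*} [Category D] [HasZeroObject D] [HasShift D ℤ] [Preadditive D]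
    [∀ (n : ℤ), (shiftFunctor D n).Additive] [Pretriangulated D]
    (G : C ⥤ D) [G.CommShift ℤ] [G.IsTriangulated]
    (hG : ∀ Z : C, 𝒜 Z → ℬ Z → IsZero (G.obj Z)) : (Φ 𝒜 ℬ).Derives G := by
  intro X Y f hf
  rw [ObjectProperty.trW_inverseImage_ι_iff] at hf
  obtain ⟨Z, g, h, hT, hZ⟩ := hf
  have hT' := G.map_distinguished _ hT
  exact (Triangle.isZero₃_iff_isIso₁ _ hT').1 (hG Z hZ.1 hZ.2)

end Groth.Agent.H5.TriDeriv
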