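import Groth.Agent.H30.LerayB
import Groth.Agent.H5.PRes
import Groth.Agent.H5.TriDeriv
import Groth.Agent.H5.Termwise

/-!
# Unbounded right derived functors of left exact functors of finite cohomological dimension
-/

set_option autoImplicit false
universe w w' v v' u u'
open CategoryTheory CategoryTheory.Limits Pretriangulated ZeroObject

namespace Groth.Agent.H5.FinDimDeriv

open Groth.Agent.H30.Leray Groth.Agent.H30.Hyper DerivedCategory

variable {A : Type u} [Category.{v} A] [Abelian A] [HasDerivedCategory.{w} A] [EnoughInjectives A]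
  {B : Type u'} [Category.{v'} B] [Abelian B] [HasDerivedCategory.{w'} B]
  (F : A ⥤ B) [F.Additive]

section LES

variable {S : ShortComplex A} (hS : S.ShortExact)

include hS in
lemma isZero_Φ_sgl_X₁ (n₀ n₁ : ℤ) (h : n₀ + 1 = n₁)
    (h₃ : IsZero (((Φ F).shift n₀).obj (Plus.Q.obj (sgl S.X₃))))
    (h₂ : IsZero (((Φ F).shift n₁).obj (Plus.Q.obj (sgl S.X₂)))) :
    IsZero (((Φ F).shift n₁).obj (Plus.Q.obj (sgl S.X₁))) :=
  ((Φ F).homologySequence_exact₁ _ (sglTriangle_distinguished hS) n₀ n₁ h).isZero_of_both_zeros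
    (h₃.eq_of_src _ _) (h₂.eq_of_tgt _ _)

include hS in
lemma isZero_rightDerived_X₃ (i : ℕ) (h₂ : IsZero ((F.rightDerived i).obj S.X₂))
    (h₁ : IsZero ((F.rightDerived (i + 1)).obj S.X₁)) : IsZero ((F.rightDerived i).obj S.X₃) :=
  IsZero.of_iso (isZero_Φ_sgl_X₃ F hS (i : ℤ) ((i + 1 : ℕ) : ℤ) (by simp)
    (h₂.of_iso (ΦsglIsoRightDerived F S.X₂ i i rfl))
    (h₁.of_iso (ΦsglIsoRightDerived F S.X₁ (i + 1) _ rfl)))
    (ΦsglIsoRightDerived F S.X₃ i i rfl).symm

include hS in
lemma isZero_rightDerived_X₁ (i : ℕ) (h₃ : IsZero ((F.rightDerived i).obj S.X₃))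
    (h₂ : IsZero ((F.rightDerived (i + 1)).obj S.X₂)) :
    IsZero ((F.rightDerived (i + 1)).obj S.X₁) :=
  IsZero.of_iso (isZero_Φ_sgl_X₁ F hS (i : ℤ) ((i + 1 : ℕ) : ℤ) (by simp)
    (h₃.of_iso (ΦsglIsoRightDerived F S.X₃ i i rfl))
    (h₂.of_iso (ΦsglIsoRightDerived F S.X₂ (i + 1) _ rfl)))
    (ΦsglIsoRightDerived F S.X₁ (i + 1) _ rfl).symm

end LES

/-- vanishing of `RⁿF` implies vanishing of `RⁱF` for `i ≥ n`. -/
lemma isZero_rightDerived_of_le (n : ℕ) (hn : ∀ X : A, IsZero ((F.rightDerived n).obj X))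
    (i : ℕ) (hi : n ≤ i) (X : A) : IsZero ((F.rightDerived i).obj X) := by
  induction i, hi using Nat.le_induction generalizing X with
  | base => exact hn X
  | succ i hi ih =>
    let S : ShortComplex A := ShortComplex.mk (Injective.ι X) (cokernel.π (Injective.ι X))
      (cokernel.condition _)
    have hS : S.ShortExact := ShortComplex.ShortExact.mk'
      (ShortComplex.exact_cokernel _) (by dsimp [S]; infer_instance) (by dsimp [S]; infer_instance)
    exact isZero_rightDerived_X₁ F hS i (ih _)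
      (acyclic_of_injective F (Injective.under X) (i + 1) (by omega))

/-- objects of `F`-dimension `≤ m` -/
def E (m : ℕ) : ObjectProperty A := fun Y => ∀ i : ℕ, m < i → IsZero ((F.rightDerived i).obj Y)

lemma E_zero (Y : A) (h : E F 0 Y) : acyclic F Y := h

lemma E_peel (m : ℕ) (S : ShortComplex A) (hS : S.ShortExact) (h₁ : E F (m + 1) S.X₁)
    (h₂ : acyclic F S.X₂) : E F m S.X₃ := fun i hi =>
  isZero_rightDerived_X₃ F hS i (h₂ i (by omega)) (h₁ (i + 1) (by omega))

section Exactness

variable (n : ℕ) (hn : ∀ X : A, IsZero ((F.rightDerived n).obj X))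
  (K : CochainComplex A ℤ) (hK : ∀ m, K.ExactAt m) (hKa : ∀ m, acyclic F (K.X m))

include hn hK hKa in
lemma E_kernel (k : ℕ) (hk : k ≤ n) (q : ℤ) : E F (n - k) (kernel (K.d q (q + 1))) := by
  induction k generalizing q with
  | zero => exact fun i hi => isZero_rightDerived_of_le F n hn i (by omega) _
  | succ k ih =>
    obtain ⟨p, rfl⟩ : ∃ p, q = p + 1 := ⟨q - 1, by omega⟩
    have h := ih (by omega) p
    have e : n - k = (n - (k + 1)) + 1 := by omega
    rw [e] at h
    exact E_peel F (n - (k + 1)) (T K p) (T_shortExact K hK p) h (hKa p)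

include hn hK hKa in
lemma acyclic_kernel (q : ℤ) : acyclic F (kernel (K.d q (q + 1))) := by
  have := E_kernel F n hn K hK hKa n le_rfl q
  rw [Nat.sub_self] at this
  exact E_zero F _ this

variable [PreservesFiniteLimits F]

include hn hK hKa in
lemma map_T_shortExact (q : ℤ) : ((T K q).map F).ShortExact :=
  (acyclic_X₃_and_shortExact F (T_shortExact K hK q) (acyclic_kernel F n hn K hK hKa q)
    (hKa q)).2

include hn hK hKa in
/-- `F` maps an exact complex with `F`-acyclic terms to an exact complex when `F` has finite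
cohomological dimension. -/
theorem exactAt_map (m : ℤ) :
    ((F.mapHomologicalComplex (ComplexShape.up ℤ)).obj K).ExactAt m := by
  obtain ⟨p, rfl⟩ : ∃ p : ℤ, m = p + 1 := ⟨m - 1, by omega⟩
  rw [HomologicalComplex.exactAt_iff' _ p (p + 1) (p + 1 + 1) (by simp) (by simp)]
  have h₀ := map_T_shortExact F n hn K hK hKa p
  have h₁ := map_T_shortExact F n hn K hK hKa (p + 1)
  have h₂ := map_T_shortExact F n hn K hK hKa (p + 1 + 1)
  have e1 : Epi (F.map (T K p).g) := h₀.epi_g
  have e2 : Mono (F.map (T K (p + 1 + 1)).f) := h₂.mono_f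
  exact exact_of_factor' _ _ _ (F.map (T K p).g) (F.map (T K (p + 1)).f)
    (F.map (T K (p + 1)).g) (F.map (T K (p + 1 + 1)).f) e1 e2 _ h₁.exact
    (by
      change F.map (K.d p (p + 1)) = _
      rw [d_eq, F.map_comp]
      rfl)
    (by
      change F.map (K.d (p + 1) (p + 1 + 1)) = _
      rw [d_eq, F.map_comp]
      rfl)

end Exactness

section Resolution

variable (n : ℕ) (hn : ∀ X : A, IsZero ((F.rightDerived n).obj X))

omit [HasDerivedCategory A] [HasDerivedCategory B] in
lemma acyclic_of_iso {X Y : A} (e : X ≅ Y) (hX : acyclic F X) : acyclic F Y := fun i hi =>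
  (hX i hi).of_iso ((F.rightDerived i).mapIso e.symm)

include hn in
theorem exists_resolution (K : CochainComplex A ℤ) :
    ∃ (L : CochainComplex A ℤ) (f : K ⟶ L), QuasiIso f ∧ ∀ p, acyclic F (L.X p) := by
  refine PRes.exists_resolution (acyclic F) (E F) (fun X Y e hX => acyclic_of_iso F e hX)
    (fun X Y hX hY => acyclic_biprod F hX hY)
    (fun X => ⟨Injective.under X, Injective.ι X,
      acyclic_of_injective F (Injective.under X), inferInstance⟩)
    (fun Y h => E_zero F Y h) (fun m S hS h₁ h₂ => E_peel F m S hS h₁ h₂) n K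
    (fun p i hi => isZero_rightDerived_of_le F n hn i (by omega) (K.X p))

end Resolution

omit [HasDerivedCategory A] [EnoughInjectives A] in
lemma enoughInjectives_of_hasInjectiveResolutions [HasInjectiveResolutions A] :
    EnoughInjectives A where
  presentation X := by
    obtain ⟨⟨I⟩⟩ := (HasInjectiveResolutions.out X : HasInjectiveResolution X)
    exact ⟨{ J := I.cocomplex.X 0
             injective := I.injective 0
             f := (HomologicalComplex.singleObjXSelf (ComplexShape.up ℕ) 0 X).inv ≫ I.ι.f 0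
             mono := mono_comp _ _ }⟩

section Derive

omit [EnoughInjectives A] [HasDerivedCategory A] in
lemma isZero_Q_obj_of_exactAt (L : CochainComplex B ℤ) (hL : ∀ m, L.ExactAt m) :
    IsZero (DerivedCategory.Q.obj L) := by
  have hz : IsZero (0 : CochainComplex B ℤ) := isZero_zero _
  have : QuasiIso (0 : L ⟶ (0 : CochainComplex B ℤ)) := by
    rw [quasiIso_iff]
    intro i
    rw [quasiIsoAt_iff_exactAt _ _ (hL i)]
    exact ShortComplex.exact_of_isZero_X₂ _
      ((HomologicalComplex.eval B (ComplexShape.up ℤ) i).map_isZero hz)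
  exact IsZero.of_iso (DerivedCategory.Q.map_isZero hz)
    (asIso (DerivedCategory.Q.map (0 : L ⟶ (0 : CochainComplex B ℤ))))

variable [PreservesFiniteLimits F] (n : ℕ) (hn : ∀ X : A, IsZero ((F.rightDerived n).obj X))

/-- termwise `F`-acyclic complexes (strictly) -/
abbrev 𝒜₀ : ObjectProperty (HomotopyCategory A (ComplexShape.up ℤ)) :=
  Termwise.termwise (acyclic F)

instance : (𝒜₀ F).IsTriangulated :=
  Termwise.isTriangulated _ (fun _ hX => acyclic_of_isZero F hX)
    (fun _ _ e h => acyclic_of_iso F e h) (fun _ _ hX hY => acyclic_biprod F hX hY)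

/-- complexes homotopy equivalent to a termwise `F`-acyclic complex -/
abbrev 𝒜 : ObjectProperty (HomotopyCategory A (ComplexShape.up ℤ)) := (𝒜₀ F).isoClosure

variable (A) in
/-- acyclic complexes -/
abbrev ℬ : ObjectProperty (HomotopyCategory A (ComplexShape.up ℤ)) :=
  HomotopyCategory.subcategoryAcyclic A

include hn in
omit [PreservesFiniteLimits F] in
lemma hres (X : HomotopyCategory A (ComplexShape.up ℤ)) :
    ∃ (Y : HomotopyCategory A (ComplexShape.up ℤ)) (s : X ⟶ Y), 𝒜 F Y ∧ (ℬ A).trW s := by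
  obtain ⟨K, rfl⟩ := X.quotient_obj_surjective
  obtain ⟨L, f, hf, hL⟩ := exists_resolution F n hn K
  refine ⟨(HomotopyCategory.quotient _ _).obj L, (HomotopyCategory.quotient _ _).map f,
    ObjectProperty.le_isoClosure _ _ ((Termwise.termwise_quotient_obj_iff L).2 hL), ?_⟩
  rw [← HomotopyCategory.quasiIso_eq_trW_subcategoryAcyclic,
    HomotopyCategory.quotient_map_mem_quasiIso_iff]
  exact hf

/-- the functor to be derived -/
noncomputable abbrev G : HomotopyCategory A (ComplexShape.up ℤ) ⥤ DerivedCategory B :=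
  F.mapHomotopyCategory (ComplexShape.up ℤ) ⋙ DerivedCategory.Qh

include hn in
lemma isZero_G_obj (Z : HomotopyCategory A (ComplexShape.up ℤ)) (h₁ : 𝒜 F Z) (h₂ : ℬ A Z) :
    IsZero ((G F).obj Z) := by
  obtain ⟨Z₀, hZ₀, ⟨e⟩⟩ := h₁
  obtain ⟨K, rfl⟩ := Z₀.quotient_obj_surjective
  replace hZ₀ := (Termwise.termwise_quotient_obj_iff K).1 hZ₀
  have h₂' := (HomotopyCategory.quotient_obj_mem_subcategoryAcyclic_iff_exactAt K).1
    ((ℬ A).prop_of_iso e h₂)
  refine IsZero.of_iso ?_ ((G F).mapIso e)
  have h := isZero_Q_obj_of_exactAt _ (exactAt_map F n hn K h₂' hZ₀)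
  exact h.of_iso (DerivedCategory.Qh.mapIso
      ((F.mapHomotopyCategoryFactors (ComplexShape.up ℤ)).app K) ≪≫
    (DerivedCategory.quotientCompQhIso B).app _)

include hn in
lemma isRightDerivabilityStructure :
    (TriDeriv.Φ (𝒜 F) (ℬ A)).IsRightDerivabilityStructure :=
  TriDeriv.isRightDerivabilityStructure (𝒜 F) (ℬ A) (hres F n hn)

include hn in
lemma derives : (TriDeriv.Φ (𝒜 F) (ℬ A)).Derives (G F) :=
  TriDeriv.derives (𝒜 F) (ℬ A) (G F) (isZero_G_obj F n hn)

include hn in
theorem hasRightDerivedFunctor_aux (W₂ : MorphismProperty (HomotopyCategory A (ComplexShape.up ℤ)))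
    (hW : W₂ = (ℬ A).trW) : (G F).HasPointwiseRightDerivedFunctor W₂ := by
  subst hW
  have := isRightDerivabilityStructure F n hn
  exact (derives F n hn).hasPointwiseRightDerivedFunctor

include hn in
theorem hasPointwiseRightDerivedFunctor :
    (G F).HasPointwiseRightDerivedFunctor (HomotopyCategory.quasiIso A (ComplexShape.up ℤ)) :=
  hasRightDerivedFunctor_aux F n hn _ (HomotopyCategory.quasiIso_eq_trW_subcategoryAcyclic A)

include hn in
theorem isIso_unit_aux (W₂ : MorphismProperty (HomotopyCategory A (ComplexShape.up ℤ)))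
    (hW : W₂ = (ℬ A).trW) [(G F).HasRightDerivedFunctor W₂]
    [DerivedCategory.Qh.IsLocalization W₂]
    (K : CochainComplex A ℤ) (hK : ∀ m, acyclic F (K.X m)) :
    IsIso (((G F).totalRightDerivedUnit DerivedCategory.Qh W₂).app
      ((HomotopyCategory.quotient A (ComplexShape.up ℤ)).obj K)) := by
  subst hW
  have := isRightDerivabilityStructure F n hn
  exact (derives F n hn).isIso_of_isRightDerivedFunctor
    ((G F).totalRightDerivedUnit DerivedCategory.Qh (ℬ A).trW)
    ⟨(HomotopyCategory.quotient A (ComplexShape.up ℤ)).obj K,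
      ObjectProperty.le_isoClosure _ _ ((Termwise.termwise_quotient_obj_iff K).2 hK)⟩

include hn in
theorem isIso_unit [(G F).HasRightDerivedFunctor (HomotopyCategory.quasiIso A (ComplexShape.up ℤ))]
    (K : CochainComplex A ℤ) (hK : ∀ m, acyclic F (K.X m)) :
    IsIso (((G F).totalRightDerivedUnit DerivedCategory.Qh
      (HomotopyCategory.quasiIso A (ComplexShape.up ℤ))).app
      ((HomotopyCategory.quotient A (ComplexShape.up ℤ)).obj K)) :=
  isIso_unit_aux F n hn _ (HomotopyCategory.quasiIso_eq_trW_subcategoryAcyclic A) K hK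

end Derive

end Groth.Agent.H5.FinDimDeriv
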