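import Mathlib.Algebra.Homology.Bifunctor
import Mathlib.Algebra.Homology.BifunctorHomotopy
import Mathlib.Algebra.Homology.HomologicalComplexAbelian
import Mathlib.Algebra.Homology.HomologySequenceLemmas
import Mathlib.Algebra.Homology.HomotopyCategory.DegreewiseSplit
import Mathlib.Algebra.Homology.DerivedCategory.HomologySequence

/-!
# Tensoring with a fixed complex preserves degreewise split short exact sequences
-/

set_option autoImplicit false
open CategoryTheory CategoryTheory.Limits HomologicalComplex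

namespace Groth.Agent.H5.BifunctorSplit

variable {C₁ C₂ D : Type*} [Category C₁] [Category C₂] [Category D]
  [Preadditive C₁] [Preadditive C₂] [Abelian D]
  (F : C₁ ⥤ C₂ ⥤ D) [F.Additive] [∀ X₁, (F.obj X₁).Additive]
  [∀ (K₁ : CochainComplex C₁ ℤ) (K₂ : CochainComplex C₂ ℤ), HasMapBifunctor K₁ K₂ F (.up ℤ)]
  (K₂ : CochainComplex C₂ ℤ)

/-- the map `f ⊗ K₂` -/
noncomputable abbrev Gmap {K₁ L₁ : CochainComplex C₁ ℤ} (f : K₁ ⟶ L₁) :
    mapBifunctor K₁ K₂ F (.up ℤ) ⟶ mapBifunctor L₁ K₂ F (.up ℤ) :=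
  mapBifunctorMap f (𝟙 K₂) F (.up ℤ)

@[reassoc]
lemma ι_Gmap {K₁ L₁ : CochainComplex C₁ ℤ} (f : K₁ ⟶ L₁) (p q n : ℤ)
    (h : ComplexShape.π (.up ℤ) (.up ℤ) (.up ℤ) (p, q) = n) :
    ιMapBifunctor K₁ K₂ F (.up ℤ) p q n h ≫ (Gmap F K₂ f).f n =
      (F.map (f.f p)).app (K₂.X q) ≫ ιMapBifunctor L₁ K₂ F (.up ℤ) p q n h := by
  rw [ι_mapBifunctorMap]
  simp

/-- The functor `- ⊗ K₂`. -/
noncomputable def G : CochainComplex C₁ ℤ ⥤ CochainComplex D ℤ where
  obj K₁ := mapBifunctor K₁ K₂ F (.up ℤ)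
  map f := Gmap F K₂ f
  map_id K₁ := by
    ext n p q h
    rw [ι_Gmap]
    simp
  map_comp f g := by
    ext n p q h
    rw [HomologicalComplex.comp_f, ι_Gmap_assoc, ι_Gmap, ι_Gmap]
    simp

lemma ι_G_map {K₁ L₁ : CochainComplex C₁ ℤ} (f : K₁ ⟶ L₁) (p q n : ℤ)
    (h : ComplexShape.π (.up ℤ) (.up ℤ) (.up ℤ) (p, q) = n) :
    ιMapBifunctor K₁ K₂ F (.up ℤ) p q n h ≫ ((G F K₂).map f).f n =
      (F.map (f.f p)).app (K₂.X q) ≫ ιMapBifunctor L₁ K₂ F (.up ℤ) p q n h :=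
  ι_Gmap F K₂ f p q n h

instance : (G F K₂).PreservesZeroMorphisms where
  map_zero K₁ L₁ := by
    change Gmap F K₂ (0 : K₁ ⟶ L₁) = 0
    ext n p q h
    rw [ι_Gmap]
    simp

section split

variable (S : ShortComplex (CochainComplex C₁ ℤ))
  (r : ∀ p : ℤ, S.X₂.X p ⟶ S.X₁.X p) (t : ∀ p : ℤ, S.X₃.X p ⟶ S.X₂.X p)

/-- retraction -/
noncomputable def rmap (n : ℤ) :
    (mapBifunctor S.X₂ K₂ F (.up ℤ)).X n ⟶ (mapBifunctor S.X₁ K₂ F (.up ℤ)).X n :=
  mapBifunctorDesc (fun p q h => (F.map (r p)).app (K₂.X q) ≫ ιMapBifunctor S.X₁ K₂ F (.up ℤ) p q n h)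

/-- section -/
noncomputable def smap (n : ℤ) :
    (mapBifunctor S.X₃ K₂ F (.up ℤ)).X n ⟶ (mapBifunctor S.X₂ K₂ F (.up ℤ)).X n :=
  mapBifunctorDesc (fun p q h => (F.map (t p)).app (K₂.X q) ≫ ιMapBifunctor S.X₂ K₂ F (.up ℤ) p q n h)

lemma f_r (hfr : ∀ p, S.f.f p ≫ r p = 𝟙 _) (n : ℤ) :
    (Gmap F K₂ S.f).f n ≫ rmap F K₂ S r n = 𝟙 _ := by
  ext p q h
  rw [ι_Gmap_assoc, rmap, ι_mapBifunctorDesc, ← NatTrans.comp_app_assoc, ← F.map_comp, hfr p]
  simp

lemma s_g (hsg : ∀ p, t p ≫ S.g.f p = 𝟙 _) (n : ℤ) :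
    smap F K₂ S t n ≫ (Gmap F K₂ S.g).f n = 𝟙 _ := by
  ext p q h
  rw [smap, ι_mapBifunctorDesc_assoc, Category.assoc, ι_Gmap, ← NatTrans.comp_app_assoc,
    ← F.map_comp, hsg p]
  simp

lemma r_f_add_g_s (hid : ∀ p, r p ≫ S.f.f p + S.g.f p ≫ t p = 𝟙 _) (n : ℤ) :
    rmap F K₂ S r n ≫ (Gmap F K₂ S.f).f n + (Gmap F K₂ S.g).f n ≫ smap F K₂ S t n = 𝟙 _ := by
  ext p q h
  rw [Preadditive.comp_add, rmap, ι_mapBifunctorDesc_assoc, Category.assoc, ι_Gmap,
    ι_Gmap_assoc, smap, ι_mapBifunctorDesc, ← NatTrans.comp_app_assoc, ← F.map_comp,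
    ← NatTrans.comp_app_assoc, ← F.map_comp, ← Preadditive.add_comp, ← NatTrans.app_add,
    ← F.map_add, hid p]
  simp

/-- The image under `- ⊗ K₂` of a degreewise split short exact sequence is short exact. -/
lemma shortExact_map (hfr : ∀ p, S.f.f p ≫ r p = 𝟙 _) (hsg : ∀ p, t p ≫ S.g.f p = 𝟙 _)
    (hid : ∀ p, r p ≫ S.f.f p + S.g.f p ≫ t p = 𝟙 _) : (S.map (G F K₂)).ShortExact := by
  refine shortExact_of_degreewise_shortExact _ (fun n => ?_)
  exact ShortComplex.Splitting.shortExact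
    { r := rmap F K₂ S r n
      s := smap F K₂ S t n
      f_r := f_r F K₂ S r hfr n
      s_g := s_g F K₂ S t hsg n
      id := r_f_add_g_s F K₂ S r t hid n }

end split

section cone

open CochainComplex

/-- The mapping cone of a quasi-isomorphism is acyclic. -/
lemma isZero_homology_cone_of_quasiIso {A : Type*} [Category A] [Abelian A]
    {K L : CochainComplex A ℤ} (f : K ⟶ L) [QuasiIso f] (n : ℤ) :
    IsZero ((mappingCone f).homology n) := by
  let _ := HasDerivedCategory.standard A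
  have hT := DerivedCategory.mappingCone_triangle_distinguished f
  have h1 : IsIso (DerivedCategory.Q.mapTriangle.obj (mappingCone.triangle f)).mor₁ :=
    inferInstanceAs (IsIso (DerivedCategory.Q.map f))
  have h2 : IsZero (DerivedCategory.Q.obj (mappingCone f)) :=
    (Pretriangulated.Triangle.isZero₃_iff_isIso₁ _ hT).2 h1
  exact ((DerivedCategory.homologyFunctor A n).map_isZero h2).of_iso
    ((DerivedCategory.homologyFunctorFactors A n).app (mappingCone f)).symm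

end cone

section main

open CochainComplex

variable {A : Type*} [Category A] [Abelian A]
  (F : A ⥤ C₂ ⥤ D) [F.Additive] [∀ X₁, (F.obj X₁).Additive]
  [∀ (K₁ : CochainComplex A ℤ) (K₂ : CochainComplex C₂ ℤ), HasMapBifunctor K₁ K₂ F (.up ℤ)]
  (K₂ : CochainComplex C₂ ℤ)

/-- `cone(𝟙) ⊗ K₂` is acyclic. -/
lemma isZero_homology_G_cone_id (K₁ : CochainComplex A ℤ) (n : ℤ) :
    IsZero (((G F K₂).obj (mappingCone (𝟙 K₁))).homology n) := by
  have h : Homotopy ((G F K₂).map (𝟙 (mappingCone (𝟙 K₁)))) ((G F K₂).map 0) :=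
    mapBifunctorMapHomotopy₁ (mappingCone.homotopyToZeroOfId K₁) (𝟙 K₂) F (.up ℤ)
  rw [IsZero.iff_id_eq_zero, ← HomologicalComplex.homologyMap_id, ← (G F K₂).map_id,
    h.homologyMap_eq n, (G F K₂).map_zero, HomologicalComplex.homologyMap_zero]

/-- the short complex `L ⟶ cone(f) ⟶ K⟦1⟧` after tensoring is short exact. -/
lemma shortExact_G_cone {K₁ L₁ : CochainComplex A ℤ} (f : K₁ ⟶ L₁) :
    ((mappingCone.triangleRotateShortComplex f).map (G F K₂)).ShortExact :=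
  shortExact_map F K₂ (mappingCone.triangleRotateShortComplex f)
    (fun p => (mappingCone.triangleRotateShortComplexSplitting f p).r)
    (fun p => (mappingCone.triangleRotateShortComplexSplitting f p).s)
    (fun p => (mappingCone.triangleRotateShortComplexSplitting f p).f_r)
    (fun p => (mappingCone.triangleRotateShortComplexSplitting f p).s_g)
    (fun p => (mappingCone.triangleRotateShortComplexSplitting f p).id)

/-- the morphism of short complexes from the one of `𝟙 K₁` to the one of `f`. -/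
noncomputable def coneMap {K₁ L₁ : CochainComplex A ℤ} (f : K₁ ⟶ L₁) :
    mappingCone.triangleRotateShortComplex (𝟙 K₁) ⟶ mappingCone.triangleRotateShortComplex f where
  τ₁ := f
  τ₂ := mappingCone.map (𝟙 K₁) f (𝟙 K₁) f (by simp)
  τ₃ := 𝟙 _
  comm₁₂ := by
    change f ≫ mappingCone.inr f =
      mappingCone.inr (𝟙 K₁) ≫ mappingCone.map (𝟙 K₁) f (𝟙 K₁) f (by simp)
    simp [mappingCone.map]
  comm₂₃ := by
    change mappingCone.map (𝟙 K₁) f (𝟙 K₁) f (by simp) ≫ (mappingCone.triangle f).mor₃ =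
      (mappingCone.triangle (𝟙 K₁)).mor₃ ≫ 𝟙 _
    have := (mappingCone.triangleMap (𝟙 K₁) f (𝟙 K₁) f (by simp)).comm₃
    rw [Category.comp_id]
    have h2 : (CategoryTheory.shiftFunctor (CochainComplex A ℤ) (1 : ℤ)).map (𝟙 K₁) = 𝟙 _ :=
      CategoryTheory.Functor.map_id _ _
    refine this.symm.trans ?_
    exact (congrArg (fun t => (mappingCone.triangle (𝟙 K₁)).mor₃ ≫ t) h2).trans (Category.comp_id _)

omit [Preadditive C₂] in
/-- abstract five-lemma-like statement -/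
lemma isIso_homologyMap_τ₁ {T₁ T₂ : ShortComplex (CochainComplex D ℤ)} (φ : T₁ ⟶ T₂)
    (h₁ : T₁.ShortExact) (h₂ : T₂.ShortExact)
    (hz₁ : ∀ n, IsZero (T₁.X₂.homology n)) (hz₂ : ∀ n, IsZero (T₂.X₂.homology n))
    (h₃ : ∀ n, IsIso (HomologicalComplex.homologyMap φ.τ₃ n)) (n : ℤ) :
    IsIso (HomologicalComplex.homologyMap φ.τ₁ n) := by
  have hrel : (ComplexShape.up ℤ).Rel (n - 1) n := by simp
  have hnat := HomologicalComplex.HomologySequence.δ_naturality φ h₁ h₂ (n - 1) n hrel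
  have hδ₁ := h₁.isIso_δ (n - 1) n hrel (hz₁ _) (hz₁ _)
  have hδ₂ := h₂.isIso_δ (n - 1) n hrel (hz₂ _) (hz₂ _)
  have := h₃ (n - 1)
  have h4 : HomologicalComplex.homologyMap φ.τ₁ n =
      inv (h₁.δ (n - 1) n hrel) ≫ HomologicalComplex.homologyMap φ.τ₃ (n - 1) ≫
        h₂.δ (n - 1) n hrel := by
    rw [← hnat]
    simp
  rw [h4]
  infer_instance

theorem quasiIso_Gmap
    (hflat : ∀ L : CochainComplex A ℤ, (∀ i : ℤ, IsZero (L.homology i)) →
      ∀ i : ℤ, IsZero ((mapBifunctor L K₂ F (.up ℤ)).homology i))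
    {K₁ L₁ : CochainComplex A ℤ} (f : K₁ ⟶ L₁) [QuasiIso f] :
    QuasiIso (Gmap F K₂ f) := by
  have hS₁ : ((G F K₂).mapShortComplex.obj (mappingCone.triangleRotateShortComplex (𝟙 K₁))).ShortExact :=
    shortExact_G_cone F K₂ (𝟙 K₁)
  have hS₂ : ((G F K₂).mapShortComplex.obj (mappingCone.triangleRotateShortComplex f)).ShortExact :=
    shortExact_G_cone F K₂ f
  refine ⟨fun n => ?_⟩
  rw [quasiIsoAt_iff_isIso_homologyMap]
  refine isIso_homologyMap_τ₁ ((G F K₂).mapShortComplex.map (coneMap f)) hS₁ hS₂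
    (fun n => isZero_homology_G_cone_id F K₂ K₁ n)
    (fun n => hflat (mappingCone f) (isZero_homology_cone_of_quasiIso f) n) (fun n => ?_) n
  have h : IsIso ((G F K₂).mapShortComplex.map (coneMap f)).τ₃ :=
    inferInstanceAs (IsIso ((G F K₂).map (𝟙 ((CategoryTheory.shiftFunctor _ (1 : ℤ)).obj K₁))))
  exact (inferInstance : IsIso ((HomologicalComplex.homologyFunctor D (.up ℤ) n).map
    ((G F K₂).mapShortComplex.map (coneMap f)).τ₃))

end main

end Groth.Agent.H5.BifunctorSplit
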