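import Groth.Agent.H5.TriDerivLeft
import Mathlib.Algebra.Homology.HomotopyCategory.Acyclic
import Mathlib.Algebra.Homology.DerivedCategory.Basic

/-!
# Left derived functors via left resolutions by a class of complexes

Let `A` be an abelian category and `kf` a class of cochain complexes in `A` containing zero,
stable under shifts and mapping cones, such that every complex is the target of a
quasi-isomorphism from a complex in `kf`. If `F : A ⥤ B` is an additive functor which sends
acyclic complexes in `kf` to acyclic complexes, then the functor `K(A) ⥤ D(B)` induced by `F`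
has a left derived functor with respect to quasi-isomorphisms, and the counit is an isomorphism
on complexes in `kf`.
-/

set_option autoImplicit false
universe w w' v' u' v u
open CategoryTheory CategoryTheory.Limits Pretriangulated ZeroObject

namespace Groth.Agent.H5.ResDerivLeft

variable {A : Type u} [Category.{v} A] [Abelian A]
  (kf : ObjectProperty (CochainComplex A ℤ))

/-- objects of the homotopy category whose underlying complex is in `kf` -/
def 𝒜₀ : ObjectProperty (HomotopyCategory A (ComplexShape.up ℤ)) :=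
  kf.strictMap (HomotopyCategory.quotient _ _)

variable {kf} in
@[simp]
lemma 𝒜₀_quotient_obj_iff (K : CochainComplex A ℤ) :
    𝒜₀ kf ((HomotopyCategory.quotient _ _).obj K) ↔ kf K := by
  refine ⟨?_, fun h ↦ ⟨_, h⟩⟩
  simp only [𝒜₀, ObjectProperty.strictMap_iff]
  rintro ⟨L, h, hL⟩
  obtain rfl : L = K := congr_arg Quotient.as hL
  exact h

/-- the hypotheses on the class `kf` -/
structure Hyp : Prop where
  zero : kf 0
  shift : ∀ (K : CochainComplex A ℤ) (n : ℤ), kf K → kf (K⟦n⟧)
  cone : ∀ {K L : CochainComplex A ℤ} (f : K ⟶ L), kf K → kf L → kf (CochainComplex.mappingCone f)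
  res : ∀ G : CochainComplex A ℤ, ∃ (K : CochainComplex A ℤ) (q : K ⟶ G), kf K ∧ QuasiIso q

variable {kf} (H : Hyp kf)

include H

lemma containsZero : (𝒜₀ kf).ContainsZero where
  exists_zero :=
    ⟨(HomotopyCategory.quotient _ _).obj 0, Functor.map_isZero _ (isZero_zero _), by
      rw [𝒜₀_quotient_obj_iff]
      exact H.zero⟩

lemma isStableUnderShift : (𝒜₀ kf).IsStableUnderShift ℤ where
  isStableUnderShiftBy n :=
    { le_shift K hK := by
        obtain ⟨K : CochainComplex _ _, rfl⟩ := K.quotient_obj_surjective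
        rw [𝒜₀_quotient_obj_iff] at hK
        rw [ObjectProperty.prop_shift_iff, HomotopyCategory.shift_quotient_obj,
          𝒜₀_quotient_obj_iff]
        exact H.shift K n hK }

set_option backward.defeqAttrib.useBackward true in
set_option backward.isDefEq.respectTransparency false in
lemma isTriangulatedClosed₃ : (𝒜₀ kf).IsTriangulatedClosed₃ where
  ext₃' T hT h₁ h₂ := by
    have h₁' : kf T.obj₁.as := (𝒜₀_quotient_obj_iff (kf := kf) T.obj₁.as).1 h₁
    have h₂' : kf T.obj₂.as := (𝒜₀_quotient_obj_iff (kf := kf) T.obj₂.as).1 h₂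
    obtain ⟨f : T.obj₁.as ⟶ T.obj₂.as, hf⟩ := (HomotopyCategory.quotient _ _).map_surjective T.mor₁
    refine ⟨_, ?_,
      ⟨Triangle.π₃.mapIso (isoTriangleOfIso₁₂ T _ hT
        (HomotopyCategory.mappingCone_triangleh_distinguished f)
        (Iso.refl _) (Iso.refl _) ?_)⟩⟩
    · dsimp
      rw [𝒜₀_quotient_obj_iff]
      exact H.cone f h₁' h₂'
    · simp [hf]

lemma isTriangulated₀ : (𝒜₀ kf).IsTriangulated :=
  have := containsZero H
  have := isStableUnderShift H
  have := isTriangulatedClosed₃ H
  { toIsTriangulatedClosed₂ := .of_isTriangulatedClosed₃ }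

omit H

variable (kf) in
/-- complexes homotopy equivalent to a complex in `kf` -/
abbrev 𝒜 : ObjectProperty (HomotopyCategory A (ComplexShape.up ℤ)) := (𝒜₀ kf).isoClosure

variable (A) in
/-- acyclic complexes -/
abbrev ℬ : ObjectProperty (HomotopyCategory A (ComplexShape.up ℤ)) :=
  HomotopyCategory.subcategoryAcyclic A

include H in
lemma isTriangulated : (𝒜 kf).IsTriangulated :=
  have := isTriangulated₀ H
  inferInstance

lemma 𝒜_quotient_obj (K : CochainComplex A ℤ) (hK : kf K) :
    𝒜 kf ((HomotopyCategory.quotient _ _).obj K) :=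
  ObjectProperty.le_isoClosure _ _ ((𝒜₀_quotient_obj_iff K).2 hK)

include H in
lemma hres (X : HomotopyCategory A (ComplexShape.up ℤ)) :
    ∃ (Y : HomotopyCategory A (ComplexShape.up ℤ)) (s : Y ⟶ X), 𝒜 kf Y ∧ (ℬ A).trW s := by
  obtain ⟨G, rfl⟩ := X.quotient_obj_surjective
  obtain ⟨K, q, hK, hq⟩ := H.res G
  refine ⟨(HomotopyCategory.quotient _ _).obj K, (HomotopyCategory.quotient _ _).map q,
    𝒜_quotient_obj K hK, ?_⟩
  rw [← HomotopyCategory.quasiIso_eq_trW_subcategoryAcyclic,
    HomotopyCategory.quotient_map_mem_quasiIso_iff]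
  exact hq

section Derive

variable {B : Type u'} [Category.{v'} B] [Abelian B] [HasDerivedCategory.{w'} B]
  (F : A ⥤ B) [F.Additive]
  (hF : ∀ P : CochainComplex A ℤ, kf P → (∀ i, P.ExactAt i) →
    ∀ i, ((F.mapHomologicalComplex (ComplexShape.up ℤ)).obj P).ExactAt i)

/-- the functor to be derived -/
noncomputable abbrev G : HomotopyCategory A (ComplexShape.up ℤ) ⥤ DerivedCategory B :=
  F.mapHomotopyCategory (ComplexShape.up ℤ) ⋙ DerivedCategory.Qh

omit [F.Additive] in
lemma isZero_Q_obj_of_exactAt (L : CochainComplex B ℤ) (hL : ∀ m, L.ExactAt m) :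
    IsZero (DerivedCategory.Q.obj L) := by
  have hz : IsZero (0 : CochainComplex B ℤ) := isZero_zero _
  have : QuasiIso (0 : L ⟶ (0 : CochainComplex B ℤ)) := by
    rw [quasiIso_iff]
    intro i
    rw [quasiIsoAt_iff_exactAt _ _ (hL i)]
    exact ShortComplex.exact_of_isZero_X₂ _
      ((HomologicalComplex.eval B (ComplexShape.up ℤ) i).map_isZero hz)
  exact IsZero.of_iso (DerivedCategory.Q.map_isZero hz)
    (asIso (DerivedCategory.Q.map (0 : L ⟶ (0 : CochainComplex B ℤ))))

include hF in
lemma isZero_G_obj (Z : HomotopyCategory A (ComplexShape.up ℤ)) (h₁ : 𝒜 kf Z)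
    (h₂ : ℬ A Z) : IsZero ((G F).obj Z) := by
  obtain ⟨Z₀, hZ₀, ⟨e⟩⟩ := h₁
  obtain ⟨K, rfl⟩ := Z₀.quotient_obj_surjective
  replace hZ₀ := (𝒜₀_quotient_obj_iff K).1 hZ₀
  have h₂' := (HomotopyCategory.quotient_obj_mem_subcategoryAcyclic_iff_exactAt K).1
    ((ℬ A).prop_of_iso e h₂)
  refine IsZero.of_iso ?_ ((G F).mapIso e)
  have h := isZero_Q_obj_of_exactAt _ (hF K hZ₀ h₂')
  exact h.of_iso (DerivedCategory.Qh.mapIso
      ((F.mapHomotopyCategoryFactors (ComplexShape.up ℤ)).app K) ≪≫
    (DerivedCategory.quotientCompQhIso B).app _)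

include H hF in
theorem hasLeftDerivedFunctor_aux
    (W₂ : MorphismProperty (HomotopyCategory A (ComplexShape.up ℤ)))
    (hW : W₂ = (ℬ A).trW) : (G F).HasLeftDerivedFunctor W₂ := by
  subst hW
  have := isTriangulated H
  exact TriDerivLeft.hasLeftDerivedFunctor (𝒜 kf) (ℬ A) (hres H) (G F) (isZero_G_obj F hF)

include H hF in
/-- the left derived functor exists -/
theorem hasLeftDerivedFunctor :
    (G F).HasLeftDerivedFunctor (HomotopyCategory.quasiIso A (ComplexShape.up ℤ)) :=
  hasLeftDerivedFunctor_aux H F hF _ (HomotopyCategory.quasiIso_eq_trW_subcategoryAcyclic _)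

include H hF in
theorem isIso_counit_aux
    (W₂ : MorphismProperty (HomotopyCategory A (ComplexShape.up ℤ)))
    (hW : W₂ = (ℬ A).trW) {E : Type*} [Category E]
    (L : HomotopyCategory A (ComplexShape.up ℤ) ⥤ E) [L.IsLocalization W₂]
    (LF : E ⥤ DerivedCategory B) (α : L ⋙ LF ⟶ G F) [LF.IsLeftDerivedFunctor α W₂]
    (K : CochainComplex A ℤ) (hK : kf K) :
    IsIso (α.app ((HomotopyCategory.quotient _ _).obj K)) := by
  subst hW
  have := isTriangulated H
  exact TriDerivLeft.isIso_counit_app (𝒜 kf) (ℬ A) (hres H) (G F) (isZero_G_obj F hF) L LF α _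
    (𝒜_quotient_obj K hK)

include H hF in
/-- the counit of a left derived functor is an isomorphism on complexes in `kf` -/
theorem isIso_counit {E : Type*} [Category E]
    (L : HomotopyCategory A (ComplexShape.up ℤ) ⥤ E)
    [L.IsLocalization (HomotopyCategory.quasiIso A (ComplexShape.up ℤ))]
    (LF : E ⥤ DerivedCategory B) (α : L ⋙ LF ⟶ G F)
    [LF.IsLeftDerivedFunctor α (HomotopyCategory.quasiIso A (ComplexShape.up ℤ))]
    (K : CochainComplex A ℤ) (hK : kf K) :
    IsIso (α.app ((HomotopyCategory.quotient _ _).obj K)) :=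
  isIso_counit_aux H F hF _ (HomotopyCategory.quasiIso_eq_trW_subcategoryAcyclic _) L LF α K hK

end Derive

end Groth.Agent.H5.ResDerivLeft
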