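import Groth.Agent.H33.LeftAbs
import Groth.Agent.H33.DerAdjU
import Groth.Agent.H35.LTensorRing
import Mathlib.CategoryTheory.Functor.Derived.Adjunction
import Mathlib.CategoryTheory.Functor.Derived.PointwiseRightDerived

/-!
# The derived adjunction `- ⊗^L_R A ⊣ restriction of scalars`
-/

set_option autoImplicit false
universe u
open CategoryTheory CategoryTheory.Limits

attribute [local instance] HasDerivedCategory.standard

namespace Groth.Agent.H5.LBaseChangeAdj

variable {R A : Type u} [CommRing R] [CommRing A] (φ : R →+* A) [DRing.HasLBaseChange φ]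

/-- the counit of derived base change -/
noncomputable abbrev α : DerivedCategory.Qh ⋙ DRing.LBaseChange φ ⟶ DRing.baseChangeKh φ :=
  (DRing.baseChangeKh φ).totalLeftDerivedCounit DerivedCategory.Qh
    (HomotopyCategory.quasiIso (ModuleCat.{u} R) (ComplexShape.up ℤ))

/-- restriction of scalars on derived categories is induced by the functor on homotopy
categories -/
noncomputable abbrev βiso : DerivedCategory.Qh ⋙ DRing.restrictD φ ≅
    (ModuleCat.restrictScalars.{u} φ).mapHomotopyCategory (ComplexShape.up ℤ) ⋙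
      DerivedCategory.Qh :=
  (ModuleCat.restrictScalars.{u} φ).mapDerivedCategoryFactorsh

lemma isRightDerivedFunctor_restrictD :
    (DRing.restrictD φ).IsRightDerivedFunctor (βiso φ).inv
      (HomotopyCategory.quasiIso (ModuleCat.{u} A) (ComplexShape.up ℤ)) :=
  Functor.isRightDerivedFunctor_of_inverts _ _ (βiso φ)

lemma isInvertedBy :
    (HomotopyCategory.quasiIso (ModuleCat.{u} A) (ComplexShape.up ℤ)).IsInvertedBy
      ((ModuleCat.restrictScalars.{u} φ).mapHomotopyCategory (ComplexShape.up ℤ) ⋙
        DerivedCategory.Qh) := by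
  rw [← MorphismProperty.IsInvertedBy.iff_of_iso _ (βiso φ)]
  exact MorphismProperty.IsInvertedBy.of_comp _ _
    (Localization.inverts DerivedCategory.Qh _) _

lemma isRightDerivedFunctor_comp :
    (DRing.restrictD φ ⋙ DRing.LBaseChange φ).IsRightDerivedFunctor
      (Functor.whiskerRight (βiso φ).inv (DRing.LBaseChange φ) ≫ (Functor.associator _ _ _).hom)
      (HomotopyCategory.quasiIso (ModuleCat.{u} A) (ComplexShape.up ℤ)) := by
  rw [Functor.isRightDerivedFunctor_iff_of_inverts _ _
    (MorphismProperty.IsInvertedBy.of_comp _ _ (isInvertedBy φ) _)]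
  infer_instance

lemma isLeftDerivedFunctor_comp :
    (DRing.LBaseChange φ ⋙ DRing.restrictD φ).IsLeftDerivedFunctor
      ((Functor.associator _ _ _).inv ≫ Functor.whiskerRight (α φ) (DRing.restrictD φ))
      (HomotopyCategory.quasiIso (ModuleCat.{u} R) (ComplexShape.up ℤ)) :=
  Groth.Agent.H33.LeftAbs.isLeftDerivedFunctor_postcomp' (Groth.Agent.H35.LT.hyp R)
    (ModuleCat.extendScalars.{u, u, u} φ) (Groth.Agent.H35.LT.kfAcyclic_extendScalars φ)
    DerivedCategory.Qh (DRing.LBaseChange φ) (α φ) (DRing.restrictD φ)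

/-- The derived adjunction `- ⊗^L_R A ⊣ restriction of scalars`. -/
noncomputable def adj : DRing.LBaseChange φ ⊣ DRing.restrictD φ :=
  have := isRightDerivedFunctor_restrictD φ
  have := isRightDerivedFunctor_comp φ
  have := isLeftDerivedFunctor_comp φ
  (Groth.Agent.H33.DerAdjU.homotopyAdj (ModuleCat.extendRestrictScalarsAdj.{u, u, u} φ)
    (ComplexShape.up ℤ)).derived
    (HomotopyCategory.quasiIso (ModuleCat.{u} R) (ComplexShape.up ℤ))
    (HomotopyCategory.quasiIso (ModuleCat.{u} A) (ComplexShape.up ℤ)) (α φ) (βiso φ).inv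

end Groth.Agent.H5.LBaseChangeAdj
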