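import Mathlib.Algebra.Homology.HomologicalComplexLimits
import Mathlib.Algebra.Homology.HomologicalComplexAbelian
import Mathlib.Algebra.Homology.ShortComplex.HomologicalComplex
import Mathlib.CategoryTheory.Abelian.GrothendieckAxioms.Colim
import Mathlib.CategoryTheory.Abelian.GrothendieckAxioms.Basic
import Mathlib.CategoryTheory.Abelian.FunctorCategory
import Mathlib.CategoryTheory.Limits.Preserves.Shapes.Products

/-!
# Coproducts of exact complexes are exact when coproducts are exact (AB4)
-/

set_option autoImplicit false
universe w v u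
open CategoryTheory CategoryTheory.Limits

namespace Groth.Agent.H5.AcyclicCoprod

variable {A : Type u} [Category.{v} A] [Abelian A]

/-- Exactness in a functor category can be checked pointwise. -/
lemma exact_of_eval {J : Type*} [Category J] (S : ShortComplex (J ⥤ A))
    (h : ∀ j : J, (S.map ((evaluation J A).obj j)).Exact) : S.Exact := by
  rw [ShortComplex.exact_iff_isZero_homology]
  apply Functor.isZero
  intro j
  exact ((ShortComplex.exact_iff_isZero_homology _).1 (h j)).of_iso
    (S.mapHomologyIso ((evaluation J A).obj j)).symm

lemma exactAt_sigma {J : Type w} (X : J → CochainComplex A ℤ)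
    [HasColimitsOfShape (Discrete J) A] [HasExactColimitsOfShape (Discrete J) A]
    (hX : ∀ p n, (X p).ExactAt n) (n : ℤ) : (∐ X).ExactAt n := by
  rw [HomologicalComplex.exactAt_iff' _ (n - 1) n (n + 1) (by simp) (by simp)]
  let S : ShortComplex (Discrete J ⥤ A) :=
    ShortComplex.mk (X₁ := Discrete.functor (fun p => (X p).X (n - 1)))
      (X₂ := Discrete.functor (fun p => (X p).X n)) (X₃ := Discrete.functor (fun p => (X p).X (n + 1)))
      (Discrete.natTrans (fun p => (X p.as).d (n - 1) n))
      (Discrete.natTrans (fun p => (X p.as).d n (n + 1))) (by ext p; simp)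
  have hS : S.Exact := by
    apply exact_of_eval
    intro p
    have := (HomologicalComplex.exactAt_iff' _ (n - 1) n (n + 1) (by simp) (by simp)).1 (hX p.as n)
    exact this
  have hc : ∀ k : ℤ, IsColimit (Cofan.mk ((∐ X).X k) (fun p => (Sigma.ι X p).f k)) := fun k =>
    isColimitOfHasCoproductOfPreservesColimit (HomologicalComplex.eval A (ComplexShape.up ℤ) k) X
  exact colim.exact_mapShortComplex hS (hc (n - 1)) (hc n) (hc (n + 1)) ((∐ X).d (n - 1) n)
    ((∐ X).d n (n + 1)) (fun p => by simp [S]) (fun p => by simp [S])

end Groth.Agent.H5.AcyclicCoprod
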