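import Groth.Agent.H5.Stalk.PullbackStalkFormula
import Groth.Agent.H5.Stalk.Acyclic
import Mathlib.Algebra.Category.ModuleCat.Monoidal.Adjunction

/-!
# The pullback of modules commutes with tensor products
-/

set_option autoImplicit false
universe u
open CategoryTheory CategoryTheory.Limits AlgebraicGeometry TopologicalSpace Opposite
  MonoidalCategory TensorProduct Groth.Agent.H5.Stalk Groth.Agent.H5.Stalk.Tensor

namespace Groth.Agent.H5.PullbackTensor

variable {X Y : Scheme.{u}} (f : X ⟶ Y)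

section Construction

variable (A B : Y.Modules)

/-- `f^*A ⊗ f^*B` -/
noncomputable abbrev T : X.Modules :=
  CohB1.tensorMod ((Scheme.Modules.pullback f).obj A) ((Scheme.Modules.pullback f).obj B)

lemma unitSec_smul (A : Y.Modules) (V : Y.Opens) (r : Γ(Y, V)) (a : Γ(A, V)) :
    unitSec f A V (r • a) = (f.app V r) • unitSec f A V a :=
  ((Scheme.Modules.pullbackPushforwardAdjunction f).unit.app A).app_smul r a

lemma unitSec_res (A : Y.Modules) {V V' : Y.Opens} (i : V' ⟶ V) (a : Γ(A, V)) :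
    unitSec f A V' (A.presheaf.map i.op a) =
      ((Scheme.Modules.pullback f).obj A).presheaf.map ((Opens.map f.base).map i).op
        (unitSec f A V a) :=
  ConcreteCategory.congr_hom
    (((Scheme.Modules.pullbackPushforwardAdjunction f).unit.app A).mapPresheaf.naturality i.op) a

lemma unitSec_naturality {A A' : Y.Modules} (g : A ⟶ A') (V : Y.Opens) (a : Γ(A, V)) :
    unitSec f A' V (g.app V a) =
      ((Scheme.Modules.pullback f).map g).app (f ⁻¹ᵁ V) (unitSec f A V a) := by
  have h := (Scheme.Modules.pullbackPushforwardAdjunction f).unit.naturality g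
  exact congrArg (fun φ => Scheme.Modules.Hom.app φ V a) h

/-- the pairing on sections -/
noncomputable def secPairP (V : Y.Opens) (a : Γ(A, V)) (b : Γ(B, V)) :
    Γ((Scheme.Modules.pushforward f).obj (T f A B), V) :=
  tm _ _ (f ⁻¹ᵁ V) (unitSec f A V a) (unitSec f B V b)

lemma secPairP_add_left (V : Y.Opens) (a a' : Γ(A, V)) (b : Γ(B, V)) :
    secPairP f A B V (a + a') b = secPairP f A B V a b + secPairP f A B V a' b := by
  unfold secPairP
  rw [map_add, tm_add_left]
  rfl

lemma secPairP_add_right (V : Y.Opens) (a : Γ(A, V)) (b b' : Γ(B, V)) :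
    secPairP f A B V a (b + b') = secPairP f A B V a b + secPairP f A B V a b' := by
  unfold secPairP
  rw [map_add, tm_add_right]
  rfl

lemma secPairP_smul_left (V : Y.Opens) (r : Γ(Y, V)) (a : Γ(A, V)) (b : Γ(B, V)) :
    secPairP f A B V (r • a) b = r • secPairP f A B V a b := by
  unfold secPairP
  rw [unitSec_smul, tm_smul_left]
  rfl

lemma secPairP_smul_right (V : Y.Opens) (r : Γ(Y, V)) (a : Γ(A, V)) (b : Γ(B, V)) :
    secPairP f A B V a (r • b) = r • secPairP f A B V a b := by
  unfold secPairP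
  rw [unitSec_smul, tm_smul_right]
  rfl

lemma secPairP_res {V V' : Y.Opens} (i : V' ⟶ V) (a : Γ(A, V)) (b : Γ(B, V)) :
    secPairP f A B V' (A.presheaf.map i.op a) (B.presheaf.map i.op b) =
      ((Scheme.Modules.pushforward f).obj (T f A B)).presheaf.map i.op (secPairP f A B V a b) := by
  unfold secPairP
  rw [unitSec_res, unitSec_res]
  exact (tm_res _ _ ((Opens.map f.base).map i) _ _).symm

/-- the presheaf morphism `A ⊗ B ⟶ f_*(f^*A ⊗ f^*B)` -/
noncomputable def νPre : (CohB1.tensorPre A B : Y.PresheafOfModules) ⟶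
    (PresheafOfModules.restrictScalars (𝟙 Y.ringCatSheaf.obj)).obj
      ((Scheme.Modules.pushforward f).obj (T f A B)).val where
  app V := ModuleCat.MonoidalCategory.tensorLift (M₁ := (CohB1.toPMod A).obj V)
    (M₂ := (CohB1.toPMod B).obj V)
    (M₃ := ((PresheafOfModules.restrictScalars (𝟙 Y.ringCatSheaf.obj)).obj
      ((Scheme.Modules.pushforward f).obj (T f A B)).val).obj V)
    (fun a b => secPairP f A B V.unop a b)
    (fun a a' b => secPairP_add_left f A B V.unop a a' b)
    (fun r a b => secPairP_smul_left f A B V.unop r a b)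
    (fun a b b' => secPairP_add_right f A B V.unop a b b')
    (fun r a b => secPairP_smul_right f A B V.unop r a b)
  naturality {V V'} i := by
    refine ModuleCat.MonoidalCategory.tensor_ext (fun a b => ?_)
    exact secPairP_res f A B i.unop a b

/-- the morphism `A ⊗ B ⟶ f_*(f^*A ⊗ f^*B)` -/
noncomputable def ν : CohB1.tensorMod A B ⟶ (Scheme.Modules.pushforward f).obj (T f A B) :=
  ((shAdj Y).homEquiv (CohB1.tensorPre A B : Y.PresheafOfModules)
    ((Scheme.Modules.pushforward f).obj (T f A B))).symm (νPre f A B)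

lemma ν_tm (V : Y.Opens) (a : Γ(A, V)) (b : Γ(B, V)) :
    (ν f A B).app V (tm A B V a b) = secPairP f A B V a b := by
  have h : (shAdj Y).homEquiv _ _ (ν f A B) = νPre f A B := Equiv.apply_symm_apply _ _
  rw [Adjunction.homEquiv_unit] at h
  let a' : ↑((CohB1.toPMod A).obj (op V)) := a
  let b' : ↑((CohB1.toPMod B).obj (op V)) := b
  have h2 := congrArg (fun φ => (PresheafOfModules.Hom.app φ (op V)).hom
    (a' ⊗ₜ[↑((Y.sheaf.obj ⋙ forget₂ CommRingCat RingCat).obj (op V))] b')) h
  exact h2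

/-- the comparison morphism `f^*(A ⊗ B) ⟶ f^*A ⊗ f^*B` -/
noncomputable def μ : (Scheme.Modules.pullback f).obj (CohB1.tensorMod A B) ⟶ T f A B :=
  ((Scheme.Modules.pullbackPushforwardAdjunction f).homEquiv _ _).symm (ν f A B)

lemma μ_unitSec_tm (V : Y.Opens) (a : Γ(A, V)) (b : Γ(B, V)) :
    (μ f A B).app (f ⁻¹ᵁ V) (unitSec f (CohB1.tensorMod A B) V (tm A B V a b)) =
      tm _ _ (f ⁻¹ᵁ V) (unitSec f A V a) (unitSec f B V b) := by
  have h : (Scheme.Modules.pullbackPushforwardAdjunction f).homEquiv _ _ (μ f A B) = ν f A B :=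
    Equiv.apply_symm_apply _ _
  rw [Adjunction.homEquiv_unit] at h
  have h2 := congrArg (fun φ => Scheme.Modules.Hom.app φ V (tm A B V a b)) h
  exact h2.trans (ν_tm f A B V a b)

end Construction

section StalkIso

variable (x : X) (A B : Y.Modules)

/-- extension of scalars along the stalk map -/
noncomputable abbrev Ext :
    ModuleCat.{u} (Y.presheaf.stalk (f x)) ⥤ ModuleCat.{u} (X.presheaf.stalk x) :=
  ModuleCat.extendScalars (f.stalkMap x).hom

open ChangeOfRings in
lemma pullbackStalkIso_inv_one_tmul (A : Y.Modules) (V : Y.Opens) (hy : f x ∈ V) (a : Γ(A, V)) :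
    ((pullbackStalkIso f x).inv.app A).hom
      (((1 : X.presheaf.stalk x) ⊗ₜ[Y.presheaf.stalk (f x), (f.stalkMap x).hom]
        (gm (f x) A V hy a : (stalkFunctor (f x)).obj A) : (stalkExt f x).obj A)) =
      gm x ((Scheme.Modules.pullback f).obj A) (f ⁻¹ᵁ V) hy (unitSec f A V a) := by
  rw [← pullbackStalkIso_hom_germ f x A V hy a]
  exact congrArg (fun φ => (ModuleCat.Hom.hom φ) (gm x ((Scheme.Modules.pullback f).obj A)
    (f ⁻¹ᵁ V) hy (unitSec f A V a))) ((pullbackStalkIso f x).hom_inv_id_app A)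

/-- the composite comparing `O_x ⊗ (A_y ⊗ B_y)` and `(O_x ⊗ A_y) ⊗ (O_x ⊗ B_y)` through `μ` -/
noncomputable def chain :
    (Ext f x).obj ((stalkFunctor (f x)).obj A ⊗ (stalkFunctor (f x)).obj B) ⟶
      (Ext f x).obj ((stalkFunctor (f x)).obj A) ⊗ (Ext f x).obj ((stalkFunctor (f x)).obj B) :=
  (Ext f x).map (stalkTensorIso (f x) A B).inv ≫
    (pullbackStalkIso f x).inv.app (CohB1.tensorMod A B) ≫
    (stalkFunctor x).map (μ f A B) ≫
    (stalkTensorIso x ((Scheme.Modules.pullback f).obj A) ((Scheme.Modules.pullback f).obj B)).hom ≫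
    ((pullbackStalkIso f x).hom.app A ⊗ₘ (pullbackStalkIso f x).hom.app B)

open ChangeOfRings in
lemma chain_eq : chain f x A B =
    Functor.OplaxMonoidal.δ (Ext f x) ((stalkFunctor (f x)).obj A) ((stalkFunctor (f x)).obj B) := by
  apply ((ModuleCat.extendRestrictScalarsAdj (f.stalkMap x).hom).homEquiv _ _).injective
  refine ModuleCat.MonoidalCategory.tensor_ext (fun m₁ m₂ => ?_)
  obtain ⟨V, hy, a, b, rfl, rfl⟩ := exists_reps (f x) A B m₁ m₂
  let eA : (Ext f x).obj ((stalkFunctor (f x)).obj A) :=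
    (1 : X.presheaf.stalk x) ⊗ₜ[Y.presheaf.stalk (f x), (f.stalkMap x).hom] gm (f x) A V hy a
  let eB : (Ext f x).obj ((stalkFunctor (f x)).obj B) :=
    (1 : X.presheaf.stalk x) ⊗ₜ[Y.presheaf.stalk (f x), (f.stalkMap x).hom] gm (f x) B V hy b
  have hδ : (Functor.OplaxMonoidal.δ (Ext f x) ((stalkFunctor (f x)).obj A)
      ((stalkFunctor (f x)).obj B)).hom
      ((1 : X.presheaf.stalk x) ⊗ₜ[Y.presheaf.stalk (f x), (f.stalkMap x).hom]
        (gm (f x) A V hy a ⊗ₜ gm (f x) B V hy b)) =
      eA ⊗ₜ[X.presheaf.stalk x] eB :=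
    ModuleCat.extendScalars_δ_tmul (f.stalkMap x).hom _ _ _ _
  have h1 : ((Ext f x).map (stalkTensorIso (f x) A B).inv).hom
      ((1 : X.presheaf.stalk x) ⊗ₜ[Y.presheaf.stalk (f x), (f.stalkMap x).hom]
        (gm (f x) A V hy a ⊗ₜ gm (f x) B V hy b)) =
      ((1 : X.presheaf.stalk x) ⊗ₜ[Y.presheaf.stalk (f x), (f.stalkMap x).hom]
        (gm (f x) (CohB1.tensorMod A B) V hy (tm A B V a b) :
          (stalkFunctor (f x)).obj (CohB1.tensorMod A B))) := by
    have := β_tmul (f x) A B V hy a b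
    exact congrArg (fun t => ((1 : X.presheaf.stalk x) ⊗ₜ[Y.presheaf.stalk (f x),
      (f.stalkMap x).hom] t)) this
  have h2 := pullbackStalkIso_inv_one_tmul f x (CohB1.tensorMod A B) V hy (tm A B V a b)
  have h3 : ((stalkFunctor x).map (μ f A B)).hom
      (gm x _ (f ⁻¹ᵁ V) hy (unitSec f (CohB1.tensorMod A B) V (tm A B V a b))) =
      gm x _ (f ⁻¹ᵁ V) hy (tm _ _ (f ⁻¹ᵁ V) (unitSec f A V a) (unitSec f B V b)) := by
    rw [stalkFunctor_map_gm, μ_unitSec_tm]
  have h4 := γ_tm x ((Scheme.Modules.pullback f).obj A) ((Scheme.Modules.pullback f).obj B)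
    (f ⁻¹ᵁ V) hy (unitSec f A V a) (unitSec f B V b)
  have h5 : ((pullbackStalkIso f x).hom.app A ⊗ₘ (pullbackStalkIso f x).hom.app B).hom
      (gm x ((Scheme.Modules.pullback f).obj A) (f ⁻¹ᵁ V) hy (unitSec f A V a) ⊗ₜ
        gm x ((Scheme.Modules.pullback f).obj B) (f ⁻¹ᵁ V) hy (unitSec f B V b)) =
      eA ⊗ₜ[X.presheaf.stalk x] eB := by
    erw [ModuleCat.MonoidalCategory.tensorHom_tmul]
    rw [pullbackStalkIso_hom_germ, pullbackStalkIso_hom_germ]
  refine Eq.trans ?_ hδ.symm
  change (chain f x A B).hom ((1 : X.presheaf.stalk x) ⊗ₜ[Y.presheaf.stalk (f x),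
    (f.stalkMap x).hom] (gm (f x) A V hy a ⊗ₜ gm (f x) B V hy b)) = _
  unfold chain
  simp only [ModuleCat.hom_comp, LinearMap.comp_apply]
  erw [h1, h2, h3]
  erw [h4, h5]

instance isIso_stalk_μ : IsIso ((stalkFunctor x).map (μ f A B)) := by
  have h : IsIso (chain f x A B) := by
    rw [chain_eq]
    infer_instance
  unfold chain at h
  have h1 := @IsIso.of_isIso_comp_left _ _ _ _ _ _ _ inferInstance h
  have h2 := @IsIso.of_isIso_comp_left _ _ _ _ _ _ _ inferInstance h1
  exact @IsIso.of_isIso_comp_right _ _ _ _ _ _ _ inferInstance h2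

end StalkIso

section Detect

/-- epimorphisms of modules are detected on stalks -/
lemma epi_of_epi_stalkFunctor_map {M N : X.Modules} (φ : M ⟶ N)
    (h : ∀ x : X, Epi ((stalkFunctor x).map φ)) : Epi φ := by
  let S : ShortComplex X.Modules := ShortComplex.mk φ (0 : N ⟶ N) comp_zero
  have hS : S.Exact := by
    rw [shortComplex_exact_iff_stalk]
    intro x
    have : Epi (S.map (stalkFunctor x)).f := h x
    exact (ShortComplex.exact_iff_epi _ ((stalkFunctor x).map_zero _ _)).2 this
  exact (ShortComplex.exact_iff_epi S rfl).1 hS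

/-- isomorphisms of modules are detected on stalks -/
lemma isIso_of_isIso_stalkFunctor_map {M N : X.Modules} (φ : M ⟶ N)
    (h : ∀ x : X, IsIso ((stalkFunctor x).map φ)) : IsIso φ := by
  have : Mono φ := mono_of_mono_stalkFunctor_map φ (fun x => by have := h x; infer_instance)
  have : Epi φ := epi_of_epi_stalkFunctor_map φ (fun x => by have := h x; infer_instance)
  exact isIso_of_mono_of_epi φ

end Detect

instance isIso_μ (A B : Y.Modules) : IsIso (μ f A B) :=
  isIso_of_isIso_stalkFunctor_map _ (fun x => isIso_stalk_μ f x A B)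

/-- `f^*(A ⊗ B) ≅ f^*A ⊗ f^*B` -/
noncomputable def pullbackTensorIso (A B : Y.Modules) :
    (Scheme.Modules.pullback f).obj (CohB1.tensorMod A B) ≅
      CohB1.tensorMod ((Scheme.Modules.pullback f).obj A) ((Scheme.Modules.pullback f).obj B) :=
  asIso (μ f A B)

section Naturality

variable {A B : Y.Modules}

/-- morphisms out of `f^*(A ⊗ B)` are determined by their values on the sections `s ⊗ t` -/
lemma hom_ext_pullback_tensor {M : X.Modules}
    (u v : (Scheme.Modules.pullback f).obj (CohB1.tensorMod A B) ⟶ M)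
    (h : ∀ (V : Y.Opens) (a : Γ(A, V)) (b : Γ(B, V)),
      u.app (f ⁻¹ᵁ V) (unitSec f (CohB1.tensorMod A B) V (tm A B V a b)) =
        v.app (f ⁻¹ᵁ V) (unitSec f (CohB1.tensorMod A B) V (tm A B V a b))) : u = v := by
  apply ((Scheme.Modules.pullbackPushforwardAdjunction f).homEquiv _ _).injective
  rw [Adjunction.homEquiv_unit, Adjunction.homEquiv_unit]
  apply ((shAdj Y).homEquiv (CohB1.tensorPre A B : Y.PresheafOfModules) _).injective
  rw [Adjunction.homEquiv_unit, Adjunction.homEquiv_unit]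
  ext V : 1
  refine ModuleCat.MonoidalCategory.tensor_ext (M₁ := (CohB1.toPMod A).obj V)
    (M₂ := (CohB1.toPMod B).obj V) (fun a b => ?_)
  exact h V.unop a b

lemma μ_naturality {A' B' : Y.Modules} (g : A ⟶ A') (h : B ⟶ B') :
    (Scheme.Modules.pullback f).map (KoszTw.tensorMap g h) ≫ μ f A' B' =
      μ f A B ≫ KoszTw.tensorMap ((Scheme.Modules.pullback f).map g)
        ((Scheme.Modules.pullback f).map h) := by
  refine hom_ext_pullback_tensor f _ _ (fun V a b => ?_)
  change (μ f A' B').app (f ⁻¹ᵁ V) (((Scheme.Modules.pullback f).map (KoszTw.tensorMap g h)).app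
      (f ⁻¹ᵁ V) (unitSec f (CohB1.tensorMod A B) V (tm A B V a b))) =
    (KoszTw.tensorMap ((Scheme.Modules.pullback f).map g)
      ((Scheme.Modules.pullback f).map h)).app (f ⁻¹ᵁ V)
      ((μ f A B).app (f ⁻¹ᵁ V) (unitSec f (CohB1.tensorMod A B) V (tm A B V a b)))
  rw [← unitSec_naturality, μ_unitSec_tm]
  have h1 : (KoszTw.tensorMap g h).app V (tm A B V a b) = tm A' B' V (g.app V a) (h.app V b) :=
    KoszTw.tensorMap_tmul g h V a b
  rw [h1, μ_unitSec_tm]
  have h2 := KoszTw.tensorMap_tmul ((Scheme.Modules.pullback f).map g)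
    ((Scheme.Modules.pullback f).map h) (f ⁻¹ᵁ V) (unitSec f A V a) (unitSec f B V b)
  rw [unitSec_naturality, unitSec_naturality]
  exact h2.symm

lemma μ_naturality_left {A' : Y.Modules} (g : A ⟶ A') (B : Y.Modules) :
    (Scheme.Modules.pullback f).map ((DCoh.tensorBi.map g).app B) ≫ μ f A' B =
      μ f A B ≫ (DCoh.tensorBi.map ((Scheme.Modules.pullback f).map g)).app
        ((Scheme.Modules.pullback f).obj B) := by
  have h := μ_naturality f g (𝟙 B)
  rw [CategoryTheory.Functor.map_id] at h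
  rw [KoszTw.tensorBi_map_app, KoszTw.tensorBi_map_app]
  exact h

lemma μ_naturality_right (A : Y.Modules) {B B' : Y.Modules} (h : B ⟶ B') :
    (Scheme.Modules.pullback f).map ((DCoh.tensorBi.obj A).map h) ≫ μ f A B' =
      μ f A B ≫ (DCoh.tensorBi.obj ((Scheme.Modules.pullback f).obj A)).map
        ((Scheme.Modules.pullback f).map h) := by
  have h' := μ_naturality f (𝟙 A) h
  rw [CategoryTheory.Functor.map_id] at h'
  rw [KoszTw.tensorBi_obj_map, KoszTw.tensorBi_obj_map]
  exact h'

end Naturality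

end Groth.Agent.H5.PullbackTensor
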