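import Groth.Agent.H92.LocFreeRank
import Groth.Agent.H5.PullbackTensor
import Groth.Agent.H45.SheafTensor.Basic
import Groth.Agent.H45.LDer.FlatTot

/-!
# Operations on finite locally free modules: isomorphisms, coproducts with finite support, tensor
products
-/

set_option autoImplicit false
universe u
open CategoryTheory CategoryTheory.Limits AlgebraicGeometry ZeroObject

namespace Groth.Agent.H5.FinLocFreeOps

open Groth.Agent.H92.LocFreeRank

variable {X : Scheme.{u}}

theorem isFinLocFree_of_iso {M N : X.Modules} (e : M ≅ N) (h : FlatMod.IsFinLocFree M) :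
    FlatMod.IsFinLocFree N := by
  intro x
  obtain ⟨U, n, hx, ⟨i⟩⟩ := h x
  exact ⟨U, n, hx, ⟨(Scheme.Modules.restrictFunctor U.ι).mapIso e.symm ≪≫ i⟩⟩

/-- a coproduct of free modules of finite total rank is free -/
noncomputable def sigmaFreeIso {ι : Type} (n : ι → ℕ) [Finite (Σ i, Fin (n i))] :
    (∐ fun i => FlatMod.freeMod X (n i)) ≅ FlatMod.freeMod X (Nat.card (Σ i, Fin (n i))) :=
  sigmaSigmaIso (fun i => Fin (n i)) (fun _ _ => Coh.structureModule X) ≪≫
    Sigma.whiskerEquiv (f := fun _ : (Σ i, Fin (n i)) => Coh.structureModule X)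
      (g := fun _ : Fin (Nat.card (Σ i, Fin (n i))) => Coh.structureModule X)
      (Finite.equivFin _) (fun _ => Iso.refl _)

lemma isZero_freeMod_zero : IsZero (FlatMod.freeMod X 0) := by
  rw [IsZero.iff_id_eq_zero]
  refine Sigma.hom_ext _ _ (fun i => i.elim0)

/-- A coproduct of finite locally free modules, all but finitely many of which vanish, is finite
locally free. -/
theorem isFinLocFree_sigma {ι : Type} (M : ι → X.Modules) (S : Set ι) (hSfin : S.Finite)
    (hS : ∀ i, i ∉ S → IsZero (M i)) (h : ∀ i, FlatMod.IsFinLocFree (M i)) :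
    FlatMod.IsFinLocFree (∐ M) := by
  classical
  intro x
  have key : ∀ i, ∃ (U : X.Opens) (n : ℕ), x ∈ U ∧
      Nonempty ((M i).restrict U.ι ≅ FlatMod.freeMod (↑U) n) ∧ (i ∉ S → U = ⊤ ∧ n = 0) := by
    intro i
    by_cases hi : i ∈ S
    · obtain ⟨U, n, hx, e⟩ := h i x
      exact ⟨U, n, hx, e, fun h' => (h' hi).elim⟩
    · refine ⟨⊤, 0, trivial, ⟨?_⟩, fun _ => ⟨rfl, rfl⟩⟩
      exact ((Scheme.Modules.restrictFunctor _).map_isZero (hS i hi)).iso isZero_freeMod_zero
  choose U n hxU e hUn using key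
  let W : X.Opens := hSfin.toFinset.inf U
  have hxW : x ∈ W := by
    have : (W : Set X) = hSfin.toFinset.inf (fun i => (U i : Set X)) :=
      TopologicalSpace.Opens.coe_finset_inf U hSfin.toFinset
    change x ∈ (W : Set X)
    rw [this]
    simp only [Finset.inf_eq_iInf, Set.iInf_eq_iInter, Set.mem_iInter]
    intro i _
    exact hxU i
  have hWU : ∀ i, W ≤ U i := by
    intro i
    by_cases hi : i ∈ S
    · exact Finset.inf_le (hSfin.mem_toFinset.2 hi)
    · rw [(hUn i hi).1]
      exact le_top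
  have hfin : Finite (Σ i, Fin (n i)) := by
    have : Finite S := hSfin
    refine Finite.of_injective
      (fun p : (Σ i, Fin (n i)) => (⟨⟨p.1, ?_⟩, p.2⟩ : Σ i : S, Fin (n i.1))) ?_
    · by_contra hp
      have := (hUn p.1 hp).2
      exact (Fin.cast this p.2).elim0
    · rintro ⟨i, k⟩ ⟨i', k'⟩ hh
      simp only [Sigma.mk.injEq, Subtype.mk.injEq] at hh
      obtain ⟨rfl, h2⟩ := hh
      simpa using h2
  refine ⟨W, Nat.card (Σ i, Fin (n i)), hxW, ⟨?_⟩⟩
  exact PreservesCoproduct.iso (Scheme.Modules.restrictFunctor W.ι) M ≪≫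
    Sigma.mapIso (fun i => restrictTriv (hWU i) (n i) (e i).some) ≪≫ sigmaFreeIso n

/-- cofan version -/
theorem isFinLocFree_of_isColimit_cofan {ι : Type} (M : ι → X.Modules) (c : Cofan M)
    (hc : IsColimit c) (S : Set ι) (hSfin : S.Finite)
    (hS : ∀ i, i ∉ S → IsZero (M i)) (h : ∀ i, FlatMod.IsFinLocFree (M i)) :
    FlatMod.IsFinLocFree c.pt :=
  isFinLocFree_of_iso ((colimit.isColimit _).coconePointUniqueUpToIso hc)
    (isFinLocFree_sigma M S hSfin hS h)

/-- functoriality of the tensor product in isomorphisms -/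
noncomputable def tensorIso {A A' B B' : X.Modules} (a : A ≅ A') (b : B ≅ B') :
    ((DCoh.tensorBi (X := X)).obj A).obj B ≅ ((DCoh.tensorBi (X := X)).obj A').obj B' :=
  ((DCoh.tensorBi (X := X)).mapIso a).app B ≪≫ ((DCoh.tensorBi (X := X)).obj A').mapIso b

/-- `M ⊗ O^n ≅ M^n` -/
noncomputable def tensorFreeIso (M : X.Modules) (n : ℕ) :
    ((DCoh.tensorBi (X := X)).obj M).obj (FlatMod.freeMod X n) ≅ ∐ fun _ : Fin n => M :=
  haveI : PreservesColimitsOfSize.{u, u} ((DCoh.tensorBi (X := X)).obj M) :=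
    Groth.Agent.H45.preservesColimits_tensorBi_obj (O := X.sheaf) M
  haveI : PreservesColimitsOfSize.{0, 0} ((DCoh.tensorBi (X := X)).obj M) :=
    preservesColimitsOfSize_shrink.{0, u, 0, u} _
  PreservesCoproduct.iso ((DCoh.tensorBi (X := X)).obj M)
      (fun _ : Fin n => Coh.structureModule X) ≪≫
    Sigma.mapIso (fun _ => SecTwist.unitorR M)

/-- restriction to an open commutes with tensor products -/
noncomputable def restrictTensorIso {U : Scheme.{u}} (j : U ⟶ X) [IsOpenImmersion j]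
    (A B : X.Modules) :
    (Scheme.Modules.restrictFunctor j).obj (((DCoh.tensorBi (X := X)).obj A).obj B) ≅
      ((DCoh.tensorBi (X := U)).obj ((Scheme.Modules.restrictFunctor j).obj A)).obj
        ((Scheme.Modules.restrictFunctor j).obj B) :=
  (Scheme.Modules.restrictFunctorIsoPullback j).app _ ≪≫
    Groth.Agent.H5.PullbackTensor.pullbackTensorIso j A B ≪≫
    tensorIso ((Scheme.Modules.restrictFunctorIsoPullback j).app A).symm
      ((Scheme.Modules.restrictFunctorIsoPullback j).app B).symm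

/-- The tensor product of finite locally free modules is finite locally free. -/
theorem isFinLocFree_tensor (A B : X.Modules) (hA : FlatMod.IsFinLocFree A)
    (hB : FlatMod.IsFinLocFree B) :
    FlatMod.IsFinLocFree (((DCoh.tensorBi (X := X)).obj A).obj B) := by
  intro x
  obtain ⟨U₁, m, hx₁, ⟨e₁⟩⟩ := hA x
  obtain ⟨U₂, n, hx₂, ⟨e₂⟩⟩ := hB x
  let W : X.Opens := U₁ ⊓ U₂
  let e₁' := restrictTriv (inf_le_left : W ≤ U₁) m e₁
  let e₂' := restrictTriv (inf_le_right : W ≤ U₂) n e₂
  refine ⟨W, Nat.card (Σ _ : Fin n, Fin m), ⟨hx₁, hx₂⟩, ⟨?_⟩⟩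
  exact restrictTensorIso W.ι A B ≪≫ tensorIso e₁' e₂' ≪≫ tensorFreeIso _ n ≪≫
    sigmaFreeIso (fun _ : Fin n => m)

end Groth.Agent.H5.FinLocFreeOps
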