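import Groth.Agent.H5.LpullComp
import Groth.Agent.H12.RestrictLim
import Groth.Agent.H18.QCohLocal
import Groth.Agent.H44.Retract
import Groth.Agent.H71.QCoh.PullbackProps
import Groth.Agent.H71.QCoh.StalkFree

/-!
# The derived pullback of a perfect complex is perfect
-/

set_option autoImplicit false
universe u
open CategoryTheory CategoryTheory.Limits AlgebraicGeometry ZeroObject

attribute [local instance] HasDerivedCategory.standard

namespace Groth.Agent.H5.PerfectPull

open Lpull FlatTor KFlatScheme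

variable {X Y : Scheme.{u}}

/-- finite locally free modules are quasi-coherent -/
theorem isQuasicoherent_of_isFinLocFree (M : X.Modules) (h : FlatMod.IsFinLocFree M) :
    M.IsQuasicoherent := by
  choose U n hxU e using h
  refine Groth.Agent.H18.isQuasicoherent_of_isOpenCover M U ?_ (fun x => ?_)
  · refine TopologicalSpace.IsOpenCover.mk (eq_top_iff.2 fun x _ => ?_)
    exact TopologicalSpace.Opens.mem_iSup.2 ⟨x, hxU x⟩
  · have := Groth.Agent.H44.isQuasicoherent_freeMod (X := (U x : Scheme.{u})) (n x)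
    exact (SheafOfModules.isQuasicoherent (U x : Scheme.{u}).ringCatSheaf).prop_of_iso
      (e x).some.symm this

/-- finite locally free modules are flat -/
theorem flatMod_of_isFinLocFree (M : X.Modules) (h : FlatMod.IsFinLocFree M) :
    FlatMod.IsFlat M := by
  have := isQuasicoherent_of_isFinLocFree M h
  intro x
  have := Groth.Agent.H71.QCoh.free_stalks_of_isFinLocFree M h x
  exact Module.Flat.of_free

theorem isFinLocFree_pullback (f : X ⟶ Y) (M : Y.Modules) (h : FlatMod.IsFinLocFree M) :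
    FlatMod.IsFinLocFree ((Scheme.Modules.pullback f).obj M) := by
  have := isQuasicoherent_of_isFinLocFree M h
  exact Groth.Agent.H71.QCoh.isFinLocFree_pullback f M h

theorem kfl_of_isStrictlyPerfect (E : CochainComplex X.Modules ℤ) (h : DCoh.IsStrictlyPerfect E) :
    kfl E := by
  obtain ⟨⟨a, b, hab⟩, hfl⟩ := h
  exact kfl_of_flat_of_vanishesOutside E a b hab (fun i => flatMod_of_isFinLocFree _ (hfl i))

theorem isStrictlyPerfect_pullback (f : X ⟶ Y) (E : CochainComplex Y.Modules ℤ)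
    (h : DCoh.IsStrictlyPerfect E) :
    DCoh.IsStrictlyPerfect
      (((Scheme.Modules.pullback f).mapHomologicalComplex (ComplexShape.up ℤ)).obj E) := by
  obtain ⟨⟨a, b, hab⟩, hfl⟩ := h
  exact ⟨⟨a, b, fun i hi => (Scheme.Modules.pullback f).map_isZero (hab i hi)⟩,
    fun i => isFinLocFree_pullback f _ (hfl i)⟩

lemma kfl_of_iso {K L : CochainComplex X.Modules ℤ} (e : K ≅ L) (h : kfl K) : kfl L :=
  ⟨Groth.Agent.H45.isKFlat_of_iso (O := X.sheaf) e h.1,
    fun i => flatMod_of_iso ((HomologicalComplex.eval _ _ i).mapIso e) (h.2 i)⟩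

/-- base change for pullback and restriction to an open -/
noncomputable def bcIso (f : X ⟶ Y) (V : Y.Opens) :
    Scheme.Modules.pullback f ⋙ Scheme.Modules.restrictFunctor (f ⁻¹ᵁ V).ι ≅
      Scheme.Modules.restrictFunctor V.ι ⋙ Scheme.Modules.pullback (f ∣_ V) :=
  Functor.isoWhiskerLeft _ (Scheme.Modules.restrictFunctorIsoPullback _) ≪≫
    Scheme.Modules.pullbackComp _ _ ≪≫
    Scheme.Modules.pullbackCongr (morphismRestrict_ι f V).symm ≪≫
    (Scheme.Modules.pullbackComp _ _).symm ≪≫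
    Functor.isoWhiskerRight (Scheme.Modules.restrictFunctorIsoPullback _).symm _

/-- The derived pullback of a perfect complex is perfect. -/
theorem isPerfect_Lpull (f : X ⟶ Y) [DCoh.HasLpull f] (E₀ : DCoh.D Y) (hE : DCoh.IsPerfect E₀) :
    DCoh.IsPerfect ((DCoh.Lpull f).obj E₀) := by
  intro x
  obtain ⟨V, hxV, hV⟩ := hE (f x)
  refine ⟨f ⁻¹ᵁ V, hxV, fun F ⟨eF⟩ => ?_⟩
  obtain ⟨G, ⟨eG⟩⟩ : ∃ G : CochainComplex Y.Modules ℤ, Nonempty (DerivedCategory.Q.obj G ≅ E₀) :=
    ⟨_, ⟨DerivedCategory.Q.objObjPreimageIso E₀⟩⟩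
  obtain ⟨P, q, hq, hP, hP'⟩ := LpullComp.exists_resolution V.ι G
  have : IsIso (DerivedCategory.Q.map q) := by
    rw [DerivedCategory.isIso_Q_map_iff_quasiIso]
    exact hq
  let eP : DCoh.toD Y P ≅ E₀ := asIso (DerivedCategory.Q.map q) ≪≫ eG
  obtain ⟨E, hE, ⟨e⟩⟩ := hV P ⟨eP⟩
  have hPV : kfl ((DCoh.restrictCx V).obj P) :=
    kfl_of_iso ((NatIso.mapHomologicalComplex
      (Scheme.Modules.restrictFunctorIsoPullback V.ι) _).app P).symm hP'
  have hEk := kfl_of_isStrictlyPerfect E hE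
  have := Lpull.hasLpull (f ∣_ V)
  refine ⟨((Scheme.Modules.pullback (f ∣_ V)).mapHomologicalComplex (ComplexShape.up ℤ)).obj E,
    isStrictlyPerfect_pullback _ E hE, ⟨?_⟩⟩
  let R := Scheme.Modules.restrictFunctor (f ⁻¹ᵁ V).ι
  let i1 : DerivedCategory.Q.obj ((DCoh.restrictCx (f ⁻¹ᵁ V)).obj F) ≅
      DerivedCategory.Q.obj ((DCoh.restrictCx (f ⁻¹ᵁ V)).obj
        (((Scheme.Modules.pullback f).mapHomologicalComplex (ComplexShape.up ℤ)).obj P)) :=
    (R.mapDerivedCategoryFactors.app F).symm ≪≫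
      R.mapDerivedCategory.mapIso (eF ≪≫ (DCoh.Lpull f).mapIso eP.symm ≪≫ LpullIso f P hP) ≪≫
      R.mapDerivedCategoryFactors.app _
  let i2 : DerivedCategory.Q.obj ((DCoh.restrictCx (f ⁻¹ᵁ V)).obj
        (((Scheme.Modules.pullback f).mapHomologicalComplex (ComplexShape.up ℤ)).obj P)) ≅
      DerivedCategory.Q.obj (((Scheme.Modules.pullback (f ∣_ V)).mapHomologicalComplex
        (ComplexShape.up ℤ)).obj ((DCoh.restrictCx V).obj P)) :=
    DerivedCategory.Q.mapIso ((NatIso.mapHomologicalComplex (bcIso f V) (ComplexShape.up ℤ)).app P)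
  exact i1 ≪≫ i2 ≪≫ (LpullIso (f ∣_ V) _ hPV).symm ≪≫ (DCoh.Lpull (f ∣_ V)).mapIso e ≪≫
    LpullIso (f ∣_ V) E hEk

end Groth.Agent.H5.PerfectPull
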