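import Mathlib
import Groth.Prelude.Def_FlatMod2

/-!
# The pullback of the structure sheaf is the structure sheaf; pullbacks of free modules
-/

set_option autoImplicit false
universe u
open CategoryTheory CategoryTheory.Limits AlgebraicGeometry TopologicalSpace Opposite

namespace Groth.Agent.H5.PullbackUnit

variable {X Y : Scheme.{u}} (f : X ⟶ Y)

instance final_opensMap : (Opens.map f.base).Final where
  out U := by
    let T : StructuredArrow U (Opens.map f.base) :=
      StructuredArrow.mk (Y := (⊤ : Opens Y)) (homOfLE (fun _ _ => trivial))
    have hT : IsTerminal T := by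
      refine IsTerminal.ofUniqueHom (fun A => StructuredArrow.homMk (homOfLE le_top)
        (Subsingleton.elim _ _)) (fun A m => ?_)
      ext
      exact Subsingleton.elim _ _
    have : HasTerminal (StructuredArrow U (Opens.map f.base)) := hT.hasTerminal
    exact isConnected_of_hasTerminal _

set_option backward.isDefEq.respectTransparency.types false in
instance isIso_pullbackObjUnitToUnit :
    IsIso (SheafOfModules.pullbackObjUnitToUnit f.toRingCatSheafHom) :=
  SheafOfModules.instIsIsoPullbackObjUnitToUnitOfFinal _

set_option backward.isDefEq.respectTransparency.types false in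
/-- `f^* O_Y ≅ O_X` -/
noncomputable def pullbackUnitIso :
    (Scheme.Modules.pullback f).obj (Coh.structureModule Y) ≅ Coh.structureModule X :=
  @asIso _ _ _ _ (SheafOfModules.pullbackObjUnitToUnit f.toRingCatSheafHom)
    (isIso_pullbackObjUnitToUnit f)

/-- `f^* O_Y^n ≅ O_X^n` -/
noncomputable def pullbackFreeIso (n : ℕ) :
    (Scheme.Modules.pullback f).obj (FlatMod.freeMod Y n) ≅ FlatMod.freeMod X n :=
  PreservesCoproduct.iso (Scheme.Modules.pullback f) _ ≪≫
    Sigma.mapIso (fun _ => pullbackUnitIso f)

end Groth.Agent.H5.PullbackUnit
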