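import Groth.Agent.H5.TriDerivLeft
import Mathlib.CategoryTheory.Localization.Triangulated
import Mathlib.CategoryTheory.Triangulated.HomologicalFunctor

/-!
# A left derived functor sends distinguished triangles to distinguished triangles (weak form)

In the setting of `TriDerivLeft`, for a distinguished triangle `T` in the localized category,
there is a distinguished triangle in the target whose vertices are the values of the left
derived functor on the vertices of `T`.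
-/

set_option autoImplicit false
open CategoryTheory CategoryTheory.Limits Pretriangulated

namespace Groth.Agent.H5.TriDerivLeftTriangle

variable {C : Type*} [Category C] [HasZeroObject C] [HasShift C ℤ] [Preadditive C]
  [∀ (n : ℤ), (shiftFunctor C n).Additive] [Pretriangulated C] [IsTriangulated C]
  (𝒜 ℬ : ObjectProperty C) [𝒜.IsTriangulated] [ℬ.IsTriangulated]
  [𝒜.IsClosedUnderIsomorphisms] [ℬ.IsClosedUnderIsomorphisms]
  (hres : ∀ X : C, ∃ (Y : C) (s : Y ⟶ X), 𝒜 Y ∧ ℬ.trW s)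
  {D : Type*} [Category D] [HasZeroObject D] [HasShift D ℤ] [Preadditive D]
  [∀ (n : ℤ), (shiftFunctor D n).Additive] [Pretriangulated D]
  (G : C ⥤ D) [G.CommShift ℤ] [G.IsTriangulated]
  (hG : ∀ Z : C, 𝒜 Z → ℬ Z → IsZero (G.obj Z))

include hres in
/-- Every distinguished triangle of `C` receives a morphism in `W` (on each vertex) from a
distinguished triangle with vertices in `𝒜`. -/
lemma exists_resolution_triangle (T₁ : Triangle C) (hT₁ : T₁ ∈ distTriang C) :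
    ∃ (T₀ : Triangle C) (_ : T₀ ∈ distTriang C) (a : T₀.obj₁ ⟶ T₁.obj₁)
      (b : T₀.obj₂ ⟶ T₁.obj₂) (c : T₀.obj₃ ⟶ T₁.obj₃),
      𝒜 T₀.obj₁ ∧ 𝒜 T₀.obj₂ ∧ 𝒜 T₀.obj₃ ∧ ℬ.trW a ∧ ℬ.trW b ∧ ℬ.trW c := by
  obtain ⟨Y', sY, hY', hsY⟩ := hres T₁.obj₂
  let φ : ℬ.trW.LeftFraction T₁.obj₁ Y' := ⟨T₁.mor₁, sY, hsY⟩
  obtain ⟨ψ, hψ⟩ := φ.exists_rightFraction
  obtain ⟨X', t, hX', ht⟩ := hres ψ.X'
  obtain ⟨Z', g', h', hT₀⟩ := distinguished_cocone_triangle (t ≫ ψ.f)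
  have ha : ℬ.trW (t ≫ ψ.s) := ℬ.trW.comp_mem _ _ ht ψ.hs
  obtain ⟨c, hc, -, -⟩ := MorphismProperty.compatible_with_triangulation
    (Triangle.mk (t ≫ ψ.f) g' h') T₁ hT₀ hT₁ (t ≫ ψ.s) sY ha hsY (by
      change (t ≫ ψ.f) ≫ sY = (t ≫ ψ.s) ≫ T₁.mor₁
      rw [Category.assoc, Category.assoc]
      exact congrArg (t ≫ ·) hψ.symm)
  exact ⟨Triangle.mk (t ≫ ψ.f) g' h', hT₀, t ≫ ψ.s, sY, c, hX', hY',
    𝒜.ext_of_isTriangulatedClosed₃ _ hT₀ hX' hY', ha, hsY, hc⟩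

include hres hG in
/-- Weak triangulatedness of the left derived functor. -/
theorem exists_distTriang {E : Type*} [Category E] [HasZeroObject E] [HasShift E ℤ]
    [Preadditive E] [∀ (n : ℤ), (shiftFunctor E n).Additive] [Pretriangulated E]
    (L : C ⥤ E) [L.CommShift ℤ] [L.IsTriangulated] [L.IsLocalization ℬ.trW]
    [L.mapArrow.EssSurj]
    (LG : E ⥤ D) (α : L ⋙ LG ⟶ G) [LG.IsLeftDerivedFunctor α ℬ.trW]
    (T : Triangle E) (hT : T ∈ distTriang E) :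
    ∃ T' ∈ distTriang D, Nonempty (T'.obj₁ ≅ LG.obj T.obj₁) ∧
      Nonempty (T'.obj₂ ≅ LG.obj T.obj₂) ∧ Nonempty (T'.obj₃ ≅ LG.obj T.obj₃) := by
  rw [L.distTriang_iff] at hT
  obtain ⟨T₁, e, hT₁⟩ := hT
  obtain ⟨T₀, hT₀, a, b, c, h₁, h₂, h₃, ha, hb, hc⟩ :=
    exists_resolution_triangle 𝒜 ℬ hres T₁ hT₁
  have := Localization.inverts L ℬ.trW a ha
  have := Localization.inverts L ℬ.trW b hb
  have := Localization.inverts L ℬ.trW c hc
  have := TriDerivLeft.isIso_counit_app 𝒜 ℬ hres G hG L LG α _ h₁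
  have := TriDerivLeft.isIso_counit_app 𝒜 ℬ hres G hG L LG α _ h₂
  have := TriDerivLeft.isIso_counit_app 𝒜 ℬ hres G hG L LG α _ h₃
  refine ⟨G.mapTriangle.obj T₀, G.map_distinguished _ hT₀, ⟨?_⟩, ⟨?_⟩, ⟨?_⟩⟩
  · exact (asIso (α.app T₀.obj₁)).symm ≪≫ LG.mapIso (asIso (L.map a)) ≪≫
      LG.mapIso (Triangle.π₁.mapIso e).symm
  · exact (asIso (α.app T₀.obj₂)).symm ≪≫ LG.mapIso (asIso (L.map b)) ≪≫
      LG.mapIso (Triangle.π₂.mapIso e).symm
  · exact (asIso (α.app T₀.obj₃)).symm ≪≫ LG.mapIso (asIso (L.map c)) ≪≫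
      LG.mapIso (Triangle.π₃.mapIso e).symm

end Groth.Agent.H5.TriDerivLeftTriangle
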