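import Groth.Agent.H5.PerfectTensor

/-!
# Perfect objects are locally bounded complexes of finite free modules
-/

set_option autoImplicit false
universe u
open CategoryTheory CategoryTheory.Limits AlgebraicGeometry ZeroObject HomologicalComplex

attribute [local instance] HasDerivedCategory.standard

namespace Groth.Agent.H5.PerfectFree

open Groth.Agent.H92.LocFreeRank Groth.Agent.H5.FinLocFreeOps Groth.Agent.H5.PerfectTensor

variable {X : Scheme.{u}}

/-- free modules are finite locally free -/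
theorem isFinLocFree_freeMod (n : ℕ) : FlatMod.IsFinLocFree (FlatMod.freeMod X n) :=
  fun _ => ⟨⊤, n, trivial, ⟨restrictFreeIso _ n⟩⟩

/-- a trivialisation over an open `U` induces one over any open immersion landing in `U` -/
noncomputable def restrictTrivOfRange {V W : Scheme.{u}} (j : W ⟶ V) [IsOpenImmersion j]
    (M : V.Modules) (U : V.Opens) (hU : Set.range j ⊆ (U : Set V)) (n : ℕ)
    (e : M.restrict U.ι ≅ FlatMod.freeMod (↑U) n) :
    (Scheme.Modules.restrictFunctor j).obj M ≅ FlatMod.freeMod W n :=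
  have hr : Set.range j ⊆ Set.range U.ι := by simpa using hU
  haveI : IsOpenImmersion (IsOpenImmersion.lift U.ι j hr ≫ U.ι) := by
    rw [IsOpenImmersion.lift_fac]; infer_instance
  haveI : IsOpenImmersion (IsOpenImmersion.lift U.ι j hr) :=
    IsOpenImmersion.of_comp _ U.ι
  (Scheme.Modules.restrictFunctorCongr (IsOpenImmersion.lift_fac U.ι j hr).symm).app M ≪≫
    (Scheme.Modules.restrictFunctorComp (IsOpenImmersion.lift U.ι j hr) U.ι).app M ≪≫
    (Scheme.Modules.restrictFunctor (IsOpenImmersion.lift U.ι j hr)).mapIso e ≪≫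
    restrictFreeIso (IsOpenImmersion.lift U.ι j hr) n

/-- the terms of a strictly perfect complex are simultaneously free near a point -/
theorem exists_open_free_terms (E : CochainComplex X.Modules ℤ) (hE : DCoh.IsStrictlyPerfect E)
    (x : X) : ∃ U : X.Opens, x ∈ U ∧
      ∀ i : ℤ, ∃ n : ℕ, Nonempty ((E.X i).restrict U.ι ≅ FlatMod.freeMod (↑U) n) := by
  classical
  obtain ⟨⟨a, b, hab⟩, hf⟩ := hE
  have key : ∀ i : ℤ, ∃ (U : X.Opens) (n : ℕ), x ∈ U ∧
      Nonempty ((E.X i).restrict U.ι ≅ FlatMod.freeMod (↑U) n) ∧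
        (i ∉ Finset.Icc a b → U = ⊤ ∧ n = 0) := by
    intro i
    by_cases hi : i ∈ Finset.Icc a b
    · obtain ⟨U, n, hx, e⟩ := hf i x
      exact ⟨U, n, hx, e, fun h' => (h' hi).elim⟩
    · refine ⟨⊤, 0, trivial, ⟨?_⟩, fun _ => ⟨rfl, rfl⟩⟩
      have hz : IsZero (E.X i) := by
        refine hab i ?_
        simp only [Finset.mem_Icc, not_and_or, not_le] at hi
        exact hi
      exact ((Scheme.Modules.restrictFunctor _).map_isZero hz).iso isZero_freeMod_zero
  choose U n hxU e hUn using key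
  let W : X.Opens := (Finset.Icc a b).inf U
  have hxW : x ∈ W := by
    have : (W : Set X) = (Finset.Icc a b).inf (fun i => (U i : Set X)) :=
      TopologicalSpace.Opens.coe_finset_inf U (Finset.Icc a b)
    change x ∈ (W : Set X)
    rw [this]
    simp only [Finset.inf_eq_iInf, Set.iInf_eq_iInter, Set.mem_iInter]
    intro i _
    exact hxU i
  have hWU : ∀ i, W ≤ U i := by
    intro i
    by_cases hi : i ∈ Finset.Icc a b
    · exact Finset.inf_le hi
    · rw [(hUn i hi).1]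
      exact le_top
  exact ⟨W, hxW, fun i => ⟨n i, ⟨restrictTriv (hWU i) (n i) (e i).some⟩⟩⟩

theorem isPerfect_iff (E : DCoh.D X) :
    DCoh.IsPerfect E ↔ ∀ x : X, ∃ V : X.Opens, x ∈ V ∧
      ∀ F : CochainComplex X.Modules ℤ, Nonempty (DCoh.toD X F ≅ E) →
        ∃ (P : CochainComplex (V : Scheme.{u}).Modules ℤ) (a b : ℤ), DCoh.VanishesOutside P a b ∧
          (∀ i : ℤ, ∃ n : ℕ, Nonempty (P.X i ≅ FlatMod.freeMod (V : Scheme.{u}) n)) ∧
          Nonempty (DerivedCategory.Q.obj ((DCoh.restrictCx V).obj F) ≅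
            DerivedCategory.Q.obj P) := by
  constructor
  · intro hE x
    obtain ⟨V, hxV, hV⟩ := hE x
    obtain ⟨F₀, ⟨eF₀⟩⟩ : ∃ M : CochainComplex X.Modules ℤ,
        Nonempty (DerivedCategory.Q.obj M ≅ E) := ⟨_, ⟨DerivedCategory.Q.objObjPreimageIso E⟩⟩
    obtain ⟨E₀, hE₀, ⟨e₀⟩⟩ := hV F₀ ⟨eF₀⟩
    obtain ⟨U, hxU, hU⟩ := exists_open_free_terms E₀ hE₀ (⟨x, hxV⟩ : (V : Scheme.{u}))
    let V' : X.Opens := V.ι ''ᵁ U
    have hV'V : V' ≤ V := by
      rintro y ⟨u, -, rfl⟩
      exact u.2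
    have hxV' : x ∈ V' := ⟨⟨x, hxV⟩, hxU, rfl⟩
    have hrange : Set.range (X.homOfLE hV'V) ⊆ (U : Set (V : Scheme.{u})) := by
      rintro _ ⟨y, rfl⟩
      obtain ⟨u, hu, huy⟩ := y.2
      have : X.homOfLE hV'V y = u := by
        apply Subtype.ext
        rw [Scheme.homOfLE_apply]
        exact huy.symm
      rw [this]
      exact hu
    refine ⟨V', hxV', fun F ⟨eF⟩ => ?_⟩
    obtain ⟨⟨a, b, hab⟩, -⟩ := hE₀
    let R := Scheme.Modules.restrictFunctor (X.homOfLE hV'V)
    refine ⟨(R.mapHomologicalComplex (ComplexShape.up ℤ)).obj E₀, a, b,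
      fun i hi => R.map_isZero (hab i hi), fun i => ?_, ⟨?_⟩⟩
    · obtain ⟨n, ⟨e⟩⟩ := hU i
      exact ⟨n, ⟨restrictTrivOfRange (X.homOfLE hV'V) (E₀.X i) U hrange n e⟩⟩
    · exact restrictQIso V' (eF ≪≫ eF₀.symm) ≪≫
        DerivedCategory.Q.mapIso (restrictCxLE hV'V F₀) ≪≫
        (R.mapDerivedCategoryFactors.app _).symm ≪≫ R.mapDerivedCategory.mapIso e₀ ≪≫
        R.mapDerivedCategoryFactors.app E₀
  · intro h x
    obtain ⟨V, hxV, hV⟩ := h x
    refine ⟨V, hxV, fun F hF => ?_⟩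
    obtain ⟨P, a, b, hab, hP, e⟩ := hV F hF
    refine ⟨P, ⟨⟨a, b, hab⟩, fun i => ?_⟩, e⟩
    obtain ⟨n, ⟨e'⟩⟩ := hP i
    exact isFinLocFree_of_iso e'.symm (isFinLocFree_freeMod n)

end Groth.Agent.H5.PerfectFree
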