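import Groth.Agent.H5.PCTriangle

/-!
# Direct summands of pseudo-coherent objects
-/

set_option autoImplicit false
universe u
open CategoryTheory CategoryTheory.Limits AlgebraicGeometry ZeroObject HomologicalComplex
  Pretriangulated

attribute [local instance] HasDerivedCategory.standard

namespace Groth.Agent.H5.PCSummand

open CochainComplex Scheme.Modules Groth.Agent.H5.Approx Groth.Agent.H5.PerfectTriangle
  Groth.Agent.H5.PCAlong Groth.Agent.H5.PCTriangle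

variable {X : Scheme.{u}}

/-! ### The pointwise condition for objects of the derived category -/

/-- `K` is `m`-pseudo-coherent at `x` -/
def IsPCAtD (m : ℤ) (K : DCoh.D X) (x : X) : Prop :=
  ∃ M : CochainComplex X.Modules ℤ, Nonempty (DerivedCategory.Q.obj M ≅ K) ∧ IsPCAt m M x

lemma isPCAtD_iff {m : ℤ} {K : DCoh.D X} {M : CochainComplex X.Modules ℤ}
    (e : DerivedCategory.Q.obj M ≅ K) (x : X) : IsPCAtD m K x ↔ IsPCAt m M x := by
  constructor
  · rintro ⟨M', ⟨e'⟩, h⟩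
    exact isPCAt_of_iso (e' ≪≫ e.symm) x h
  · intro h
    exact ⟨M, ⟨e⟩, h⟩

lemma isPseudoCoherentD_iff_forall (m : ℤ) (K : DCoh.D X) :
    DCoh.IsPseudoCoherentD m K ↔ ∀ x : X, IsPCAtD m K x := by
  obtain ⟨M, ⟨e⟩⟩ : ∃ M : CochainComplex X.Modules ℤ, Nonempty (DerivedCategory.Q.obj M ≅ K) :=
    ⟨_, ⟨DerivedCategory.Q.objObjPreimageIso K⟩⟩
  rw [isPseudoCoherentD_iff e m]
  exact forall_congr' (fun x => (isPCAtD_iff e x).symm)

lemma isPCAtD_of_iso {m : ℤ} {K L : DCoh.D X} (e : K ≅ L) (x : X) (h : IsPCAtD m K x) :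
    IsPCAtD m L x := by
  obtain ⟨M, ⟨e'⟩, h⟩ := h
  exact ⟨M, ⟨e' ≪≫ e⟩, h⟩

lemma isPCAtD_of_le {m m' : ℤ} (hm : m ≤ m') {K : DCoh.D X} (x : X) (h : IsPCAtD m K x) :
    IsPCAtD m' K x := by
  obtain ⟨M, ⟨e'⟩, h⟩ := h
  exact ⟨M, ⟨e'⟩, isPCAt_of_le hm M x h⟩

theorem isPCAtD_obj₃ (m : ℤ) (T : Triangle (DCoh.D X)) (hT : T ∈ distTriang (DCoh.D X)) (x : X)
    (h₁ : IsPCAtD (m + 1) T.obj₁ x) (h₂ : IsPCAtD m T.obj₂ x) : IsPCAtD m T.obj₃ x := by
  obtain ⟨M₁, M₂, φ, ⟨eT⟩⟩ := (DerivedCategory.mem_distTriang_iff T).1 hT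
  have e₁ : DerivedCategory.Q.obj M₁ ≅ T.obj₁ := (Triangle.π₁.mapIso eT).symm
  have e₂ : DerivedCategory.Q.obj M₂ ≅ T.obj₂ := (Triangle.π₂.mapIso eT).symm
  have e₃ : DerivedCategory.Q.obj (mappingCone φ) ≅ T.obj₃ := (Triangle.π₃.mapIso eT).symm
  rw [isPCAtD_iff e₃]
  exact isPCAt_mappingCone φ m x ((isPCAtD_iff e₁ x).1 h₁) ((isPCAtD_iff e₂ x).1 h₂)

/-! ### Boundedness -/

/-- the cohomology of `j^*M` vanishes in degrees `> N` -/
def IsBddAboveAlong (N : ℤ) {W : Scheme.{u}} (j : W ⟶ X) [IsOpenImmersion j]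
    (M : CochainComplex X.Modules ℤ) : Prop :=
  ∀ i : ℤ, N < i →
    IsZero ((DerivedCategory.homologyFunctor W.Modules i).obj
      (DerivedCategory.Q.obj ((resCx j).obj M)))

lemma isZero_homology_of_isZero_X {A : Type*} [Category A] [Abelian A] [HasDerivedCategory A]
    (E : CochainComplex A ℤ) (i : ℤ) (h : IsZero (E.X i)) :
    IsZero ((DerivedCategory.homologyFunctor A i).obj (DerivedCategory.Q.obj E)) := by
  refine IsZero.of_iso ?_ ((DerivedCategory.homologyFunctorFactors A i).app E)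
  change IsZero (E.homology i)
  rw [← HomologicalComplex.exactAt_iff_isZero_homology]
  exact HomologicalComplex.ExactAt.of_isZero h

/-- pseudo-coherence implies boundedness above -/
lemma exists_bdd {m : ℤ} {W : Scheme.{u}} {j : W ⟶ X} [IsOpenImmersion j]
    {M : CochainComplex X.Modules ℤ} (h : IsPCChainAlong m j M) :
    ∃ N : ℤ, m ≤ N ∧ IsBddAboveAlong N j M := by
  obtain ⟨E, β, ⟨⟨a, b, hab⟩, -⟩, hβ⟩ := h
  refine ⟨max m b, le_max_left _ _, fun i hi => ?_⟩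
  have hiso := hβ.1 i (lt_of_le_of_lt (le_max_left _ _) hi)
  have hz := isZero_homology_of_isZero_X E i (hab i (Or.inr (lt_of_le_of_lt (le_max_right _ _) hi)))
  exact hz.of_iso (asIso ((DerivedCategory.homologyFunctor _ i).map
    (DerivedCategory.Q.map β))).symm

lemma IsBddAboveAlong.of_retract {N : ℤ} {W : Scheme.{u}} (j : W ⟶ X) [IsOpenImmersion j]
    {M M' : CochainComplex X.Modules ℤ}
    (s : DerivedCategory.Q.obj M' ⟶ DerivedCategory.Q.obj M)
    (r : DerivedCategory.Q.obj M ⟶ DerivedCategory.Q.obj M') (hsr : s ≫ r = 𝟙 _)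
    (h : IsBddAboveAlong N j M) : IsBddAboveAlong N j M' := by
  intro i hi
  let R := restrictFunctor j
  let s' : DerivedCategory.Q.obj ((resCx j).obj M') ⟶ DerivedCategory.Q.obj ((resCx j).obj M) :=
    R.mapDerivedCategoryFactors.inv.app M' ≫ R.mapDerivedCategory.map s ≫
      R.mapDerivedCategoryFactors.hom.app M
  let r' : DerivedCategory.Q.obj ((resCx j).obj M) ⟶ DerivedCategory.Q.obj ((resCx j).obj M') :=
    R.mapDerivedCategoryFactors.inv.app M ≫ R.mapDerivedCategory.map r ≫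
      R.mapDerivedCategoryFactors.hom.app M'
  have hsr' : s' ≫ r' = 𝟙 _ := by
    simp [s', r', ← Functor.map_comp_assoc, hsr]
    rfl
  have h0 : (DerivedCategory.homologyFunctor W.Modules i).map s' = 0 := (h i hi).eq_of_tgt _ _
  have h1 : 𝟙 ((DerivedCategory.homologyFunctor W.Modules i).obj
      (DerivedCategory.Q.obj ((resCx j).obj M'))) =
      (DerivedCategory.homologyFunctor W.Modules i).map s' ≫
        (DerivedCategory.homologyFunctor W.Modules i).map r' := by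
    rw [← CategoryTheory.Functor.map_comp, hsr', CategoryTheory.Functor.map_id]
  rw [IsZero.iff_id_eq_zero, h1, h0, zero_comp]

lemma isStrictlyPerfect_zero {Y : Scheme.{u}} :
    DCoh.IsStrictlyPerfect (0 : CochainComplex Y.Modules ℤ) := by
  have hz : ∀ i : ℤ, IsZero ((0 : CochainComplex Y.Modules ℤ).X i) := fun i =>
    (HomologicalComplex.eval _ _ i).map_isZero (isZero_zero _)
  exact ⟨⟨0, 0, fun i _ => hz i⟩, fun i => isFinLocFree_of_isZero _ (hz i)⟩

lemma IsBddAboveAlong.isPCChainAlong {N : ℤ} {W : Scheme.{u}} (j : W ⟶ X) [IsOpenImmersion j]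
    {M : CochainComplex X.Modules ℤ} (h : IsBddAboveAlong N j M) :
    IsPCChainAlong (N + 1) j M := by
  refine ⟨0, 0, isStrictlyPerfect_zero, fun i hi => ?_, ?_⟩
  · have h1 : IsZero ((DerivedCategory.homologyFunctor W.Modules i).obj
        (DerivedCategory.Q.obj (0 : CochainComplex W.Modules ℤ))) :=
      isZero_homology_of_isZero_X 0 i
        ((HomologicalComplex.eval _ _ i).map_isZero (isZero_zero _))
    have h2 := h i (by lia)
    exact ⟨⟨0, h1.eq_of_src _ _, h2.eq_of_src _ _⟩⟩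
  · have h2 := h (N + 1) (by lia)
    exact ⟨fun _ _ _ => h2.eq_of_src _ _⟩

/-! ### Direct summands -/

theorem isPCAtD_snd (m : ℤ) (K L : DCoh.D X) (x : X) (hK : IsPCAtD (m + 1) K x)
    (hA : IsPCAtD m (K ⊞ L) x) : IsPCAtD m L x :=
  isPCAtD_obj₃ m (binaryBiproductTriangle K L) (binaryBiproductTriangle_distinguished K L) x hK hA

theorem descend (m : ℤ) (K L : DCoh.D X) (x : X) (hA : IsPCAtD m (K ⊞ L) x) :
    ∀ k : ℕ, IsPCAtD (m + k) K x → IsPCAtD (m + k) L x → IsPCAtD m K x ∧ IsPCAtD m L x := by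
  intro k
  induction k with
  | zero =>
    intro hK hL
    exact ⟨by simpa using hK, by simpa using hL⟩
  | succ k ih =>
    intro hK hL
    have hA' : IsPCAtD (m + k) (K ⊞ L) x := isPCAtD_of_le (by lia) x hA
    have e : (m + (k + 1 : ℕ) : ℤ) = m + k + 1 := by push_cast; ring
    rw [e] at hK hL
    exact ih (isPCAtD_snd (m + k) L K x hL (isPCAtD_of_iso (biprod.braiding K L) x hA'))
      (isPCAtD_snd (m + k) K L x hK hA')

theorem isPCAtD_summands (m : ℤ) (K L : DCoh.D X) (x : X) (hA : IsPCAtD m (K ⊞ L) x) :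
    IsPCAtD m K x ∧ IsPCAtD m L x := by
  obtain ⟨MA, ⟨eA⟩, W, j, _, hx, hj⟩ := hA
  obtain ⟨N, hmN, hN⟩ := exists_bdd hj
  obtain ⟨MK, ⟨eK⟩⟩ : ∃ M : CochainComplex X.Modules ℤ, Nonempty (DerivedCategory.Q.obj M ≅ K) :=
    ⟨_, ⟨DerivedCategory.Q.objObjPreimageIso K⟩⟩
  obtain ⟨ML, ⟨eL⟩⟩ : ∃ M : CochainComplex X.Modules ℤ, Nonempty (DerivedCategory.Q.obj M ≅ L) :=
    ⟨_, ⟨DerivedCategory.Q.objObjPreimageIso L⟩⟩
  have hK : IsPCAtD (N + 1) K x := ⟨MK, ⟨eK⟩, W, j, inferInstance, hx,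
    (hN.of_retract j (eK.hom ≫ biprod.inl ≫ eA.inv) (eA.hom ≫ biprod.fst ≫ eK.inv)
      (by simp)).isPCChainAlong j⟩
  have hL : IsPCAtD (N + 1) L x := ⟨ML, ⟨eL⟩, W, j, inferInstance, hx,
    (hN.of_retract j (eL.hom ≫ biprod.inr ≫ eA.inv) (eA.hom ≫ biprod.snd ≫ eL.inv)
      (by simp)).isPCChainAlong j⟩
  have e : (m + ((N + 1 - m).toNat : ℕ) : ℤ) = N + 1 := by
    rw [Int.toNat_of_nonneg (by lia)]
    ring
  exact descend m K L x ⟨MA, ⟨eA⟩, W, j, inferInstance, hx, hj⟩ (N + 1 - m).toNat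
    (by rw [e]; exact hK) (by rw [e]; exact hL)

theorem summands (m : ℤ) (K L : DCoh.D X) (h : DCoh.IsPseudoCoherentD m (K ⊞ L)) :
    DCoh.IsPseudoCoherentD m K ∧ DCoh.IsPseudoCoherentD m L := by
  rw [isPseudoCoherentD_iff_forall] at h
  rw [isPseudoCoherentD_iff_forall, isPseudoCoherentD_iff_forall]
  exact ⟨fun x => (isPCAtD_summands m K L x (h x)).1, fun x => (isPCAtD_summands m K L x (h x)).2⟩

end Groth.Agent.H5.PCSummand
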