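import Groth.Agent.H5.TriDerivLeftTriangle

/-!
# A left derived functor sends distinguished triangles to distinguished triangles
(stronger form, with compatibility of the first two morphisms)
-/

set_option autoImplicit false
open CategoryTheory CategoryTheory.Limits Pretriangulated

namespace Groth.Agent.H5.TriDerivLeftTriangle2

variable {C : Type*} [Category C] [HasZeroObject C] [HasShift C ℤ] [Preadditive C]
  [∀ (n : ℤ), (shiftFunctor C n).Additive] [Pretriangulated C] [IsTriangulated C]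
  (𝒜 ℬ : ObjectProperty C) [𝒜.IsTriangulated] [ℬ.IsTriangulated]
  [𝒜.IsClosedUnderIsomorphisms] [ℬ.IsClosedUnderIsomorphisms]
  (hres : ∀ X : C, ∃ (Y : C) (s : Y ⟶ X), 𝒜 Y ∧ ℬ.trW s)
  {D : Type*} [Category D] [HasZeroObject D] [HasShift D ℤ] [Preadditive D]
  [∀ (n : ℤ), (shiftFunctor D n).Additive] [Pretriangulated D]
  (G : C ⥤ D) [G.CommShift ℤ] [G.IsTriangulated]
  (hG : ∀ Z : C, 𝒜 Z → ℬ Z → IsZero (G.obj Z))

include hres in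
/-- Every distinguished triangle of `C` receives a morphism in `W` (on each vertex) from a
distinguished triangle with vertices in `𝒜`. -/
lemma exists_resolution_triangle (T₁ : Triangle C) (hT₁ : T₁ ∈ distTriang C) :
    ∃ (T₀ : Triangle C) (_ : T₀ ∈ distTriang C) (a : T₀.obj₁ ⟶ T₁.obj₁)
      (b : T₀.obj₂ ⟶ T₁.obj₂) (c : T₀.obj₃ ⟶ T₁.obj₃),
      𝒜 T₀.obj₁ ∧ 𝒜 T₀.obj₂ ∧ 𝒜 T₀.obj₃ ∧ ℬ.trW a ∧ ℬ.trW b ∧ ℬ.trW c ∧
      T₀.mor₁ ≫ b = a ≫ T₁.mor₁ ∧ T₀.mor₂ ≫ c = b ≫ T₁.mor₂ := by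
  obtain ⟨Y', sY, hY', hsY⟩ := hres T₁.obj₂
  let φ : ℬ.trW.LeftFraction T₁.obj₁ Y' := ⟨T₁.mor₁, sY, hsY⟩
  obtain ⟨ψ, hψ⟩ := φ.exists_rightFraction
  obtain ⟨X', t, hX', ht⟩ := hres ψ.X'
  obtain ⟨Z', g', h', hT₀⟩ := distinguished_cocone_triangle (t ≫ ψ.f)
  have ha : ℬ.trW (t ≫ ψ.s) := ℬ.trW.comp_mem _ _ ht ψ.hs
  have comm : (t ≫ ψ.f) ≫ sY = (t ≫ ψ.s) ≫ T₁.mor₁ := by
    rw [Category.assoc, Category.assoc]
    exact congrArg (t ≫ ·) hψ.symm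
  obtain ⟨c, hc, hc₂, -⟩ := MorphismProperty.compatible_with_triangulation
    (Triangle.mk (t ≫ ψ.f) g' h') T₁ hT₀ hT₁ (t ≫ ψ.s) sY ha hsY comm
  exact ⟨Triangle.mk (t ≫ ψ.f) g' h', hT₀, t ≫ ψ.s, sY, c, hX', hY',
    𝒜.ext_of_isTriangulatedClosed₃ _ hT₀ hX' hY', ha, hsY, hc, comm, hc₂⟩

section

variable {E : Type*} [Category E] (L : C ⥤ E) (LG : E ⥤ D) (α : L ⋙ LG ⟶ G)

lemma sq {X₀ Y₀ X₁ Y₁ : C} {X Y : E} (m₀ : X₀ ⟶ Y₀) (m₁ : X₁ ⟶ Y₁) (m : X ⟶ Y)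
    (a : X₀ ⟶ X₁) (b : Y₀ ⟶ Y₁) (hab : m₀ ≫ b = a ≫ m₁)
    (u : L.obj X₁ ⟶ X) (v : L.obj Y₁ ⟶ Y) (huv : L.map m₁ ≫ v = u ≫ m)
    [IsIso (α.app X₀)] [IsIso (α.app Y₀)] :
    G.map m₀ ≫ inv (α.app Y₀) ≫ LG.map (L.map b) ≫ LG.map v =
      (inv (α.app X₀) ≫ LG.map (L.map a) ≫ LG.map u) ≫ LG.map m := by
  have nat : G.map m₀ ≫ inv (α.app Y₀) = inv (α.app X₀) ≫ LG.map (L.map m₀) := by
    rw [IsIso.comp_inv_eq, Category.assoc, IsIso.eq_inv_comp]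
    exact (α.naturality m₀).symm
  rw [reassoc_of% nat, Category.assoc, Category.assoc]
  congr 1
  rw [← LG.map_comp, ← LG.map_comp, ← LG.map_comp, ← LG.map_comp, ← L.map_comp_assoc, hab,
    L.map_comp_assoc, huv]

end

include hres hG in
/-- Triangulatedness of the left derived functor (up to isomorphisms of the vertices compatible
with the first two morphisms). -/
theorem exists_distTriang {E : Type*} [Category E] [HasZeroObject E] [HasShift E ℤ]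
    [Preadditive E] [∀ (n : ℤ), (shiftFunctor E n).Additive] [Pretriangulated E]
    (L : C ⥤ E) [L.CommShift ℤ] [L.IsTriangulated] [L.IsLocalization ℬ.trW]
    [L.mapArrow.EssSurj]
    (LG : E ⥤ D) (α : L ⋙ LG ⟶ G) [LG.IsLeftDerivedFunctor α ℬ.trW]
    (T : Triangle E) (hT : T ∈ distTriang E) :
    ∃ (T' : Triangle D) (_ : T' ∈ distTriang D) (e₁ : T'.obj₁ ≅ LG.obj T.obj₁)
      (e₂ : T'.obj₂ ≅ LG.obj T.obj₂) (e₃ : T'.obj₃ ≅ LG.obj T.obj₃),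
      T'.mor₁ ≫ e₂.hom = e₁.hom ≫ LG.map T.mor₁ ∧ T'.mor₂ ≫ e₃.hom = e₂.hom ≫ LG.map T.mor₂ := by
  rw [L.distTriang_iff] at hT
  obtain ⟨T₁, e, hT₁⟩ := hT
  obtain ⟨T₀, hT₀, a, b, c, h₁, h₂, h₃, ha, hb, hc, hab, hbc⟩ :=
    exists_resolution_triangle 𝒜 ℬ hres T₁ hT₁
  have := Localization.inverts L ℬ.trW a ha
  have := Localization.inverts L ℬ.trW b hb
  have := Localization.inverts L ℬ.trW c hc
  have := TriDerivLeft.isIso_counit_app 𝒜 ℬ hres G hG L LG α _ h₁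
  have := TriDerivLeft.isIso_counit_app 𝒜 ℬ hres G hG L LG α _ h₂
  have := TriDerivLeft.isIso_counit_app 𝒜 ℬ hres G hG L LG α _ h₃
  refine ⟨G.mapTriangle.obj T₀, G.map_distinguished _ hT₀,
    (asIso (α.app T₀.obj₁)).symm ≪≫ LG.mapIso (asIso (L.map a)) ≪≫
      LG.mapIso (Triangle.π₁.mapIso e).symm,
    (asIso (α.app T₀.obj₂)).symm ≪≫ LG.mapIso (asIso (L.map b)) ≪≫
      LG.mapIso (Triangle.π₂.mapIso e).symm,
    (asIso (α.app T₀.obj₃)).symm ≪≫ LG.mapIso (asIso (L.map c)) ≪≫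
      LG.mapIso (Triangle.π₃.mapIso e).symm, ?_, ?_⟩
  · exact sq G L LG α T₀.mor₁ T₁.mor₁ T.mor₁ a b hab e.inv.hom₁ e.inv.hom₂ e.inv.comm₁
  · exact sq G L LG α T₀.mor₂ T₁.mor₂ T.mor₂ b c hbc e.inv.hom₂ e.inv.hom₃ e.inv.comm₂

end Groth.Agent.H5.TriDerivLeftTriangle2
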