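import Groth.Agent.H5.ResDerivLeftTriangle
import Groth.Agent.H5.TriDerivLeftTriangle2

/-!
# Left derived functors via resolutions: distinguished triangles (stronger form)
-/

set_option autoImplicit false
universe w w' v' u' v u
open CategoryTheory CategoryTheory.Limits Pretriangulated ZeroObject

namespace Groth.Agent.H5.ResDerivLeftTriangle2

open ResDerivLeft

variable {A : Type u} [Category.{v} A] [Abelian A] [HasDerivedCategory.{w} A]
  {kf : ObjectProperty (CochainComplex A ℤ)} (H : Hyp kf)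
  {B : Type u'} [Category.{v'} B] [Abelian B] [HasDerivedCategory.{w'} B]
  (F : A ⥤ B) [F.Additive]
  (hF : ∀ P : CochainComplex A ℤ, kf P → (∀ i, P.ExactAt i) →
    ∀ i, ((F.mapHomologicalComplex (ComplexShape.up ℤ)).obj P).ExactAt i)

include H hF in
theorem exists_distTriang_aux
    (W₂ : MorphismProperty (HomotopyCategory A (ComplexShape.up ℤ)))
    (hW : W₂ = (ℬ A).trW)
    [(DerivedCategory.Qh (C := A)).IsLocalization W₂]
    (LF : DerivedCategory A ⥤ DerivedCategory B) (α : DerivedCategory.Qh ⋙ LF ⟶ G F)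
    [LF.IsLeftDerivedFunctor α W₂]
    (T : Triangle (DerivedCategory A)) (hT : T ∈ distTriang (DerivedCategory A)) :
    ∃ (T' : Triangle (DerivedCategory B)) (_ : T' ∈ distTriang (DerivedCategory B))
      (e₁ : T'.obj₁ ≅ LF.obj T.obj₁) (e₂ : T'.obj₂ ≅ LF.obj T.obj₂)
      (e₃ : T'.obj₃ ≅ LF.obj T.obj₃),
      T'.mor₁ ≫ e₂.hom = e₁.hom ≫ LF.map T.mor₁ ∧
        T'.mor₂ ≫ e₃.hom = e₂.hom ≫ LF.map T.mor₂ := by
  subst hW
  have := isTriangulated H
  exact TriDerivLeftTriangle2.exists_distTriang (𝒜 kf) (ℬ A) (hres H) (G F) (isZero_G_obj F hF)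
    DerivedCategory.Qh LF α T hT

include H hF in
/-- The left derived functor sends a distinguished triangle to a distinguished triangle, up to
isomorphisms on the vertices compatible with the first two morphisms. -/
theorem exists_distTriang
    (LF : DerivedCategory A ⥤ DerivedCategory B) (α : DerivedCategory.Qh ⋙ LF ⟶ G F)
    [LF.IsLeftDerivedFunctor α (HomotopyCategory.quasiIso A (ComplexShape.up ℤ))]
    (T : Triangle (DerivedCategory A)) (hT : T ∈ distTriang (DerivedCategory A)) :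
    ∃ (T' : Triangle (DerivedCategory B)) (_ : T' ∈ distTriang (DerivedCategory B))
      (e₁ : T'.obj₁ ≅ LF.obj T.obj₁) (e₂ : T'.obj₂ ≅ LF.obj T.obj₂)
      (e₃ : T'.obj₃ ≅ LF.obj T.obj₃),
      T'.mor₁ ≫ e₂.hom = e₁.hom ≫ LF.map T.mor₁ ∧
        T'.mor₂ ≫ e₃.hom = e₂.hom ≫ LF.map T.mor₂ :=
  exists_distTriang_aux H F hF _ (HomotopyCategory.quasiIso_eq_trW_subcategoryAcyclic _) LF α T hT

end Groth.Agent.H5.ResDerivLeftTriangle2
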