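import Groth.Agent.H5.LpullComp
import Groth.Agent.H5.ResDerivLeftTriangle2
import Mathlib.Algebra.Homology.DerivedCategory.TStructure

/-!
# The derived pullback: distinguished triangles, right t-exactness, and preservation of
"isomorphism on cohomology in degrees `> m`, epimorphism in degree `m`"
-/

set_option autoImplicit false
universe u
open CategoryTheory CategoryTheory.Limits AlgebraicGeometry ZeroObject Pretriangulated

attribute [local instance] HasDerivedCategory.standard

namespace Groth.Agent.H5.LpullTri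

open Lpull FlatTor KFlatScheme

section Generic

variable {A : Type*} [Category A] [Abelian A] [HasDerivedCategory A]

open DerivedCategory

/-- If the first morphism of a distinguished triangle is an isomorphism on `H^i` for `i > m` and
an epimorphism on `H^m`, the third vertex has no cohomology in degrees `≥ m`. -/
lemma isZero_homology_obj₃ (T : Triangle (DerivedCategory A)) (hT : T ∈ distTriang _) (m : ℤ)
    (h₁ : ∀ i : ℤ, m < i → IsIso ((homologyFunctor A i).map T.mor₁))
    (h₂ : Epi ((homologyFunctor A m).map T.mor₁)) (i : ℤ) (hi : m ≤ i) :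
    IsZero ((homologyFunctor A i).obj T.obj₃) := by
  have hepi : Epi ((homologyFunctor A i).map T.mor₁) := by
    rcases hi.eq_or_lt with rfl | hi'
    · exact h₂
    · have := h₁ i hi'
      infer_instance
  have hmono : Mono ((homologyFunctor A (i + 1)).map T.mor₁) := by
    have := h₁ (i + 1) (by lia)
    infer_instance
  have z₁ := (HomologySequence.epi_homologyMap_mor₁_iff T hT i).1 hepi
  have z₂ := (HomologySequence.mono_homologyMap_mor₁_iff T hT i (i + 1) rfl).1 hmono
  exact (HomologySequence.exact₃ T hT i (i + 1) rfl).isZero_of_both_zeros z₁ z₂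

/-- Converse of `isZero_homology_obj₃`. -/
lemma isIso_homology_mor₁ (T : Triangle (DerivedCategory A)) (hT : T ∈ distTriang _) (m : ℤ)
    (h : ∀ i : ℤ, m ≤ i → IsZero ((homologyFunctor A i).obj T.obj₃)) :
    (∀ i : ℤ, m < i → IsIso ((homologyFunctor A i).map T.mor₁)) ∧
      Epi ((homologyFunctor A m).map T.mor₁) := by
  have hepi : ∀ i : ℤ, m ≤ i → Epi ((homologyFunctor A i).map T.mor₁) := fun i hi =>
    (HomologySequence.epi_homologyMap_mor₁_iff T hT i).2 ((h i hi).eq_of_tgt _ _)
  refine ⟨fun i hi => ?_, hepi m le_rfl⟩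
  have := hepi i hi.le
  have : Mono ((homologyFunctor A i).map T.mor₁) :=
    (HomologySequence.mono_homologyMap_mor₁_iff T hT (i - 1) i (by lia)).2
      ((h (i - 1) (by lia)).eq_of_src _ _)
  exact isIso_of_mono_of_epi _

end Generic

variable {X Y : Scheme.{u}}

/-- The derived pullback sends distinguished triangles to distinguished triangles. -/
theorem exists_distTriang (f : X ⟶ Y) [DCoh.HasLpull f]
    (T : Triangle (DCoh.D Y)) (hT : T ∈ distTriang (DCoh.D Y)) :
    ∃ (T' : Triangle (DCoh.D X)) (_ : T' ∈ distTriang (DCoh.D X))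
      (e₁ : T'.obj₁ ≅ (DCoh.Lpull f).obj T.obj₁) (e₂ : T'.obj₂ ≅ (DCoh.Lpull f).obj T.obj₂)
      (e₃ : T'.obj₃ ≅ (DCoh.Lpull f).obj T.obj₃),
      T'.mor₁ ≫ e₂.hom = e₁.hom ≫ (DCoh.Lpull f).map T.mor₁ ∧
        T'.mor₂ ≫ e₃.hom = e₂.hom ≫ (DCoh.Lpull f).map T.mor₂ :=
  ResDerivLeftTriangle2.exists_distTriang Lpull.hyp (Scheme.Modules.pullback f) (exactAt_pullback f)
    _ ((DCoh.pullKh f).totalLeftDerivedCounit DerivedCategory.Qh
      (HomotopyCategory.quasiIso Y.Modules (ComplexShape.up ℤ))) T hT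

/-- The derived pullback is right t-exact. -/
theorem isZero_homology_Lpull (f : X ⟶ Y) [DCoh.HasLpull f] (C : DCoh.D Y) (n : ℤ)
    (hC : ∀ i : ℤ, n < i → IsZero ((DerivedCategory.homologyFunctor Y.Modules i).obj C))
    (i : ℤ) (hi : n < i) :
    IsZero ((DerivedCategory.homologyFunctor X.Modules i).obj ((DCoh.Lpull f).obj C)) := by
  have hC' : C.IsLE n := (DerivedCategory.isLE_iff C n).2 hC
  obtain ⟨K, hK, ⟨e⟩⟩ := DerivedCategory.exists_iso_Q_obj_of_isLE C n
  obtain ⟨B, q, hB, hflat, hq⟩ := exists_flat_resolution K n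
  have : IsIso (DerivedCategory.Q.map q) := by
    rw [DerivedCategory.isIso_Q_map_iff_quasiIso]
    exact hq
  have hBk : kfl B := ⟨LpullComp.isKFlat_of_isStrictlyLE B n hflat, hflat⟩
  let Φ := (Scheme.Modules.pullback f).mapHomologicalComplex (ComplexShape.up ℤ)
  have hΦ : CochainComplex.IsStrictlyLE (Φ.obj B) n := by
    rw [CochainComplex.isStrictlyLE_iff]
    intro j hj
    exact (Scheme.Modules.pullback f).map_isZero (B.isZero_of_isStrictlyLE n j hj)
  let iso : (DCoh.Lpull f).obj C ≅ DerivedCategory.Q.obj (Φ.obj B) :=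
    (DCoh.Lpull f).mapIso (e ≪≫ (asIso (DerivedCategory.Q.map q)).symm) ≪≫ LpullIso f B hBk
  have : ((DCoh.Lpull f).obj C).IsLE n :=
    DerivedCategory.TStructure.t.isLE_of_iso iso.symm n
  exact DerivedCategory.isZero_of_isLE _ n i hi

/-- If `T.mor₁` is an isomorphism on `H^i` for `i > m` and an epimorphism on `H^m`, so is
`Lf^* T.mor₁`. -/
theorem isIso_homology_Lpull_map_mor₁ (f : X ⟶ Y) [DCoh.HasLpull f]
    (T : Triangle (DCoh.D Y)) (hT : T ∈ distTriang (DCoh.D Y)) (m : ℤ)
    (h₁ : ∀ i : ℤ, m < i → IsIso ((DerivedCategory.homologyFunctor Y.Modules i).map T.mor₁))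
    (h₂ : Epi ((DerivedCategory.homologyFunctor Y.Modules m).map T.mor₁)) :
    (∀ i : ℤ, m < i →
      IsIso ((DerivedCategory.homologyFunctor X.Modules i).map ((DCoh.Lpull f).map T.mor₁))) ∧
    Epi ((DerivedCategory.homologyFunctor X.Modules m).map ((DCoh.Lpull f).map T.mor₁)) := by
  have hC := isZero_homology_obj₃ _ hT m h₁ h₂
  obtain ⟨T', hT', e₁, e₂, e₃, comm, -⟩ := exists_distTriang f _ hT
  have hC' : ∀ i : ℤ, m ≤ i →
      IsZero ((DerivedCategory.homologyFunctor X.Modules i).obj T'.obj₃) := fun i hi =>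
    (isZero_homology_Lpull f T.obj₃ (m - 1) (fun j hj => hC j (by lia)) i (by lia)).of_iso
      ((DerivedCategory.homologyFunctor X.Modules i).mapIso e₃)
  obtain ⟨k₁, k₂⟩ := isIso_homology_mor₁ T' hT' m hC'
  have key : (DCoh.Lpull f).map T.mor₁ = e₁.inv ≫ T'.mor₁ ≫ e₂.hom := by
    rw [comm, Iso.inv_hom_id_assoc]
  rw [key]
  refine ⟨fun i hi => ?_, ?_⟩
  · have := k₁ i hi
    rw [Functor.map_comp, Functor.map_comp]
    infer_instance
  · rw [Functor.map_comp, Functor.map_comp]
    infer_instance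

/-- If `α` is an isomorphism on `H^i` for `i > m` and an epimorphism on `H^m`, so is `Lf^* α`. -/
theorem isIso_homology_Lpull_map (f : X ⟶ Y) [DCoh.HasLpull f] {A B : DCoh.D Y} (α : A ⟶ B)
    (m : ℤ)
    (h₁ : ∀ i : ℤ, m < i → IsIso ((DerivedCategory.homologyFunctor Y.Modules i).map α))
    (h₂ : Epi ((DerivedCategory.homologyFunctor Y.Modules m).map α)) :
    (∀ i : ℤ, m < i →
      IsIso ((DerivedCategory.homologyFunctor X.Modules i).map ((DCoh.Lpull f).map α))) ∧
    Epi ((DerivedCategory.homologyFunctor X.Modules m).map ((DCoh.Lpull f).map α)) := by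
  obtain ⟨C, g, h, hT⟩ := distinguished_cocone_triangle α
  exact isIso_homology_Lpull_map_mor₁ f _ hT m h₁ h₂

end Groth.Agent.H5.LpullTri
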