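import Groth.Agent.H5.LocalNull
import Groth.Agent.H5.LpullTri

/-!
# Local lifting of maps from strictly perfect complexes through maps which are isomorphisms on
cohomology in high degrees
-/

set_option autoImplicit false
universe u
open CategoryTheory CategoryTheory.Limits AlgebraicGeometry ZeroObject HomologicalComplex
  Pretriangulated

attribute [local instance] HasDerivedCategory.standard

namespace Groth.Agent.H5.LocalLiftQis

open CochainComplex

/-- a map to `F` whose composite to the cone of `f : G ⟶ F` is null-homotopic lifts through `f`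
up to homotopy -/
lemma exists_lift_of_homotopy_inr {A : Type*} [Category A] [Abelian A] {K G F : CochainComplex A ℤ}
    (f : G ⟶ F) (u : K ⟶ F) (h : Homotopy (u ≫ mappingCone.inr f) 0) :
    ∃ β : K ⟶ G, Nonempty (Homotopy (β ≫ f) u) := by
  have h0 : (HomotopyCategory.quotient A (ComplexShape.up ℤ)).map u ≫
      (mappingCone.triangleh f).mor₂ = 0 := by
    change (HomotopyCategory.quotient A (ComplexShape.up ℤ)).map u ≫
      (HomotopyCategory.quotient A (ComplexShape.up ℤ)).map (mappingCone.inr f) = 0
    rw [← Functor.map_comp, HomotopyCategory.eq_of_homotopy _ _ h, Functor.map_zero]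
  obtain ⟨g, hg⟩ := Triangle.coyoneda_exact₂ _
    (HomotopyCategory.mappingCone_triangleh_distinguished f) _ h0
  obtain ⟨β, rfl⟩ := (HomotopyCategory.quotient A (ComplexShape.up ℤ)).map_surjective g
  refine ⟨β, ⟨HomotopyCategory.homotopyOfEq _ _ ?_⟩⟩
  rw [Functor.map_comp]
  exact hg.symm

/-- the cone of a map which is an isomorphism on `H^j`, `j > a`, and an epimorphism on `H^a`, is
acyclic in degrees `≥ a` -/
lemma isZero_homology_mappingCone {A : Type*} [Category A] [Abelian A] [HasDerivedCategory A]
    {G F : CochainComplex A ℤ} (f : G ⟶ F) (a : ℤ)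
    (hf : ∀ j : ℤ, a < j → IsIso (HomologicalComplex.homologyMap f j))
    (hfa : Epi (HomologicalComplex.homologyMap f a)) (i : ℤ) (hi : a ≤ i) :
    IsZero ((mappingCone f).homology i) := by
  have key : ∀ j : ℤ, (DerivedCategory.homologyFunctor A j).map (DerivedCategory.Q.map f) =
      (DerivedCategory.homologyFunctorFactors A j).hom.app G ≫
        (HomologicalComplex.homologyFunctor A (ComplexShape.up ℤ) j).map f ≫
          (DerivedCategory.homologyFunctorFactors A j).inv.app F := by
    intro j
    have := (DerivedCategory.homologyFunctorFactors A j).hom.naturality f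
    rw [← Category.assoc, ← this, Category.assoc, Iso.hom_inv_id_app, Category.comp_id]
    rfl
  have h := LpullTri.isZero_homology_obj₃
    (DerivedCategory.Q.mapTriangle.obj (mappingCone.triangle f))
    (DerivedCategory.mappingCone_triangle_distinguished f) a
    (fun j hj => by
      change IsIso ((DerivedCategory.homologyFunctor A j).map (DerivedCategory.Q.map f))
      rw [key j]
      have : IsIso ((HomologicalComplex.homologyFunctor A (ComplexShape.up ℤ) j).map f) := hf j hj
      infer_instance)
    (by
      change Epi ((DerivedCategory.homologyFunctor A a).map (DerivedCategory.Q.map f))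
      rw [key a]
      have : Epi ((HomologicalComplex.homologyFunctor A (ComplexShape.up ℤ) a).map f) := hfa
      infer_instance) i hi
  exact h.of_iso ((DerivedCategory.homologyFunctorFactors A i).app (mappingCone f)).symm

open Scheme.Modules in
theorem locally_lift {X : Scheme.{u}} {E F G : CochainComplex X.Modules ℤ}
    (α : E ⟶ F) (f : G ⟶ F) (hE : DCoh.IsStrictlyPerfect E) (a : ℤ)
    (hEa : ∀ j : ℤ, j < a → IsZero (E.X j))
    (hf : ∀ j : ℤ, a < j → IsIso (HomologicalComplex.homologyMap f j))
    (hfa : Epi (HomologicalComplex.homologyMap f a)) (x : X) :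
    ∃ (V : X.Opens) (β : (DCoh.restrictCx V).obj E ⟶ (DCoh.restrictCx V).obj G), x ∈ V ∧
      Nonempty (Homotopy (β ≫ (DCoh.restrictCx V).map f) ((DCoh.restrictCx V).map α)) := by
  obtain ⟨V, hxV, ⟨H⟩⟩ := LocalNull.locally_nullhomotopic (α ≫ mappingCone.inr f) hE a hEa
    (isZero_homology_mappingCone f a hf hfa) x
  have H' : Homotopy ((DCoh.restrictCx V).map α ≫
      mappingCone.inr ((DCoh.restrictCx V).map f)) 0 := by
    rw [← mappingCone.map_inr f (restrictFunctor V.ι), ← Category.assoc, ← Functor.map_comp]
    exact (H.compRight _).trans (Homotopy.ofEq zero_comp)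
  obtain ⟨β, ⟨Hβ⟩⟩ := exists_lift_of_homotopy_inr _ _ H'
  exact ⟨V, β, hxV, ⟨Hβ⟩⟩

end Groth.Agent.H5.LocalLiftQis
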