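import Groth.Agent.H5.PerfectOfFlatPC

/-!
# Perfect iff pseudo-coherent and locally of finite tor dimension
-/

set_option autoImplicit false
universe u
open CategoryTheory CategoryTheory.Limits AlgebraicGeometry ZeroObject HomologicalComplex
  Pretriangulated

attribute [local instance] HasDerivedCategory.standard

namespace Groth.Agent.H5.PerfectIff

open CochainComplex Scheme.Modules Groth.Agent.H5.Approx Groth.Agent.H5.PerfectTriangle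
  Groth.Agent.H5.PCAlong Groth.Agent.H5.PCTriangle Groth.Agent.H5.PerfectOfFlatPC

variable {X : Scheme.{u}}

/-- pointwise pseudo-coherence restricts to opens -/
lemma isPCAt_restrict {m : ℤ} {V : Scheme.{u}} (j₀ : V ⟶ X) [IsOpenImmersion j₀]
    (F : CochainComplex X.Modules ℤ) (y : V) (h : IsPCAt m F (j₀ y)) :
    IsPCAt m ((resCx j₀).obj F) y := by
  obtain ⟨W, j, _, hx, hj⟩ := h
  have h1 : IsPCChainAlong m (pullback.snd j j₀ ≫ j₀) F :=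
    isPCChainAlong_congr pullback.condition F (isPCChainAlong_comp (pullback.fst j j₀) j F hj)
  obtain ⟨P, β, hP, hβ⟩ := h1
  have hy : j₀ y ∈ Set.range (pullback.snd j j₀ ≫ j₀) := by
    rw [← pullback.condition, IsOpenImmersion.range_pullback_to_base_of_left]
    exact ⟨hx, ⟨y, rfl⟩⟩
  obtain ⟨w, hw⟩ := hy
  refine ⟨pullback j j₀, pullback.snd j j₀, inferInstance, ⟨w, ?_⟩, P,
    β ≫ (resCxCompIso (pullback.snd j j₀) j₀ F).hom, hP, ?_⟩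
  · exact j₀.isOpenEmbedding.injective hw
  · rw [Functor.map_comp]
    exact hβ.comp_iso _

/-- strict perfection along a composite -/
lemma isSPAlong_comp' {V W : Scheme.{u}} (k : W ⟶ V) (j₀ : V ⟶ X) [IsOpenImmersion k]
    [IsOpenImmersion j₀] (F : CochainComplex X.Modules ℤ) (h : IsSPAlong k ((resCx j₀).obj F)) :
    IsSPAlong (k ≫ j₀) F := by
  obtain ⟨E, hE, ⟨e⟩⟩ := h
  exact ⟨E, hE, ⟨DerivedCategory.Q.mapIso (resCxCompIso k j₀ F) ≪≫ e⟩⟩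

theorem isPerfect_of_pc_of_locFiniteTorDim (E : DCoh.D X)
    (hpc : ∀ m : ℤ, DCoh.IsPseudoCoherentD m E) (htd : DCoh.LocHasFiniteTorDim E) :
    DCoh.IsPerfect E := by
  obtain ⟨M, ⟨e⟩⟩ : ∃ M : CochainComplex X.Modules ℤ, Nonempty (DerivedCategory.Q.obj M ≅ E) :=
    ⟨_, ⟨DerivedCategory.Q.objObjPreimageIso E⟩⟩
  refine isPerfect_of_isSPAlong e (fun x => ?_)
  obtain ⟨V, a, b, hxV, hV⟩ := htd x
  obtain ⟨G, hG, hGfl, ⟨eG⟩⟩ := hV M ⟨e⟩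
  have h1 : IsPCAt (a - 1) M (V.ι ⟨x, hxV⟩) := (isPseudoCoherentD_iff e (a - 1)).1 (hpc _) x
  have h2 : IsPCAt (a - 1) G ⟨x, hxV⟩ := isPCAt_of_iso eG.symm _ (isPCAt_restrict V.ι M _ h1)
  obtain ⟨W, k, _, ⟨w, hw⟩, hk⟩ := exists_isSPAlong G a b hG hGfl _ h2
  refine ⟨W, k ≫ V.ι, inferInstance, ⟨w, ?_⟩, isSPAlong_comp' k V.ι M (isSPAlong_of_iso k eG hk)⟩
  change V.ι (k w) = x
  rw [hw]
  rfl

theorem isPseudoCoherentD_of_isPerfect (E : DCoh.D X) (hE : DCoh.IsPerfect E) (m : ℤ) :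
    DCoh.IsPseudoCoherentD m E := by
  intro x
  obtain ⟨V, hxV, hV⟩ := hE x
  refine ⟨V, hxV, fun F hF => ?_⟩
  obtain ⟨E', hE', ⟨i⟩⟩ := hV F hF
  exact ⟨E', i.inv, hE', fun _ _ => inferInstance, inferInstance⟩

theorem locHasFiniteTorDim_of_isPerfect (E : DCoh.D X) (hE : DCoh.IsPerfect E) :
    DCoh.LocHasFiniteTorDim E := by
  obtain ⟨M, ⟨e⟩⟩ : ∃ M : CochainComplex X.Modules ℤ, Nonempty (DerivedCategory.Q.obj M ≅ E) :=
    ⟨_, ⟨DerivedCategory.Q.objObjPreimageIso E⟩⟩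
  intro x
  obtain ⟨V, hxV, hV⟩ := hE x
  obtain ⟨E', ⟨⟨a, b, hab⟩, hfl⟩, ⟨i⟩⟩ := hV M ⟨e⟩
  refine ⟨V, a, b, hxV, fun F' ⟨eF'⟩ => ⟨E', hab,
    fun j => PerfectPull.flatMod_of_isFinLocFree _ (hfl j), ⟨?_⟩⟩⟩
  exact i.symm ≪≫ mapQIso (restrictFunctor V.ι) (e ≪≫ eF'.symm)

theorem isPerfect_iff (E : DCoh.D X) :
    DCoh.IsPerfect E ↔ (∀ m : ℤ, DCoh.IsPseudoCoherentD m E) ∧ DCoh.LocHasFiniteTorDim E :=
  ⟨fun h => ⟨isPseudoCoherentD_of_isPerfect E h, locHasFiniteTorDim_of_isPerfect E h⟩,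
    fun h => isPerfect_of_pc_of_locFiniteTorDim E h.1 h.2⟩

end Groth.Agent.H5.PerfectIff
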