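import Mathlib.Algebra.Homology.Embedding.StupidTrunc
import Mathlib.Algebra.Homology.Embedding.CochainComplex
import Mathlib.Algebra.Homology.ShortComplex.HomologicalComplex

/-!
# The inclusion of the stupid truncation `σ_{≥ p} K ⟶ K` of a cochain complex
-/

set_option autoImplicit false
open CategoryTheory CategoryTheory.Limits ZeroObject HomologicalComplex

namespace Groth.Agent.H5.StupidGE

variable {C : Type*} [Category C] [HasZeroMorphisms C] [HasZeroObject C]

open ComplexShape

/-- the stupid truncation `σ_{≥ p} K` -/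
noncomputable abbrev sigmaGE (K : CochainComplex C ℤ) (p : ℤ) : CochainComplex C ℤ :=
  K.stupidTrunc (embeddingUpIntGE p)

lemma f_toNat (p i : ℤ) (h : p ≤ i) : (embeddingUpIntGE p).f (i - p).toNat = i := by
  rw [embeddingUpIntGE_f]
  lia

/-- the terms of `σ_{≥ p} K` in degrees `≥ p` -/
noncomputable def XIso (K : CochainComplex C ℤ) (p i : ℤ) (h : p ≤ i) :
    (sigmaGE K p).X i ≅ K.X i :=
  K.stupidTruncXIso (embeddingUpIntGE p) (f_toNat p i h)

lemma isZero_X (K : CochainComplex C ℤ) (p i : ℤ) (h : i < p) : IsZero ((sigmaGE K p).X i) := by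
  apply K.isZero_stupidTrunc_X
  exact (notMem_range_embeddingUpIntGE_iff p i).2 h

set_option backward.isDefEq.respectTransparency false in
lemma d_comp_XIso_hom (K : CochainComplex C ℤ) (p i j : ℤ) (hi : p ≤ i) (hj : p ≤ j) :
    (sigmaGE K p).d i j ≫ (XIso K p j hj).hom = (XIso K p i hi).hom ≫ K.d i j := by
  have key : ∀ (a b : ℕ) (i j : ℤ) (ha : (embeddingUpIntGE p).f a = i)
      (hb : (embeddingUpIntGE p).f b = j),
      (sigmaGE K p).d i j ≫ (K.stupidTruncXIso (embeddingUpIntGE p) hb).hom =
        (K.stupidTruncXIso (embeddingUpIntGE p) ha).hom ≫ K.d i j := by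
    intro a b i j ha hb
    subst ha hb
    change ((K.restriction (embeddingUpIntGE p)).extend (embeddingUpIntGE p)).d _ _ ≫ _ = _
    rw [(K.restriction (embeddingUpIntGE p)).extend_d_eq (embeddingUpIntGE p) rfl rfl,
      K.restriction_d_eq (embeddingUpIntGE p) rfl rfl]
    simp [stupidTruncXIso, restrictionXIso]
    exact Category.comp_id _
  exact key _ _ i j _ _

/-- the inclusion `σ_{≥ p} K ⟶ K` -/
noncomputable def ι (K : CochainComplex C ℤ) (p : ℤ) : sigmaGE K p ⟶ K where
  f i := if h : p ≤ i then (XIso K p i h).hom else 0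
  comm' i j hij := by
    by_cases hi : p ≤ i
    · have hj : p ≤ j := by
        have : i + 1 = j := hij
        lia
      rw [dif_pos hi, dif_pos hj]
      exact (d_comp_XIso_hom K p i j hi hj).symm
    · exact (isZero_X K p i (by lia)).eq_of_src _ _

lemma ι_f (K : CochainComplex C ℤ) (p i : ℤ) (h : p ≤ i) :
    (ι K p).f i = (XIso K p i h).hom := dif_pos h

lemma isIso_ι_f (K : CochainComplex C ℤ) (p i : ℤ) (h : p ≤ i) : IsIso ((ι K p).f i) := by
  rw [ι_f K p i h]
  infer_instance

section Homology

variable {D : Type*} [Category D] [Abelian D]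

lemma isIso_homologyMap_ι (K : CochainComplex D ℤ) (p i : ℤ) (h : p < i) :
    IsIso (HomologicalComplex.homologyMap (ι K p) i) := by
  let φ := (HomologicalComplex.shortComplexFunctor D (ComplexShape.up ℤ) i).map (ι K p)
  have h₁ : IsIso φ.τ₁ := by
    change IsIso ((ι K p).f ((ComplexShape.up ℤ).prev i))
    exact isIso_ι_f K p _ (by simp; lia)
  have h₂ : IsIso φ.τ₂ := by
    change IsIso ((ι K p).f i)
    exact isIso_ι_f K p _ (by lia)
  have h₃ : IsIso φ.τ₃ := by
    change IsIso ((ι K p).f ((ComplexShape.up ℤ).next i))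
    exact isIso_ι_f K p _ (by simp; lia)
  exact ShortComplex.isIso_homologyMap_of_epi_of_isIso_of_mono' φ inferInstance h₂ inferInstance

lemma epi_homologyMap_ι (K : CochainComplex D ℤ) (p : ℤ) :
    Epi (HomologicalComplex.homologyMap (ι K p) p) := by
  let φ := (HomologicalComplex.shortComplexFunctor D (ComplexShape.up ℤ) p).map (ι K p)
  have h₂ : IsIso φ.τ₂ := by
    change IsIso ((ι K p).f p)
    exact isIso_ι_f K p _ le_rfl
  have h₃ : IsIso φ.τ₃ := by
    change IsIso ((ι K p).f ((ComplexShape.up ℤ).next p))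
    exact isIso_ι_f K p _ (by simp)
  have hc : IsIso (ShortComplex.cyclesMap φ) :=
    ShortComplex.isIso_cyclesMap_of_isIso_of_mono' φ h₂ inferInstance
  have nat := ShortComplex.homologyπ_naturality φ
  have : Epi (ShortComplex.homologyπ _ ≫ ShortComplex.homologyMap φ) := by
    rw [nat]
    infer_instance
  exact epi_of_epi (ShortComplex.homologyπ _) (ShortComplex.homologyMap φ)

end Homology

end Groth.Agent.H5.StupidGE
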