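import Groth.Agent.H45.SheafTensor.Chase
import Mathlib.RingTheory.Flat.CategoryTheory
import Mathlib.Algebra.Category.ModuleCat.Monoidal.Closed
import Mathlib.Algebra.Category.ModuleCat.EpiMono
import Mathlib.Algebra.Module.Projective
import Mathlib.RingTheory.Flat.Stability
import Mathlib.Algebra.Category.ModuleCat.ChangeOfRings
import Mathlib.Algebra.Category.ModuleCat.Monoidal.Symmetric
import Mathlib.CategoryTheory.Monoidal.Preadditive

/-!
# Tensoring a short exact sequence with flat cokernel (modules over a commutative ring)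
-/

set_option autoImplicit false
universe u
open CategoryTheory CategoryTheory.Limits MonoidalCategory

namespace Groth.Agent.H5.FlatRing

variable {R : Type u} [CommRing R]

/-- every module is a quotient of a flat (free) module -/
lemma exists_flat_cover (G : ModuleCat.{u} R) :
    ∃ (L : ModuleCat.{u} R) (π : L ⟶ G), Module.Flat R L ∧ Epi π := by
  refine ⟨ModuleCat.of R (G →₀ R), ModuleCat.ofHom (Finsupp.linearCombination R id), ?_, ?_⟩
  · infer_instance
  · rw [ModuleCat.epi_iff_surjective]
    exact Finsupp.linearCombination_id_surjective R G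

instance (M : ModuleCat.{u} R) : PreservesFiniteColimits (tensorRight M) :=
  preservesFiniteColimits_of_natIso (BraidedCategory.tensorLeftIsoTensorRight M)

/-- If `0 → A → B → C → 0` is a short exact sequence of modules with `C` flat, then
`G ⊗ A → G ⊗ B` is a monomorphism for every module `G`. -/
theorem mono_whiskerLeft_of_flat (S : ShortComplex (ModuleCat.{u} R)) (hS : S.ShortExact)
    (hC : Module.Flat R S.X₃) (G : ModuleCat.{u} R) : Mono (G ◁ S.f) := by
  obtain ⟨L, π, hL, hπ⟩ := exists_flat_cover G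
  let E : ShortComplex (ModuleCat.{u} R) := ShortComplex.mk (kernel.ι π) π (kernel.condition π)
  have hE : E.ShortExact :=
    { exact := ShortComplex.exact_of_f_is_kernel _ (kernelIsKernel π)
      mono_f := inferInstanceAs (Mono (kernel.ι π))
      epi_g := hπ }
  have := hS.mono_f
  have hc₁ : Mono (kernel.ι π ▷ S.X₃) :=
    inferInstanceAs (Mono ((tensorRight S.X₃).map (kernel.ι π)))
  have hf₂ : Mono (L ◁ S.f) := inferInstanceAs (Mono ((tensorLeft L).map S.f))
  have hb := (Functor.preservesFiniteColimits_iff_forall_exact_map_and_epi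
    (tensorRight S.X₂)).1 inferInstance E hE
  have ha := (Functor.preservesFiniteColimits_iff_forall_exact_map_and_epi
    (tensorRight S.X₁)).1 inferInstance E hE
  have hfg := (Functor.preservesFiniteColimits_iff_forall_exact_map_and_epi
    (tensorLeft (kernel π))).1 inferInstance S hS
  have ha₂ : Epi (π ▷ S.X₁) := ha.2
  have sq₁ : (kernel.ι π ▷ S.X₁) ≫ (L ◁ S.f) = (kernel π ◁ S.f) ≫ (kernel.ι π ▷ S.X₂) :=
    (whisker_exchange (kernel.ι π) S.f).symm
  have sq₂ : (π ▷ S.X₁) ≫ (G ◁ S.f) = (L ◁ S.f) ≫ (π ▷ S.X₂) :=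
    (whisker_exchange π S.f).symm
  have sq₃ : (kernel.ι π ▷ S.X₂) ≫ (L ◁ S.g) = (kernel π ◁ S.g) ≫ (kernel.ι π ▷ S.X₃) :=
    (whisker_exchange (kernel.ι π) S.g).symm
  have za : (kernel.ι π ▷ S.X₁) ≫ (π ▷ S.X₁) = 0 := by
    rw [← comp_whiskerRight, kernel.condition, MonoidalPreadditive.zero_whiskerRight]
  have zb : (kernel.ι π ▷ S.X₂) ≫ (π ▷ S.X₂) = 0 := by
    rw [← comp_whiskerRight, kernel.condition, MonoidalPreadditive.zero_whiskerRight]
  have zf₁ : (kernel π ◁ S.f) ≫ (kernel π ◁ S.g) = 0 := by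
    rw [← whiskerLeft_comp, S.zero, MonoidalPreadditive.whiskerLeft_zero]
  have zf₂ : (L ◁ S.f) ≫ (L ◁ S.g) = 0 := by
    rw [← whiskerLeft_comp, S.zero, MonoidalPreadditive.whiskerLeft_zero]
  exact Groth.Agent.H45.mono_of_grid (kernel.ι π ▷ S.X₁) (π ▷ S.X₁)
    (kernel.ι π ▷ S.X₂) (π ▷ S.X₂) (kernel.ι π ▷ S.X₃)
    (kernel π ◁ S.f) (L ◁ S.f) (G ◁ S.f)
    (kernel π ◁ S.g) (L ◁ S.g) sq₁ sq₂ sq₃ za zb hb.1 zf₁ hfg.1 zf₂

/-- Extension of scalars preserves the injectivity of a map whose cokernel is flat. -/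
theorem mono_extendScalars_map {S' : Type u} [CommRing S'] (f : R →+* S')
    (T : ShortComplex (ModuleCat.{u} R)) (hT : T.ShortExact) (hC : Module.Flat R T.X₃) :
    Mono ((ModuleCat.extendScalars f).map T.f) := by
  have h := mono_whiskerLeft_of_flat T hT hC
    ((ModuleCat.restrictScalars f).obj (ModuleCat.of S' S'))
  rw [ModuleCat.mono_iff_injective] at h ⊢
  exact h

/-- Extension of scalars preserves flatness. -/
theorem flat_extendScalars_obj {S' : Type u} [CommRing S'] (f : R →+* S')
    (M : ModuleCat.{u} R) (hM : Module.Flat R M) :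
    Module.Flat S' ((ModuleCat.extendScalars f).obj M) := by
  letI := f.toAlgebra
  exact Module.Flat.baseChange R S' M

end Groth.Agent.H5.FlatRing
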