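import Groth.Agent.H5.PullbackTensor
import Groth.Agent.H5.Stalk.PushClosedColim

/-!
# The projection formula `f_*M ⊗ N ⟶ f_*(M ⊗ f^*N)`; it is an isomorphism for closed immersions
-/

set_option autoImplicit false
universe u
open CategoryTheory CategoryTheory.Limits AlgebraicGeometry TopologicalSpace Opposite
  MonoidalCategory TensorProduct Groth.Agent.H5.Stalk Groth.Agent.H5.Stalk.Tensor

namespace Groth.Agent.H5.ProjFormula

open Groth.Agent.H5.PullbackTensor

variable {X Y : Scheme.{u}} (f : X ⟶ Y)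

/-- morphisms out of `F ⊗ G` are determined by their values on the sections `s ⊗ t` -/
lemma hom_ext_tensor {Z : Scheme.{u}} {F G M : Z.Modules} (u v : CohB1.tensorMod F G ⟶ M)
    (h : ∀ (U : Z.Opens) (s : Γ(F, U)) (t : Γ(G, U)),
      u.app U (tm F G U s t) = v.app U (tm F G U s t)) : u = v := by
  apply ((shAdj Z).homEquiv (CohB1.tensorPre F G : Z.PresheafOfModules) M).injective
  rw [Adjunction.homEquiv_unit, Adjunction.homEquiv_unit]
  ext U : 1
  refine ModuleCat.MonoidalCategory.tensor_ext (M₁ := (CohB1.toPMod F).obj U)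
    (M₂ := (CohB1.toPMod G).obj U) (fun s t => ?_)
  exact h U.unop s t

section Construction

variable (M : X.Modules) (N : Y.Modules)

/-- `M ⊗ f^*N` -/
noncomputable abbrev T : X.Modules :=
  CohB1.tensorMod M ((Scheme.Modules.pullback f).obj N)

/-- `f_*M ⊗ N` -/
noncomputable abbrev S : Y.Modules :=
  CohB1.tensorMod ((Scheme.Modules.pushforward f).obj M) N

lemma pushforward_smul (V : Y.Opens) (r : Γ(Y, V))
    (m : Γ((Scheme.Modules.pushforward f).obj M, V)) (m' : Γ(M, f ⁻¹ᵁ V)) (h : m = m') :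
    (r • m : Γ((Scheme.Modules.pushforward f).obj M, V)) =
      ((f.app V r) • m' : Γ(M, f ⁻¹ᵁ V)) := by
  subst h
  rfl

/-- the pairing on sections `(m, n) ↦ m ⊗ f^*n` -/
noncomputable def secPairπ (V : Y.Opens) (m : Γ((Scheme.Modules.pushforward f).obj M, V))
    (n : Γ(N, V)) : Γ((Scheme.Modules.pushforward f).obj (T f M N), V) :=
  tm M _ (f ⁻¹ᵁ V) m (unitSec f N V n)

lemma secPairπ_add_left (V : Y.Opens) (m m' : Γ((Scheme.Modules.pushforward f).obj M, V))
    (n : Γ(N, V)) :
    secPairπ f M N V (m + m') n = secPairπ f M N V m n + secPairπ f M N V m' n :=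
  tm_add_left M _ (f ⁻¹ᵁ V) m m' (unitSec f N V n)

lemma secPairπ_add_right (V : Y.Opens) (m : Γ((Scheme.Modules.pushforward f).obj M, V))
    (n n' : Γ(N, V)) :
    secPairπ f M N V m (n + n') = secPairπ f M N V m n + secPairπ f M N V m n' := by
  unfold secPairπ
  rw [map_add, tm_add_right]
  rfl

lemma secPairπ_smul_left (V : Y.Opens) (r : Γ(Y, V))
    (m : Γ((Scheme.Modules.pushforward f).obj M, V)) (n : Γ(N, V)) :
    secPairπ f M N V (r • m) n = r • secPairπ f M N V m n := by
  unfold secPairπ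
  rw [pushforward_smul f M V r m m rfl, tm_smul_left]
  rfl

lemma secPairπ_smul_right (V : Y.Opens) (r : Γ(Y, V))
    (m : Γ((Scheme.Modules.pushforward f).obj M, V)) (n : Γ(N, V)) :
    secPairπ f M N V m (r • n) = r • secPairπ f M N V m n := by
  unfold secPairπ
  rw [unitSec_smul, tm_smul_right]
  rfl

lemma secPairπ_res {V V' : Y.Opens} (i : V' ⟶ V)
    (m : Γ((Scheme.Modules.pushforward f).obj M, V)) (n : Γ(N, V)) :
    secPairπ f M N V' (((Scheme.Modules.pushforward f).obj M).presheaf.map i.op m)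
        (N.presheaf.map i.op n) =
      ((Scheme.Modules.pushforward f).obj (T f M N)).presheaf.map i.op (secPairπ f M N V m n) := by
  unfold secPairπ
  rw [unitSec_res]
  exact (tm_res _ _ ((Opens.map f.base).map i) _ _).symm

/-- the presheaf morphism `f_*M ⊗ N ⟶ f_*(M ⊗ f^*N)` -/
noncomputable def πPre :
    (CohB1.tensorPre ((Scheme.Modules.pushforward f).obj M) N : Y.PresheafOfModules) ⟶
    (PresheafOfModules.restrictScalars (𝟙 Y.ringCatSheaf.obj)).obj
      ((Scheme.Modules.pushforward f).obj (T f M N)).val where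
  app V := ModuleCat.MonoidalCategory.tensorLift
    (M₁ := (CohB1.toPMod ((Scheme.Modules.pushforward f).obj M)).obj V)
    (M₂ := (CohB1.toPMod N).obj V)
    (M₃ := ((PresheafOfModules.restrictScalars (𝟙 Y.ringCatSheaf.obj)).obj
      ((Scheme.Modules.pushforward f).obj (T f M N)).val).obj V)
    (fun m n => secPairπ f M N V.unop m n)
    (fun m m' n => secPairπ_add_left f M N V.unop m m' n)
    (fun r m n => secPairπ_smul_left f M N V.unop r m n)
    (fun m n n' => secPairπ_add_right f M N V.unop m n n')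
    (fun r m n => secPairπ_smul_right f M N V.unop r m n)
  naturality {V V'} i := by
    refine ModuleCat.MonoidalCategory.tensor_ext (fun m n => ?_)
    exact secPairπ_res f M N i.unop m n

/-- the projection formula morphism `f_*M ⊗ N ⟶ f_*(M ⊗ f^*N)` -/
noncomputable def π : S f M N ⟶ (Scheme.Modules.pushforward f).obj (T f M N) :=
  ((shAdj Y).homEquiv (CohB1.tensorPre ((Scheme.Modules.pushforward f).obj M) N :
    Y.PresheafOfModules) ((Scheme.Modules.pushforward f).obj (T f M N))).symm (πPre f M N)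

lemma π_tm (V : Y.Opens) (m : Γ((Scheme.Modules.pushforward f).obj M, V)) (n : Γ(N, V)) :
    (π f M N).app V (tm _ N V m n) = tm M _ (f ⁻¹ᵁ V) m (unitSec f N V n) := by
  have h : (shAdj Y).homEquiv _ _ (π f M N) = πPre f M N := Equiv.apply_symm_apply _ _
  rw [Adjunction.homEquiv_unit] at h
  let a' : ↑((CohB1.toPMod ((Scheme.Modules.pushforward f).obj M)).obj (op V)) := m
  let b' : ↑((CohB1.toPMod N).obj (op V)) := n
  have h2 := congrArg (fun φ => (PresheafOfModules.Hom.app φ (op V)).hom
    (a' ⊗ₜ[↑((Y.sheaf.obj ⋙ forget₂ CommRingCat RingCat).obj (op V))] b')) h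
  exact h2

end Construction

section Naturality

lemma π_naturality {M M' : X.Modules} {N N' : Y.Modules} (g : M ⟶ M') (h : N ⟶ N') :
    KoszTw.tensorMap ((Scheme.Modules.pushforward f).map g) h ≫ π f M' N' =
      π f M N ≫ (Scheme.Modules.pushforward f).map
        (KoszTw.tensorMap g ((Scheme.Modules.pullback f).map h)) := by
  refine hom_ext_tensor _ _ (fun V m n => ?_)
  change (π f M' N').app V ((KoszTw.tensorMap ((Scheme.Modules.pushforward f).map g) h).app V
      (tm _ N V m n)) =
    (KoszTw.tensorMap g ((Scheme.Modules.pullback f).map h)).app (f ⁻¹ᵁ V)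
      ((π f M N).app V (tm _ N V m n))
  rw [π_tm]
  have h1 : (KoszTw.tensorMap ((Scheme.Modules.pushforward f).map g) h).app V (tm _ N V m n) =
      tm _ N' V (((Scheme.Modules.pushforward f).map g).app V m) (h.app V n) :=
    KoszTw.tensorMap_tmul _ _ V m n
  rw [h1, π_tm]
  have h2 : (KoszTw.tensorMap g ((Scheme.Modules.pullback f).map h)).app (f ⁻¹ᵁ V)
      (tm M _ (f ⁻¹ᵁ V) m (unitSec f N V n)) =
      tm M' _ (f ⁻¹ᵁ V) (g.app (f ⁻¹ᵁ V) m)
        (((Scheme.Modules.pullback f).map h).app (f ⁻¹ᵁ V) (unitSec f N V n)) :=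
    KoszTw.tensorMap_tmul _ _ (f ⁻¹ᵁ V) m (unitSec f N V n)
  rw [h2, ← unitSec_naturality]
  rfl

end Naturality

end Groth.Agent.H5.ProjFormula
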