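import Mathlib

/-!
# `P ⊗_R N ≅ P ⊗_S (S ⊗_R N)` for an `S`-module `P`, in `ModuleCat`
-/

set_option autoImplicit false
universe u
open CategoryTheory MonoidalCategory TensorProduct ModuleCat

namespace Groth.Agent.H5.CancelBaseChange

variable {R S : Type u} [CommRing R] [CommRing S] (φ : R →+* S) (P : ModuleCat.{u} S)
  (N : ModuleCat.{u} R)

set_option backward.isDefEq.respectTransparency false in
open ChangeOfRings in
lemma ext_one_smul (r : R) (n : N) (x y : (ModuleCat.extendScalars φ).obj N)
    (hx : x = (1 : S) ⊗ₜ[R, φ] (r • n)) (hy : y = (1 : S) ⊗ₜ[R, φ] n) :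
    x = φ r • y := by
  subst hx hy
  refine Eq.trans ?_ (ModuleCat.ExtendScalars.smul_tmul φ (φ r) 1 n).symm
  rw [mul_one]
  let _ : Module R S := Module.compHom S φ
  have : (r • (1 : S)) = φ r := by
    change φ r • (1 : S) = φ r
    rw [smul_eq_mul, mul_one]
  rw [← this]
  exact (TensorProduct.smul_tmul r (1 : S) n).symm

lemma tm_smul (p : P) (s : S) (x : (ModuleCat.extendScalars φ).obj N)
    (a b : (P ⊗ (ModuleCat.extendScalars φ).obj N : ModuleCat S))
    (ha : a = p ⊗ₜ[S] (s • x)) (hb : b = p ⊗ₜ[S] x) : a = s • b := by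
  subst ha hb
  exact TensorProduct.tmul_smul s p x

open ChangeOfRings in
/-- the map `P ⊗_R N ⟶ P ⊗_S (S ⊗_R N)` -/
noncomputable def cMap : (ModuleCat.restrictScalars φ).obj P ⊗ N ⟶
    (ModuleCat.restrictScalars φ).obj (P ⊗ (ModuleCat.extendScalars φ).obj N) :=
  ModuleCat.MonoidalCategory.tensorLift (M₁ := (ModuleCat.restrictScalars φ).obj P) (M₂ := N)
    (M₃ := (ModuleCat.restrictScalars φ).obj (P ⊗ (ModuleCat.extendScalars φ).obj N))
    (fun p n => ((p : P) ⊗ₜ[S] (((1 : S) ⊗ₜ[R, φ] n : (ModuleCat.extendScalars φ).obj N)) :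
      (P ⊗ (ModuleCat.extendScalars φ).obj N : ModuleCat S)))
    (fun p p' n => TensorProduct.add_tmul _ _ _)
    (fun r p n => rfl)
    (fun p n n' => by
      erw [TensorProduct.tmul_add, TensorProduct.tmul_add]
      rfl)
    (fun r p n => by
      have h1 := ext_one_smul φ N r n _ _ rfl rfl
      refine (tm_smul φ P N p (φ r) _ _ _ ?_ rfl)
      exact congrArg (fun z => (p : P) ⊗ₜ[S] z) h1)

open ChangeOfRings in
lemma cMap_tmul (p : P) (n : N) (a : (ModuleCat.restrictScalars φ).obj P)
    (z : (ModuleCat.extendScalars φ).obj N) (ha : a = p) (hz : z = (1 : S) ⊗ₜ[R, φ] n) :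
    (cMap φ P N).hom (a ⊗ₜ n) = (p ⊗ₜ[S] z :
      (P ⊗ (ModuleCat.extendScalars φ).obj N : ModuleCat S)) := by
  subst ha hz
  rfl

set_option backward.isDefEq.respectTransparency.types false in
lemma cMap_bijective : Function.Bijective (cMap φ P N).hom := by
  letI : Algebra R S := φ.toAlgebra
  letI : Module S ↑((ModuleCat.restrictScalars φ).obj P) := P.isModule
  haveI : IsScalarTower R S ↑((ModuleCat.restrictScalars φ).obj P) :=
    ⟨fun r s p => mul_smul (φ r) s (p : P)⟩
  have h : ∀ z, (cMap φ P N).hom z =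
      (AlgebraTensorModule.cancelBaseChange R S S ↑((ModuleCat.restrictScalars φ).obj P) N).symm z := by
    intro z
    induction z using TensorProduct.induction_on with
    | zero => simp; rfl
    | tmul p n => rfl
    | add a b ha hb => rw [map_add, map_add, ha, hb]; rfl
  have h' : ⇑(cMap φ P N).hom = ⇑(AlgebraTensorModule.cancelBaseChange R S S
      ↑((ModuleCat.restrictScalars φ).obj P) N).symm := funext h
  rw [h']
  exact (AlgebraTensorModule.cancelBaseChange R S S
      ↑((ModuleCat.restrictScalars φ).obj P) N).symm.bijective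

instance isIso_cMap : IsIso (cMap φ P N) :=
  (ConcreteCategory.isIso_iff_bijective _).2 (cMap_bijective φ P N)

end Groth.Agent.H5.CancelBaseChange
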