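import Groth.Agent.H5.ProjFormula
import Groth.Agent.H5.CancelBaseChange

/-!
# The projection formula morphism is an isomorphism for closed immersions
-/

set_option autoImplicit false
universe u
open CategoryTheory CategoryTheory.Limits AlgebraicGeometry TopologicalSpace Opposite
  MonoidalCategory TensorProduct Groth.Agent.H5.Stalk Groth.Agent.H5.Stalk.Tensor

namespace Groth.Agent.H5.ProjFormula

open Groth.Agent.H5.PullbackTensor Groth.Agent.H5.CancelBaseChange

variable {X Y : Scheme.{u}} (f : X ⟶ Y) (x : X) (M : X.Modules) (N : Y.Modules)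

/-- the top chain `(f_*M ⊗ N)_y ⟶ res (M_x ⊗ (O_x ⊗ N_y))` -/
noncomputable def top : (stalkFunctor (f x)).obj (S f M N) ⟶
    (resStalk f x).obj ((stalkFunctor x).obj M ⊗ (extStalk f x).obj ((stalkFunctor (f x)).obj N)) :=
  (stalkTensorIso (f x) ((Scheme.Modules.pushforward f).obj M) N).hom ≫
    (pushStalkMap f x M ▷ (stalkFunctor (f x)).obj N) ≫
    cMap (f.stalkMap x).hom ((stalkFunctor x).obj M) ((stalkFunctor (f x)).obj N)

/-- the bottom chain `(f_*(M ⊗ f^*N))_y ⟶ res (M_x ⊗ (O_x ⊗ N_y))` -/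
noncomputable def bot : (stalkFunctor (f x)).obj ((Scheme.Modules.pushforward f).obj (T f M N)) ⟶
    (resStalk f x).obj ((stalkFunctor x).obj M ⊗ (extStalk f x).obj ((stalkFunctor (f x)).obj N)) :=
  pushStalkMap f x (T f M N) ≫ (resStalk f x).map
    ((stalkTensorIso x M ((Scheme.Modules.pullback f).obj N)).hom ≫
      ((stalkFunctor x).obj M ◁ (pullbackStalkIso f x).hom.app N))

lemma stalk_π_bot : (stalkFunctor (f x)).map (π f M N) ≫ bot f x M N = top f x M N := by
  refine hom_ext_stalk_tensor (f x) _ _ _ _ (fun V hy m n => ?_)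
  -- left side
  have hL1 : ((stalkFunctor (f x)).map (π f M N)).hom (gm (f x) _ V hy (tm _ N V m n)) =
      gm (f x) _ V hy (tm M _ (f ⁻¹ᵁ V) m (unitSec f N V n)) := by
    rw [stalkFunctor_map_gm, π_tm]
  have hL2 : (pushStalkMap f x (T f M N)).hom
      (gm (f x) ((Scheme.Modules.pushforward f).obj (T f M N)) V hy
        (tm M _ (f ⁻¹ᵁ V) m (unitSec f N V n))) =
      gm x (T f M N) (f ⁻¹ᵁ V) hy (tm M _ (f ⁻¹ᵁ V) m (unitSec f N V n)) :=
    pushStalkMap_germ f x (T f M N) V hy _
  have hL3 : (stalkTensorIso x M ((Scheme.Modules.pullback f).obj N)).hom.hom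
      (gm x (T f M N) (f ⁻¹ᵁ V) hy (tm M _ (f ⁻¹ᵁ V) m (unitSec f N V n))) =
      gm x M (f ⁻¹ᵁ V) hy m ⊗ₜ gm x _ (f ⁻¹ᵁ V) hy (unitSec f N V n) :=
    γ_tm x M _ (f ⁻¹ᵁ V) hy m (unitSec f N V n)
  -- right side
  have hR1 : (stalkTensorIso (f x) ((Scheme.Modules.pushforward f).obj M) N).hom.hom
      (gm (f x) _ V hy (tm _ N V m n)) =
      gm (f x) ((Scheme.Modules.pushforward f).obj M) V hy m ⊗ₜ gm (f x) N V hy n :=
    γ_tm (f x) _ N V hy m n
  have hR2 : (pushStalkMap f x M).hom (gm (f x) ((Scheme.Modules.pushforward f).obj M) V hy m) =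
      gm x M (f ⁻¹ᵁ V) hy m := pushStalkMap_germ f x M V hy m
  change (bot f x M N).hom (((stalkFunctor (f x)).map (π f M N)).hom
    (gm (f x) _ V hy (tm _ N V m n))) = (top f x M N).hom (gm (f x) _ V hy (tm _ N V m n))
  rw [hL1]
  unfold bot top
  change ((stalkFunctor x).obj M ◁ (pullbackStalkIso f x).hom.app N).hom
      ((stalkTensorIso x M ((Scheme.Modules.pullback f).obj N)).hom.hom
        ((pushStalkMap f x (T f M N)).hom _)) =
    (cMap (f.stalkMap x).hom ((stalkFunctor x).obj M) ((stalkFunctor (f x)).obj N)).hom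
      ((pushStalkMap f x M ▷ (stalkFunctor (f x)).obj N).hom
        ((stalkTensorIso (f x) ((Scheme.Modules.pushforward f).obj M) N).hom.hom _))
  rw [hL2, hL3, hR1]
  have hL4 : ((stalkFunctor x).obj M ◁ (pullbackStalkIso f x).hom.app N).hom
      (gm x M (f ⁻¹ᵁ V) hy m ⊗ₜ gm x _ (f ⁻¹ᵁ V) hy (unitSec f N V n)) =
      gm x M (f ⁻¹ᵁ V) hy m ⊗ₜ ((pullbackStalkIso f x).hom.app N).hom
        (gm x _ (f ⁻¹ᵁ V) hy (unitSec f N V n)) :=
    ModuleCat.MonoidalCategory.whiskerLeft_apply _ _ _ _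
  have hR3 : (pushStalkMap f x M ▷ (stalkFunctor (f x)).obj N).hom
      (gm (f x) ((Scheme.Modules.pushforward f).obj M) V hy m ⊗ₜ gm (f x) N V hy n) =
      (pushStalkMap f x M).hom (gm (f x) ((Scheme.Modules.pushforward f).obj M) V hy m) ⊗ₜ
        gm (f x) N V hy n :=
    ModuleCat.MonoidalCategory.whiskerRight_apply _ _ _ _
  refine hL4.trans ?_
  refine Eq.trans ?_ (congrArg _ hR3.symm)
  rw [hR2, pullbackStalkIso_hom_germ]
  exact (cMap_tmul _ _ _ _ _ _ _ rfl rfl).symm

variable [IsClosedImmersion f]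

instance isIso_bot : IsIso (bot f x M N) := by
  unfold bot
  infer_instance

instance isIso_top : IsIso (top f x M N) := by
  unfold top
  infer_instance

lemma isIso_stalk_π_of_mem : IsIso ((stalkFunctor (f x)).map (π f M N)) := by
  have h := stalk_π_bot f x M N
  have h2 : (stalkFunctor (f x)).map (π f M N) = top f x M N ≫ inv (bot f x M N) := by
    rw [← h, Category.assoc, IsIso.hom_inv_id, Category.comp_id]
  rw [h2]
  infer_instance

lemma isZero_stalk_S (y : Y) (hy : y ∉ Set.range f) :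
    IsZero ((stalkFunctor y).obj (S f M N)) := by
  refine IsZero.of_iso ?_ (stalkTensorIso y ((Scheme.Modules.pushforward f).obj M) N)
  have : Subsingleton ↑((stalkFunctor y).obj ((Scheme.Modules.pushforward f).obj M)) :=
    subsingleton_stalk_pushforward f f.isClosedEmbedding.isClosed_range y hy M
  have : Subsingleton ↑(Stalk.Tensor.N y ((Scheme.Modules.pushforward f).obj M) N) :=
    (TensorProduct.uniqueLeft).instSubsingleton
  exact ModuleCat.isZero_of_subsingleton _

lemma isIso_stalk_π (y : Y) : IsIso ((stalkFunctor y).map (π f M N)) := by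
  by_cases hy : y ∈ Set.range f
  · obtain ⟨x, rfl⟩ := hy
    exact isIso_stalk_π_of_mem f x M N
  · exact (isZero_stalk_S f M N y hy).isIso
      (isZero_stalk_pushforward f f.isClosedEmbedding.isClosed_range y hy _) _

instance isIso_π : IsIso (π f M N) :=
  isIso_of_isIso_stalkFunctor_map _ (fun y => isIso_stalk_π f M N y)

/-- the projection formula for a closed immersion: `f_*M ⊗ N ≅ f_*(M ⊗ f^*N)` -/
noncomputable def projIso : S f M N ≅ (Scheme.Modules.pushforward f).obj (T f M N) :=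
  asIso (π f M N)

end Groth.Agent.H5.ProjFormula
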