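import Groth.Agent.H5.KFlatTensor
import Groth.Agent.H5.ResDerivLeft
import Groth.Agent.H45.Scheme.Flat
import Groth.Agent.H45.KFlat.Bounded
import Groth.Prelude.Def_DTor2
import Groth.Prelude.Def_DCoh4

/-!
# The derived tensor product with a module on a scheme: existence and computation on K-flats
-/

set_option autoImplicit false
universe u
open CategoryTheory CategoryTheory.Limits AlgebraicGeometry ZeroObject

attribute [local instance] HasDerivedCategory.standard

namespace Groth.Agent.H5.KFlatScheme

variable {X : Scheme.{u}}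

/-- the class of K-flat complexes -/
def kf : ObjectProperty (CochainComplex X.Modules ℤ) := fun K => DCoh.IsKFlat K

lemma isKFlat_zero : DCoh.IsKFlat (0 : CochainComplex X.Modules ℤ) := by
  have hz : ∀ q : ℤ, IsZero ((0 : CochainComplex X.Modules ℤ).X q) := fun q =>
    (HomologicalComplex.eval _ (ComplexShape.up ℤ) q).map_isZero (isZero_zero _)
  exact Groth.Agent.H45.isKFlat_of_isZero_of_isFlat (O := X.sheaf) _ 0 (fun q _ => hz q)
    (Groth.Agent.H45.isFlat_of_isZero (O := X.sheaf) (hz 0))

lemma hyp : ResDerivLeft.Hyp (kf (X := X)) where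
  zero := isKFlat_zero
  shift K n hK := (Groth.Agent.H45.isKFlat_shift_iff (O := X.sheaf) K n).2 hK
  cone f h₁ h₂ := (Groth.Agent.H45.isKFlat_mappingCone_two_of_three (O := X.sheaf) f).1 h₁ h₂
  res G := by
    obtain ⟨K, q, hK, -, hq, -⟩ := Groth.Agent.H45.exists_isKFlat_resolution X.sheaf G
    exact ⟨K, q, hK, hq⟩

/-- `DCoh.tensorRightMod M` is `- ⊗ M` for the bifunctor `ModSite.tensorBi`. -/
noncomputable def tensorRightModIso (M : X.Modules) :
    DCoh.tensorRightMod M ≅ KFlatTensor.tensorRight (O := X.sheaf) M :=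
  NatIso.ofComponents (fun _ => Iso.refl _) (by
    intro A B f
    simp
    rfl)

/-- Termwise tensoring an acyclic K-flat complex with a module gives an acyclic complex. -/
theorem exactAt_tensorRightMod (M : X.Modules) (P : CochainComplex X.Modules ℤ)
    (hP : kf P) (hP' : ∀ i, P.ExactAt i) (i : ℤ) :
    (((DCoh.tensorRightMod M).mapHomologicalComplex (ComplexShape.up ℤ)).obj P).ExactAt i := by
  exact @KFlatTensor.exactAt_of_iso _ _ _ X.sheaf M (DCoh.tensorRightMod M)
    (DCoh.additive_tensorRightMod M) (tensorRightModIso M) P hP hP' i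

/-- The derived tensor product with a module always exists. -/
theorem hasLTensorMod (M : X.Modules) : DCoh.HasLTensorMod M :=
  ResDerivLeft.hasLeftDerivedFunctor hyp (DCoh.tensorRightMod M) (exactAt_tensorRightMod M)

/-- The counit of the derived tensor product is an isomorphism on K-flat complexes. -/
theorem isIso_counit (M : X.Modules) [DCoh.HasLTensorMod M] (K : CochainComplex X.Modules ℤ)
    (hK : DCoh.IsKFlat K) :
    IsIso (((DCoh.tensorModKh M).totalLeftDerivedCounit DerivedCategory.Qh
      (HomotopyCategory.quasiIso X.Modules (ComplexShape.up ℤ))).app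
        ((HomotopyCategory.quotient _ _).obj K)) :=
  ResDerivLeft.isIso_counit hyp (DCoh.tensorRightMod M) (exactAt_tensorRightMod M)
    DerivedCategory.Qh _ _ K hK

/-- On a K-flat complex, the derived tensor product is computed termwise. -/
noncomputable def LTensorModIso (M : X.Modules) [DCoh.HasLTensorMod M]
    (K : CochainComplex X.Modules ℤ) (hK : DCoh.IsKFlat K) :
    (DCoh.LTensorMod M).obj (DCoh.toD X K) ≅
      DCoh.toD X (((DCoh.tensorRightMod M).mapHomologicalComplex (ComplexShape.up ℤ)).obj K) :=
  haveI := isIso_counit M K hK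
  (DCoh.LTensorMod M).mapIso ((DerivedCategory.quotientCompQhIso X.Modules).app K).symm ≪≫
    asIso (((DCoh.tensorModKh M).totalLeftDerivedCounit DerivedCategory.Qh
      (HomotopyCategory.quasiIso X.Modules (ComplexShape.up ℤ))).app
        ((HomotopyCategory.quotient _ _).obj K)) ≪≫
    DerivedCategory.Qh.mapIso
      (((DCoh.tensorRightMod M).mapHomotopyCategoryFactors (ComplexShape.up ℤ)).app K) ≪≫
    (DerivedCategory.quotientCompQhIso X.Modules).app _

/-- flat complexes bounded above are K-flat -/
lemma isKFlat_of_flat_of_vanishesOutside (E : CochainComplex X.Modules ℤ) (a b : ℤ)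
    (hE : DCoh.VanishesOutside E a b) (hflat : ∀ i, FlatMod.IsFlat (E.X i)) :
    DCoh.IsKFlat E := by
  have : E.IsStrictlyLE b := (CochainComplex.isStrictlyLE_iff E b).2 (fun i hi => hE i (Or.inr hi))
  exact @Groth.Agent.H45.isKFlat_of_isStrictlyLE _ _ _ X.sheaf E b this
    (fun i => Groth.Agent.H45.isFlat_of_flatMod _ (hflat i))

lemma isZero_of_retract {C : Type*} [Category C] [HasZeroMorphisms C] {A B : C}
    (i : A ⟶ B) (r : B ⟶ A) (h : i ≫ r = 𝟙 A) (hB : IsZero B) : IsZero A := by
  rw [IsZero.iff_id_eq_zero, ← h, hB.eq_of_tgt i 0, zero_comp]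

/-- The cohomology of `E ⊗^L F` vanishes outside `[a, b]` if `E` is a complex of flat modules
vanishing outside `[a, b]`. -/
lemma isZero_HD_LTensorMod (F : X.Modules) [DCoh.HasLTensorMod F]
    (E : CochainComplex X.Modules ℤ) (a b : ℤ)
    (hE : DCoh.VanishesOutside E a b) (hflat : ∀ i, FlatMod.IsFlat (E.X i)) (i : ℤ)
    (hi : i < a ∨ b < i) :
    IsZero (DCoh.HD ((DCoh.LTensorMod F).obj (DCoh.toD X E)) i) := by
  have hK := isKFlat_of_flat_of_vanishesOutside E a b hE hflat
  refine IsZero.of_iso ?_ ((DerivedCategory.homologyFunctor X.Modules i).mapIso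
    (LTensorModIso F E hK) ≪≫ (DerivedCategory.homologyFunctorFactors X.Modules i).app _)
  apply ShortComplex.isZero_homology_of_isZero_X₂
  exact (DCoh.tensorRightMod F).map_isZero (hE i hi)

end Groth.Agent.H5.KFlatScheme
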