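import Groth.Agent.H5.FreeSections
import Groth.Agent.H5.PullbackUnit
import Groth.Agent.H92.LocFreeRank

/-!
# The matrix of a morphism of free modules, its global sections, and its pullbacks
-/

set_option autoImplicit false
universe u
open CategoryTheory CategoryTheory.Limits AlgebraicGeometry TopologicalSpace Opposite

namespace Groth.Agent.H5.FreeMatrix

open Groth.Agent.H5.OnePoint Groth.Agent.H5.FreeSections Groth.Agent.H92.LocFreeRank

section Sections

variable (W : Scheme.{u})

/-- global functions form a commutative ring -/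
noncomputable instance commRingΓtop : CommRing (Coh.Γtop W) :=
  inferInstanceAs (CommRing Γ(W, ⊤))

/-- the unit section of the structure sheaf -/
noncomputable def one' : (evTop W).obj (Coh.structureModule W) := (evTopUnitEquiv W).symm 1

lemma eq_smul_one' (y : (evTop W).obj (Coh.structureModule W)) :
    y = (evTopUnitEquiv W y) • one' W := by
  apply (evTopUnitEquiv W).injective
  rw [map_smul]
  unfold one'
  rw [LinearEquiv.apply_symm_apply, smul_eq_mul, mul_one]

/-- coordinates of a section of a free module -/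
noncomputable def P (n : ℕ) : (evTop W).obj (FlatMod.freeMod W n) →ₗ[Coh.Γtop W]
    (Fin n → Coh.Γtop W) :=
  LinearMap.pi (fun j => (evTopUnitEquiv W).toLinearMap.comp ((evTop W).map (prj W n j)).hom)

/-- the section of a free module with given coordinates -/
noncomputable def I (n : ℕ) : (Fin n → Coh.Γtop W) →ₗ[Coh.Γtop W]
    (evTop W).obj (FlatMod.freeMod W n) :=
  ∑ l : Fin n, (LinearMap.toSpanSingleton _ _ (((evTop W).map (inc W n l)).hom (one' W))).comp
    (LinearMap.proj l)

lemma P_apply (n : ℕ) (x : (evTop W).obj (FlatMod.freeMod W n)) (j : Fin n) :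
    P W n x j = evTopUnitEquiv W (((evTop W).map (prj W n j)).hom x) := rfl

lemma I_apply (n : ℕ) (v : Fin n → Coh.Γtop W) :
    I W n v = ∑ l : Fin n, v l • ((evTop W).map (inc W n l)).hom (one' W) := by
  simp [I, LinearMap.toSpanSingleton_apply]

lemma I_P (n : ℕ) (x : (evTop W).obj (FlatMod.freeMod W n)) : I W n (P W n x) = x := by
  rw [I_apply]
  have h1 : ((evTop W).map (𝟙 (FlatMod.freeMod W n))).hom x = x := by
    rw [CategoryTheory.Functor.map_id]
    rfl
  rw [← sum_prj_inc, Functor.map_sum, ModuleCat.hom_sum, LinearMap.sum_apply] at h1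
  refine Eq.trans ?_ h1
  refine Finset.sum_congr rfl (fun l _ => ?_)
  rw [Functor.map_comp, ModuleCat.hom_comp, LinearMap.comp_apply, P_apply, ← map_smul,
    ← eq_smul_one']

lemma surjective_I (n : ℕ) : Function.Surjective (I W n) := fun x => ⟨_, I_P W n x⟩

lemma injective_P (n : ℕ) : Function.Injective (P W n) := by
  intro x y h
  rw [← I_P W n x, ← I_P W n y, h]

variable {W}

/-- the matrix of a morphism of free modules -/
noncomputable def mat {a b : ℕ} (φ : FlatMod.freeMod W a ⟶ FlatMod.freeMod W b) :
    Matrix (Fin b) (Fin a) (Coh.Γtop W) :=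
  fun j l => P W b (((evTop W).map φ).hom (((evTop W).map (inc W a l)).hom (one' W))) j

lemma P_map_I {a b : ℕ} (φ : FlatMod.freeMod W a ⟶ FlatMod.freeMod W b) :
    (P W b).comp (((evTop W).map φ).hom.comp (I W a)) = (mat φ).mulVecLin := by
  refine LinearMap.ext (fun v => funext (fun j => ?_))
  rw [LinearMap.comp_apply, LinearMap.comp_apply, Matrix.mulVecLin_apply]
  simp only [Matrix.mulVec, dotProduct]
  rw [I_apply, map_sum, map_sum, Finset.sum_apply]
  refine Finset.sum_congr rfl (fun l _ => ?_)
  rw [map_smul, map_smul, Pi.smul_apply, smul_eq_mul, mul_comm]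
  rfl

lemma finrank_range_map {a b : ℕ} (φ : FlatMod.freeMod W a ⟶ FlatMod.freeMod W b) :
    Module.finrank (Coh.Γtop W) (LinearMap.range ((evTop W).map φ).hom) =
      Module.finrank (Coh.Γtop W) (LinearMap.range (mat φ).mulVecLin) := by
  rw [← P_map_I, LinearMap.range_comp, LinearMap.range_comp,
    LinearMap.range_eq_top.2 (surjective_I W a), Submodule.map_top]
  exact (LinearEquiv.finrank_eq (Submodule.equivMapOfInjective _ (injective_P W b) _))

end Sections

section Pullback

open Groth.Agent.H5.PullbackUnit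

variable {S U : Scheme.{u}} (k : S ⟶ U)

lemma inc_pullbackFreeIso_inv (n : ℕ) (l : Fin n) :
    inc S n l ≫ (pullbackFreeIso k n).inv =
      (pullbackUnitIso k).inv ≫ (Scheme.Modules.pullback k).map (inc U n l) := by
  unfold pullbackFreeIso inc
  simp

lemma map_inc_pullbackFreeIso_hom (n : ℕ) (l : Fin n) :
    (Scheme.Modules.pullback k).map (inc U n l) ≫ (pullbackFreeIso k n).hom =
      (pullbackUnitIso k).hom ≫ inc S n l := by
  rw [← cancel_mono (pullbackFreeIso k n).inv, Category.assoc, Iso.hom_inv_id, Category.comp_id,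
    Category.assoc, inc_pullbackFreeIso_inv, Iso.hom_inv_id_assoc]

lemma pullbackFreeIso_hom_prj (n : ℕ) (j : Fin n) :
    (pullbackFreeIso k n).hom ≫ prj S n j =
      (Scheme.Modules.pullback k).map (prj U n j) ≫ (pullbackUnitIso k).hom := by
  rw [← cancel_epi (pullbackFreeIso k n).inv, Iso.inv_hom_id_assoc]
  apply Sigma.hom_ext
  intro l
  change inc S n l ≫ prj S n j = inc S n l ≫ _
  rw [← Category.assoc, inc_pullbackFreeIso_inv, Category.assoc, ← Functor.map_comp_assoc,
    inc_prj, inc_prj]
  split_ifs with h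
  · simp
  · simp

/-- the map on global functions induced by `k` -/
noncomputable def kS : Coh.Γtop U →+* Coh.Γtop S :=
  (k.toRingCatSheafHom.hom.app (op ⊤)).hom

set_option backward.isDefEq.respectTransparency.types false in
lemma evTop_unit_pullback (e : Coh.structureModule U ⟶ Coh.structureModule U) :
    evTopUnitEquiv S (((evTop S).map ((pullbackUnitIso k).inv ≫
      (Scheme.Modules.pullback k).map e ≫ (pullbackUnitIso k).hom)).hom (one' S)) =
    kS k (evTopUnitEquiv U (((evTop U).map e).hom (one' U))) := by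
  let adj := SheafOfModules.pullbackPushforwardAdjunction k.toRingCatSheafHom
  let t := SheafOfModules.pullbackObjUnitToUnit k.toRingCatSheafHom
  let u := SheafOfModules.unitToPushforwardObjUnit k.toRingCatSheafHom
  have ht : adj.homEquiv _ _ t = u :=
    SheafOfModules.pullbackPushforwardAdjunction_homEquiv_pullbackObjUnitToUnit _
  let e'' := (pullbackUnitIso k).inv ≫ (Scheme.Modules.pullback k).map e ≫ (pullbackUnitIso k).hom
  have h1 : (pullbackUnitIso k).hom ≫ e'' =
      (Scheme.Modules.pullback k).map e ≫ (pullbackUnitIso k).hom := by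
    simp [e'']
  have h1' : t ≫ e'' = (SheafOfModules.pullback k.toRingCatSheafHom).map e ≫ t := h1
  have h2a : adj.homEquiv _ _ (t ≫ e'') =
      adj.homEquiv _ _ t ≫ (SheafOfModules.pushforward k.toRingCatSheafHom).map e'' :=
    adj.homEquiv_naturality_right t e''
  have h2b : adj.homEquiv _ _ ((SheafOfModules.pullback k.toRingCatSheafHom).map e ≫ t) =
      e ≫ adj.homEquiv _ _ t := adj.homEquiv_naturality_left e t
  rw [h1', h2b, ht] at h2a
  have h3 := congrArg (fun ψ => (ψ.val.app (op ⊤)).hom (one' U)) h2a
  have h4 : (kS k) (evTopUnitEquiv U (((evTop U).map e).hom (one' U))) =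
      evTopUnitEquiv S (((evTop S).map e'').hom ((evTopUnitEquiv S).symm (kS k 1))) := h3
  rw [h4, map_one]
  rfl

lemma mat_apply {W : Scheme.{u}} {a b : ℕ} (φ : FlatMod.freeMod W a ⟶ FlatMod.freeMod W b)
    (j : Fin b) (l : Fin a) :
    mat φ j l = evTopUnitEquiv W (((evTop W).map (inc W a l ≫ φ ≫ prj W b j)).hom (one' W)) := by
  rw [Functor.map_comp, Functor.map_comp]
  rfl

lemma mat_pullback {a b : ℕ} (φ : FlatMod.freeMod U a ⟶ FlatMod.freeMod U b) :
    mat ((pullbackFreeIso k a).inv ≫ (Scheme.Modules.pullback k).map φ ≫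
      (pullbackFreeIso k b).hom) = (mat φ).map (kS k) := by
  ext j l
  rw [Matrix.map_apply, mat_apply, mat_apply, ← evTop_unit_pullback]
  congr 4
  have h := inc_pullbackFreeIso_inv k a l
  simp only [Category.assoc, pullbackFreeIso_hom_prj, Functor.map_comp, reassoc_of% h]

end Pullback

end Groth.Agent.H5.FreeMatrix
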