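import Groth.Agent.H5.MatrixMinor
import Groth.Agent.H5.FreeMatrix

/-!
# Lower semicontinuity of the rank of a matrix of functions
-/

set_option autoImplicit false
universe u
open CategoryTheory CategoryTheory.Limits AlgebraicGeometry TopologicalSpace Opposite Matrix

namespace Groth.Agent.H5.RankOpen

section Algebra

variable {R K : Type u} [CommRing R] [Field K] (g : R →+* K)

lemma det_submatrix_map {a b r : ℕ} (A : Matrix (Fin b) (Fin a) R) (ρ : Fin r → Fin b)
    (c : Fin r → Fin a) : ((A.map g).submatrix ρ c).det = g ((A.submatrix ρ c).det) := by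
  rw [RingHom.map_det]
  rfl

theorem le_rank_map_iff {a b : ℕ} (A : Matrix (Fin b) (Fin a) R) (r : ℕ) :
    r ≤ (A.map g).rank ↔
      ∃ (ρ : Fin r → Fin b) (c : Fin r → Fin a), g ((A.submatrix ρ c).det) ≠ 0 := by
  constructor
  · intro h
    obtain ⟨ρ, c, hdet⟩ := MatrixMinor.exists_minor (A.map g) r h
    exact ⟨ρ, c, by rwa [← det_submatrix_map]⟩
  · rintro ⟨ρ, c, hdet⟩
    rw [← det_submatrix_map] at hdet
    have hunit : IsUnit ((A.map g).submatrix ρ c) :=
      (Matrix.isUnit_iff_isUnit_det _).2 (Ne.isUnit hdet)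
    have h1 := Matrix.rank_of_isUnit _ hunit
    rw [Fintype.card_fin] at h1
    rw [← h1]
    exact Matrix.rank_submatrix_le _ _ _

end Algebra

section Geometry

open Groth.Agent.H5.FreeMatrix

/-- a scheme with a point whose only open neighbourhood is the whole scheme and whose global
functions form a field (e.g. the spectrum of a field) -/
structure IsFieldPoint (S : Scheme.{u}) (z : S) : Prop where
  top : ∀ V : S.Opens, z ∈ V → V = ⊤
  field : IsField (Coh.Γtop S)

variable {S U : Scheme.{u}} {z : S}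

lemma isUnit_iff_mem_basicOpen (h : IsFieldPoint S z) (t : Γ(S, ⊤)) :
    IsUnit t ↔ z ∈ S.basicOpen t := by
  constructor
  · intro ht
    rw [Scheme.basicOpen_of_isUnit S ht]
    trivial
  · intro hz
    have htop := h.top _ hz
    refine RingedSpace.isUnit_of_isUnit_germ S.toRingedSpace ⊤ t (fun x hx => ?_)
    have hx' : x ∈ S.basicOpen t := by rw [htop]; trivial
    exact (Scheme.mem_basicOpen_top S t x).1 hx'

lemma kS_ne_zero_iff (h : IsFieldPoint S z) (k : S ⟶ U) (δ : Γ(U, ⊤)) :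
    kS k δ ≠ 0 ↔ k z ∈ U.basicOpen δ := by
  have h1 : k z ∈ U.basicOpen δ ↔ z ∈ S.basicOpen (k.appTop δ) := by
    rw [← Scheme.preimage_basicOpen_top]
    rfl
  rw [h1, ← isUnit_iff_mem_basicOpen h]
  letI : Field (Coh.Γtop S) := h.field.toField
  exact (isUnit_iff_ne_zero (a := (kS k δ : Coh.Γtop S))).symm

/-- the rank of the matrix `A` at the field point `k` -/
noncomputable def rankAt {a b : ℕ} (A : Matrix (Fin b) (Fin a) (Coh.Γtop U)) (k : S ⟶ U) : ℕ :=
  Module.finrank (Coh.Γtop S) (LinearMap.range (A.map (kS k)).mulVecLin)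

lemma le_rankAt_iff (h : IsFieldPoint S z) {a b : ℕ} (A : Matrix (Fin b) (Fin a) (Coh.Γtop U))
    (k : S ⟶ U) (r : ℕ) :
    r ≤ rankAt A k ↔ ∃ (ρ : Fin r → Fin b) (c : Fin r → Fin a),
      kS k ((A.submatrix ρ c).det) ≠ 0 := by
  letI : Field (Coh.Γtop S) := h.field.toField
  exact le_rank_map_iff (kS k) A r

/-- lower semicontinuity of the rank -/
theorem exists_open_le_rankAt {S₀ : Scheme.{u}} {z₀ : S₀} (h₀ : IsFieldPoint S₀ z₀) {a b : ℕ}
    (A : Matrix (Fin b) (Fin a) (Coh.Γtop U)) (k₀ : S₀ ⟶ U) :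
    ∃ N : U.Opens, k₀ z₀ ∈ N ∧ ∀ (S : Scheme.{u}) (z : S) (_ : IsFieldPoint S z) (k : S ⟶ U),
      k z ∈ N → rankAt A k₀ ≤ rankAt A k := by
  obtain ⟨ρ, c, hdet⟩ := (le_rankAt_iff h₀ A k₀ (rankAt A k₀)).1 le_rfl
  let δ : Γ(U, ⊤) := (A.submatrix ρ c).det
  refine ⟨U.basicOpen δ, (kS_ne_zero_iff h₀ k₀ δ).1 hdet, fun S z h k hk => ?_⟩
  exact (le_rankAt_iff h A k _).2 ⟨ρ, c, (kS_ne_zero_iff h k δ).2 hk⟩

end Geometry

end Groth.Agent.H5.RankOpen
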