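import Groth.Agent.H5.EulerPerfect
import Groth.Agent.H5.RankOpen
import Groth.Agent.H5.LpullTri

/-!
# Betti numbers of a pseudo-coherent object via a local free model
-/

set_option autoImplicit false
universe u
open CategoryTheory CategoryTheory.Limits AlgebraicGeometry TopologicalSpace Opposite

attribute [local instance] HasDerivedCategory.standard

namespace Groth.Agent.H5.BettiModel

open Groth.Agent.H5.OnePoint Groth.Agent.H5.FreeSections Groth.Agent.H5.EulerPerfect
  Groth.Agent.H5.FreeMatrix Groth.Agent.H5.RankOpen Groth.Agent.H5.PullbackUnit Lpull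

variable {X : Scheme.{u}}

/-- If `α : P₀ ⟶ E|_V` is an isomorphism on `H^j` for `j > m` and an epimorphism on `H^m`, with
`P₀` strictly perfect, and `f` factors through `V` via `k`, then `H^i(Lf^* E) ≅ H^i(k^* P₀)` for
`i > m`. -/
theorem nonempty_HD_iso_of_factor {S : Scheme.{u}} (f : S ⟶ X) [DCoh.HasLpull f]
    (V : X.Opens) (k : S ⟶ (V : Scheme.{u})) (hk : k ≫ V.ι = f) (E₀ : DCoh.D X)
    (M : CochainComplex X.Modules ℤ) (eM : DerivedCategory.Q.obj M ≅ E₀)
    (P₀ : CochainComplex (V : Scheme.{u}).Modules ℤ) (hP₀ : DCoh.IsStrictlyPerfect P₀)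
    (α : DerivedCategory.Q.obj P₀ ⟶ DerivedCategory.Q.obj ((DCoh.restrictCx V).obj M)) (m : ℤ)
    (hα : ∀ j : ℤ, m < j → IsIso ((DerivedCategory.homologyFunctor _ j).map α))
    (hα' : Epi ((DerivedCategory.homologyFunctor _ m).map α)) (i : ℤ) (hi : m < i) :
    Nonempty (DCoh.HD ((DCoh.Lpull f).obj E₀) i ≅
      (((Scheme.Modules.pullback k).mapHomologicalComplex (ComplexShape.up ℤ)).obj P₀).homology
        i) := by
  haveI := hasLpull k
  haveI := hasLpull V.ι
  haveI : DCoh.HasLpull (k ≫ V.ι) := hasLpull _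
  obtain ⟨c⟩ := LpullComp.nonempty_Lpull_comp_iso k V.ι
  obtain ⟨o⟩ := LpullPoint.nonempty_Lpull_open_iso V M
  have hLα : IsIso ((DerivedCategory.homologyFunctor _ i).map ((DCoh.Lpull k).map α)) :=
    (LpullTri.isIso_homology_Lpull_map k α m hα hα').1 i hi
  exact ⟨(DerivedCategory.homologyFunctor _ i).mapIso
      ((LpullPoint.LpullCongr hk).symm.app E₀ ≪≫ (c.app E₀).symm ≪≫
        (DCoh.Lpull k).mapIso ((DCoh.Lpull V.ι).mapIso eM.symm ≪≫ o)) ≪≫
    (asIso ((DerivedCategory.homologyFunctor _ i).map ((DCoh.Lpull k).map α))).symm ≪≫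
    (DerivedCategory.homologyFunctor _ i).mapIso
      (LpullIso k P₀ (PerfectPull.kfl_of_isStrictlyPerfect P₀ hP₀)) ≪≫
    (DerivedCategory.homologyFunctorFactors _ i).app _⟩

/-- the rank of the range is invariant under composition with isomorphisms -/
lemma finrank_range_conj {R : Type u} [Ring R] {A A' B B' : ModuleCat.{u} R} (g : A ⟶ B)
    (i : A' ≅ A) (j : B ≅ B') :
    Module.finrank R (LinearMap.range (i.hom ≫ g ≫ j.hom).hom) =
      Module.finrank R (LinearMap.range g.hom) := by
  have h1 : LinearMap.range (i.hom ≫ g ≫ j.hom).hom =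
      (LinearMap.range g.hom).map j.hom.hom := by
    have hi : LinearMap.range i.hom.hom = ⊤ :=
      LinearMap.range_eq_top.2 i.toLinearEquiv.surjective
    rw [ModuleCat.hom_comp, ModuleCat.hom_comp, LinearMap.range_comp, hi, Submodule.map_top,
      LinearMap.range_comp]
  rw [h1]
  exact (LinearEquiv.finrank_eq (Submodule.equivMapOfInjective _
    j.toLinearEquiv.injective _)).symm

section Point

variable (x : X)

lemma exists_isFieldPoint : ∃ z : Spec (X.residueField x),
    IsFieldPoint (Spec (X.residueField x)) z := by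
  obtain ⟨z, hz⟩ := exists_point x
  exact ⟨z, ⟨hz, isField_Γtop x⟩⟩

variable [DCoh.HasLpull (X.fromSpecResidueField x)]

theorem betti_eq' (E : DCoh.D X) (C : CochainComplex (Spec (X.residueField x)).Modules ℤ)
    (i : ℤ) (h : DCoh.HD ((DCoh.Lpull (X.fromSpecResidueField x)).obj E) i ≅ C.homology i) :
    PerfD.betti E x i =
      Module.finrank (Coh.Γtop (Spec (X.residueField x))) ((evCx x C).homology i) := by
  unfold PerfD.betti
  exact LinearEquiv.finrank_eq
    ((evTop (Spec (X.residueField x))).mapIso h ≪≫ evHomologyIso x C i).toLinearEquiv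

/-- the Betti number in terms of a free-termed model -/
theorem betti_formula (E : DCoh.D X) (C : CochainComplex (Spec (X.residueField x)).Modules ℤ)
    (i : ℤ) (h : DCoh.HD ((DCoh.Lpull (X.fromSpecResidueField x)).obj E) i ≅ C.homology i)
    (n : ℤ → ℕ) (iso : ∀ j : ℤ, C.X j ≅ FlatMod.freeMod (Spec (X.residueField x)) (n j)) :
    (PerfD.betti E x i : ℤ) = n i -
      Module.finrank (Coh.Γtop (Spec (X.residueField x)))
        (LinearMap.range ((evTop (Spec (X.residueField x))).map
          ((iso (i - 1)).inv ≫ C.d (i - 1) i ≫ (iso i).hom)).hom) -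
      Module.finrank (Coh.Γtop (Spec (X.residueField x)))
        (LinearMap.range ((evTop (Spec (X.residueField x))).map
          ((iso i).inv ≫ C.d i (i + 1) ≫ (iso (i + 1)).hom)).hom) := by
  rw [betti_eq' x E C i h]
  letI : Field (Coh.Γtop (Spec (X.residueField x))) := (isField_Γtop x).toField
  let L : ∀ j : ℤ, (evCx x C).X j ≃ₗ[Coh.Γtop (Spec (X.residueField x))]
      (Fin (n j) → Coh.Γtop (Spec (X.residueField x))) := fun j =>
    ((evTop (Spec (X.residueField x))).mapIso (iso j)).toLinearEquiv ≪≫ₗ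
      evTopFreeEquiv (Spec (X.residueField x)) (n j)
  have hfin : ∀ j : ℤ, Module.Finite (Coh.Γtop (Spec (X.residueField x))) ((evCx x C).X j) :=
    fun j => Module.Finite.equiv (L j).symm
  have hrk : ∀ j : ℤ, Module.finrank (Coh.Γtop (Spec (X.residueField x))) ((evCx x C).X j) =
      n j := fun j => (L j).finrank_eq.trans (Module.finrank_fin_fun _)
  have key := EulerCx.finrank_sub (evCx x C) i
  rw [hrk i] at key
  have hconj : ∀ p q : ℤ, EulerCx.rk (evCx x C) p q =
      Module.finrank (Coh.Γtop (Spec (X.residueField x)))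
        (LinearMap.range ((evTop (Spec (X.residueField x))).map
          ((iso p).inv ≫ C.d p q ≫ (iso q).hom)).hom) := by
    intro p q
    rw [Functor.map_comp, Functor.map_comp]
    exact (finrank_range_conj ((evTop (Spec (X.residueField x))).map (C.d p q))
      ((evTop (Spec (X.residueField x))).mapIso (iso p).symm)
      ((evTop (Spec (X.residueField x))).mapIso (iso q))).symm
  rw [hconj, hconj] at key
  omega

end Point

end Groth.Agent.H5.BettiModel
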