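import Groth.Agent.H5.PointSplit
import Groth.Agent.H5.BettiModel
import Groth.Agent.H33.LocCoh.Conservative

/-!
# The locus where a perfect complex is a locally free module of rank `r` placed in degree `i`
-/

set_option autoImplicit false
set_option linter.style.haveILetI false
universe u
open CategoryTheory CategoryTheory.Limits AlgebraicGeometry TopologicalSpace Opposite ZeroObject

attribute [local instance] HasDerivedCategory.standard

namespace Groth.Agent.H5.LocFreeLocus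

open Groth.Agent.H5.RankOpen Groth.Agent.H5.PCAlong Groth.Agent.H5.PerfectTriangle Lpull
  Scheme.Modules Groth.Agent.H5.PointSplit Groth.Agent.H5.PullbackUnit

attribute [local instance] Lpull.hasLpull

section General

variable {S W X : Scheme.{u}}

/-- a module placed in degree `i`, as an object of the derived category -/
noncomputable abbrev sg (i : ℤ) (F : W.Modules) : DCoh.D W :=
  (DerivedCategory.singleFunctor W.Modules i).obj F

/-- the cohomology of a module placed in degree `i` -/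
noncomputable def HDSgIso (i : ℤ) (F : W.Modules) : DCoh.HD (sg i F) i ≅ F :=
  (DerivedCategory.homologyFunctor _ i).mapIso
      ((DerivedCategory.singleFunctorIsoCompQ W.Modules i).app F) ≪≫
    (DerivedCategory.homologyFunctorFactors _ i).app _ ≪≫
    HomologicalComplex.singleObjHomologySelfIso (ComplexShape.up ℤ) i F

lemma isZero_HD_sg (i n : ℤ) (hn : n ≠ i) (F : W.Modules) : IsZero (DCoh.HD (sg i F) n) := by
  refine IsZero.of_iso ?_ ((DerivedCategory.homologyFunctor _ n).mapIso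
      ((DerivedCategory.singleFunctorIsoCompQ W.Modules i).app F) ≪≫
    (DerivedCategory.homologyFunctorFactors _ n).app _)
  change IsZero (((HomologicalComplex.single _ (ComplexShape.up ℤ) i).obj F).homology n)
  rw [← HomologicalComplex.exactAt_iff_isZero_homology]
  exact HomologicalComplex.ExactAt.of_isZero (HomologicalComplex.isZero_single_obj_X _ _ _ _ hn)

/-- the derived pullback of a flat module placed in degree `i` -/
theorem nonempty_Lpull_sg_iso (g : S ⟶ W) (i : ℤ) (F : W.Modules) (hF : FlatMod.IsFlat F) :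
    Nonempty ((DCoh.Lpull g).obj (sg i F) ≅ sg i ((Scheme.Modules.pullback g).obj F)) := by
  let E := (HomologicalComplex.single W.Modules (ComplexShape.up ℤ) i).obj F
  have hvan : DCoh.VanishesOutside E i i := fun n hn =>
    HomologicalComplex.isZero_single_obj_X _ _ _ _ (by omega)
  have hflat : ∀ n, FlatMod.IsFlat (E.X n) := by
    intro n
    by_cases hn : n = i
    · subst hn
      exact FlatTor.flatMod_of_iso
        (HomologicalComplex.singleObjXSelf (ComplexShape.up ℤ) n F).symm hF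
    · exact FlatTor.flatMod_of_isZero (HomologicalComplex.isZero_single_obj_X _ _ _ _ hn)
  have hk : kfl E := kfl_of_flat_of_vanishesOutside E i i hvan hflat
  exact ⟨(DCoh.Lpull g).mapIso ((DerivedCategory.singleFunctorIsoCompQ W.Modules i).app F) ≪≫
    LpullIso g E hk ≪≫
    DerivedCategory.Q.mapIso ((HomologicalComplex.singleMapHomologicalComplex
      (Scheme.Modules.pullback g) (ComplexShape.up ℤ) i).app F) ≪≫
    ((DerivedCategory.singleFunctorIsoCompQ S.Modules i).app _).symm⟩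

lemma flatMod_freeMod (r : ℕ) : FlatMod.IsFlat (FlatMod.freeMod W r) :=
  PerfectPull.flatMod_of_isFinLocFree _ (fun _ =>
    ⟨⊤, r, trivial, ⟨Groth.Agent.H44.restrictFreeModIso (⊤ : W.Opens).ι r⟩⟩)

/-- the derived pullback of "free of rank `r` in degree `i`" -/
theorem nonempty_Lpull_iso_sg_free (g : S ⟶ W) (i : ℤ) (r : ℕ) (K : DCoh.D W)
    (e : K ≅ sg i (FlatMod.freeMod W r)) :
    Nonempty ((DCoh.Lpull g).obj K ≅ sg i (FlatMod.freeMod S r)) := by
  obtain ⟨c⟩ := nonempty_Lpull_sg_iso g i (FlatMod.freeMod W r) (flatMod_freeMod r)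
  exact ⟨(DCoh.Lpull g).mapIso e ≪≫ c ≪≫
    (DerivedCategory.singleFunctor S.Modules i).mapIso (pullbackFreeIso g r)⟩

/-- `L(g ≫ h)^* ≅ Lg^* ∘ Lh^*`, objectwise -/
theorem nonempty_Lpull_comp_app_iso (g : S ⟶ W) (h : W ⟶ X) (K : DCoh.D X) :
    Nonempty ((DCoh.Lpull (g ≫ h)).obj K ≅ (DCoh.Lpull g).obj ((DCoh.Lpull h).obj K)) := by
  obtain ⟨c⟩ := LpullComp.nonempty_Lpull_comp_iso g h
  exact ⟨(c.app K).symm⟩

end General

section Glue

variable {Y : Scheme.{u}}

/-- the cohomology of the derived restriction to an open is the restriction of the cohomology -/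
theorem nonempty_HD_Lpull_open_iso (U : Y.Opens) (K : DCoh.D Y) (n : ℤ) :
    Nonempty (DCoh.HD ((DCoh.Lpull U.ι).obj K) n ≅ (restrictFunctor U.ι).obj (DCoh.HD K n)) := by
  let G := DerivedCategory.Q.objPreimage K
  let eG : DerivedCategory.Q.obj G ≅ K := DerivedCategory.Q.objObjPreimageIso K
  obtain ⟨o⟩ := nonempty_Lpull_openImm_iso U.ι G
  let R := restrictFunctor U.ι
  exact ⟨(DerivedCategory.homologyFunctor _ n).mapIso
      ((DCoh.Lpull U.ι).mapIso eG.symm ≪≫ o ≪≫ (R.mapDerivedCategoryFactors.app G).symm) ≪≫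
    (Groth.Agent.H16.ExactDer.homologyNatIso R n).app (DerivedCategory.Q.obj G) ≪≫
    R.mapIso ((DerivedCategory.homologyFunctor _ n).mapIso eG)⟩

/-- a module which vanishes locally vanishes -/
lemma isZero_of_locally (M : Y.Modules)
    (h : ∀ y : Y, ∃ U : Y.Opens, y ∈ U ∧ IsZero ((restrictFunctor U.ι).obj M)) : IsZero M := by
  have hiso : IsIso (0 : M ⟶ 0) := by
    apply Groth.Agent.H33.LocCoh.isIso_of_isIso_restrict
    intro y
    obtain ⟨U, hyU, hU⟩ := h y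
    refine ⟨U, U.ι, inferInstance, ⟨y, hyU⟩, rfl, ?_⟩
    have h0 : IsZero ((restrictFunctor U.ι).obj (0 : Y.Modules)) :=
      (restrictFunctor U.ι).map_isZero (isZero_zero _)
    have : (restrictFunctor U.ι).map (0 : M ⟶ 0) = (hU.iso h0).hom := hU.eq_of_src _ _
    rw [this]
    infer_instance
  exact IsZero.of_iso (isZero_zero _) (asIso (0 : M ⟶ 0))

/-- **Gluing.** An object of `D(O_Y)` which is locally a free module of rank `r` placed in
degree `i` is globally a finite locally free module of rank `r` placed in degree `i`. -/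
theorem exists_iso_sg (K : DCoh.D Y) (i : ℤ) (r : ℕ)
    (h : ∀ y : Y, ∃ U : Y.Opens, y ∈ U ∧
      Nonempty ((DCoh.Lpull U.ι).obj K ≅ sg i (FlatMod.freeMod (U : Scheme.{u}) r))) :
    ∃ V : Y.Modules, FlatMod.IsFinLocFreeOfRank r V ∧ Nonempty (K ≅ sg i V) := by
  have hz : ∀ n : ℤ, n ≠ i → IsZero (DCoh.HD K n) := by
    intro n hn
    refine isZero_of_locally _ (fun y => ?_)
    obtain ⟨U, hyU, ⟨e⟩⟩ := h y
    obtain ⟨c⟩ := nonempty_HD_Lpull_open_iso U K n
    exact ⟨U, hyU, ((isZero_HD_sg i n hn _).of_iso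
      ((DerivedCategory.homologyFunctor _ n).mapIso e)).of_iso c.symm⟩
  haveI : K.IsGE i := (DerivedCategory.isGE_iff K i).2 (fun n hn => hz n (ne_of_lt hn))
  haveI : K.IsLE i := (DerivedCategory.isLE_iff K i).2 (fun n hn => hz n (ne_of_gt hn))
  obtain ⟨A, ⟨eA⟩⟩ := DerivedCategory.exists_iso_singleFunctor_obj_of_isGE_of_isLE K i
  refine ⟨A, fun y => ?_, ⟨eA⟩⟩
  obtain ⟨U, hyU, ⟨e⟩⟩ := h y
  obtain ⟨c⟩ := nonempty_HD_Lpull_open_iso U K i
  exact ⟨U, hyU, ⟨(restrictFunctor U.ι).mapIso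
      ((HDSgIso i A).symm ≪≫ (DerivedCategory.homologyFunctor _ i).mapIso eA.symm) ≪≫
    c.symm ≪≫ (DerivedCategory.homologyFunctor _ i).mapIso e ≪≫ HDSgIso i _⟩⟩

end Glue

section Locus

variable {X : Scheme.{u}}

/-- the locus where `E` is, locally, a free module of rank `r` placed in degree `i` -/
def locus (E : DCoh.D X) (i : ℤ) (r : ℕ) : Set X :=
  {x | ∃ W : X.Opens, x ∈ W ∧
    Nonempty ((DCoh.Lpull W.ι).obj E ≅ sg i (FlatMod.freeMod (W : Scheme.{u}) r))}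

lemma isOpen_locus (E : DCoh.D X) (i : ℤ) (r : ℕ) : IsOpen (locus E i r) := by
  rw [isOpen_iff_forall_mem_open]
  rintro x ⟨W, hxW, hW⟩
  exact ⟨W, fun y hy => ⟨W, hy, hW⟩, W.isOpen, hxW⟩

/-- if `f` factors through the locus, then `Lf^* E` is a finite locally free module of rank `r`
placed in degree `i` -/
theorem exists_iso_of_range_subset {Y : Scheme.{u}} (f : Y ⟶ X) (E : DCoh.D X) (i : ℤ) (r : ℕ)
    (h : Set.range f.base ⊆ locus E i r) :
    ∃ V : Y.Modules, FlatMod.IsFinLocFreeOfRank r V ∧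
      Nonempty ((DCoh.Lpull f).obj E ≅ sg i V) := by
  apply exists_iso_sg
  intro y
  obtain ⟨W, hxW, ⟨eW⟩⟩ := h ⟨y, rfl⟩
  refine ⟨f ⁻¹ᵁ W, hxW, ?_⟩
  obtain ⟨c₁⟩ := nonempty_Lpull_comp_app_iso (f ⁻¹ᵁ W).ι f E
  obtain ⟨c₂⟩ := nonempty_Lpull_comp_app_iso (f ∣_ W) W.ι E
  obtain ⟨c₃⟩ := nonempty_Lpull_iso_sg_free (f ∣_ W) i r _ eW
  exact ⟨c₁.symm ≪≫ (LpullPoint.LpullCongr (morphismRestrict_ι f W).symm).app E ≪≫ c₂ ≪≫ c₃⟩

lemma isFinLocFree_of_rank {Y : Scheme.{u}} {r : ℕ} {V : Y.Modules}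
    (hV : FlatMod.IsFinLocFreeOfRank r V) : FlatMod.IsFinLocFree V := fun y => by
  obtain ⟨U, hy, e⟩ := hV y
  exact ⟨U, r, hy, e⟩

/-- the pullback of a finite locally free module of rank `r` to a field point is free of rank
`r` -/
lemma nonempty_pullback_iso_free {Y T : Scheme.{u}} (ι : T ⟶ Y) {z : T} (hT : IsFieldPoint T z)
    (V : Y.Modules) (r : ℕ) (hV : FlatMod.IsFinLocFreeOfRank r V) :
    Nonempty ((Scheme.Modules.pullback ι).obj V ≅ FlatMod.freeMod T r) := by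
  obtain ⟨U, hyU, ⟨t⟩⟩ := hV (ι.base z)
  have hmem : ι.base z ∈ Set.range U.ι.base := by
    rw [Scheme.Opens.range_ι]
    exact hyU
  let ι₀ : T ⟶ (U : Scheme.{u}) :=
    IsOpenImmersion.lift U.ι ι (range_subset_of_mem hT U.ι ι hmem)
  have hι₀ : ι₀ ≫ U.ι = ι := IsOpenImmersion.lift_fac _ _ _
  exact ⟨(Scheme.Modules.pullbackCongr hι₀.symm).app V ≪≫
    ((Scheme.Modules.pullbackComp ι₀ U.ι).app V).symm ≪≫
    (Scheme.Modules.pullback ι₀).mapIso
      (((Scheme.Modules.restrictFunctorIsoPullback U.ι).app V).symm ≪≫ t) ≪≫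
    pullbackFreeIso ι₀ r⟩

/-- free modules of different ranks on a nonempty scheme are not isomorphic -/
lemma eq_of_free_iso {T : Scheme.{u}} {z : T} (hT : IsFieldPoint T z) (r n : ℕ)
    (e : FlatMod.freeMod T r ≅ FlatMod.freeMod T n) : r = n := by
  haveI : Nontrivial (Coh.Γtop T) := hT.field.nontrivial
  let L : (Fin r → Coh.Γtop T) ≃ₗ[Coh.Γtop T] (Fin n → Coh.Γtop T) :=
    (FreeSections.evTopFreeEquiv T r).symm ≪≫ₗ
      ((OnePoint.evTop T).mapIso e).toLinearEquiv ≪≫ₗ FreeSections.evTopFreeEquiv T n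
  have h := L.finrank_eq
  rwa [Module.finrank_fin_fun, Module.finrank_fin_fun] at h

/-- if `Lf^* E` is a finite locally free module of rank `r` placed in degree `i` and `E` is
perfect, then `f` factors through the locus -/
theorem mem_locus {Y : Scheme.{u}} (f : Y ⟶ X) (E : DCoh.D X) (hE : DCoh.IsPerfect E) (i : ℤ)
    (r : ℕ) (V : Y.Modules) (hV : FlatMod.IsFinLocFreeOfRank r V)
    (e : (DCoh.Lpull f).obj E ≅ sg i V) (y : Y) : f.base y ∈ locus E i r := by
  let T : Scheme.{u} := Spec (Y.residueField y)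
  let ι : T ⟶ Y := Y.fromSpecResidueField y
  obtain ⟨z, hz⟩ := BettiModel.exists_isFieldPoint y
  have hιz : ι.base z = y := Scheme.fromSpecResidueField_apply y z
  obtain ⟨V₀, hxV₀, hV₀⟩ := hE (f.base y)
  let M := DerivedCategory.Q.objPreimage E
  let eM : DerivedCategory.Q.obj M ≅ E := DerivedCategory.Q.objObjPreimageIso E
  obtain ⟨P, hP, ⟨eP⟩⟩ := hV₀ M ⟨eM⟩
  obtain ⟨a, b, hab⟩ := hP.1
  have hmem : (ι ≫ f).base z ∈ Set.range V₀.ι.base := by
    rw [Scheme.Opens.range_ι]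
    change f.base (ι.base z) ∈ V₀
    rw [hιz]
    exact hxV₀
  let k : T ⟶ (V₀ : Scheme.{u}) :=
    IsOpenImmersion.lift V₀.ι (ι ≫ f) (range_subset_of_mem hz V₀.ι (ι ≫ f) hmem)
  have hk : k ≫ V₀.ι = ι ≫ f := IsOpenImmersion.lift_fac _ _ _
  obtain ⟨o⟩ := nonempty_Lpull_openImm_iso V₀.ι M
  let eV₀ : (DCoh.Lpull V₀.ι).obj E ≅ DerivedCategory.Q.obj P :=
    (DCoh.Lpull V₀.ι).mapIso eM.symm ≪≫ o ≪≫ eP
  obtain ⟨c₁⟩ := nonempty_Lpull_factor_iso V₀.ι (ι ≫ f) k hk E
  obtain ⟨c₂⟩ := nonempty_Lpull_comp_app_iso ι f E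
  have hVflat : FlatMod.IsFlat V := PerfectPull.flatMod_of_isFinLocFree V (isFinLocFree_of_rank hV)
  obtain ⟨c₃⟩ := nonempty_Lpull_sg_iso ι i V hVflat
  let key : (DCoh.Lpull k).obj (DerivedCategory.Q.obj P) ≅
      sg i ((Scheme.Modules.pullback ι).obj V) :=
    (DCoh.Lpull k).mapIso eV₀.symm ≪≫ c₁ ≪≫ c₂ ≪≫ (DCoh.Lpull ι).mapIso e ≪≫ c₃
  have hyp : ∀ n : ℤ, n ≠ i →
      IsZero (DCoh.HD ((DCoh.Lpull k).obj (DerivedCategory.Q.obj P)) n) := fun n hn =>
    (isZero_HD_sg i n hn _).of_iso ((DerivedCategory.homologyFunctor _ n).mapIso key)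
  obtain ⟨W', j, hj, ⟨w, hw⟩, F, hF, ⟨eF⟩⟩ :=
    splits hz i ((b - a).toNat + 1) P a b hP hab (by omega) k hyp
  -- shrink to make `F` free
  obtain ⟨U', n, hwU', ⟨t⟩⟩ := hF w
  let j' : (U' : Scheme.{u}) ⟶ (V₀ : Scheme.{u}) := U'.ι ≫ j
  obtain ⟨d₁⟩ := nonempty_Lpull_comp_app_iso U'.ι j (DerivedCategory.Q.obj P)
  obtain ⟨d₂⟩ := nonempty_Lpull_sg_iso U'.ι i F (PerfectPull.flatMod_of_isFinLocFree F hF)
  let eF' : (DCoh.Lpull j').obj (DerivedCategory.Q.obj P) ≅
      sg i (FlatMod.freeMod (U' : Scheme.{u}) n) :=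
    d₁ ≪≫ (DCoh.Lpull U'.ι).mapIso eF ≪≫ d₂ ≪≫
      (DerivedCategory.singleFunctor _ i).mapIso
        (((Scheme.Modules.restrictFunctorIsoPullback U'.ι).app F).symm ≪≫ t)
  -- the rank
  have hmem' : k.base z ∈ Set.range j'.base := ⟨⟨w, hwU'⟩, hw⟩
  let k' : T ⟶ (U' : Scheme.{u}) :=
    IsOpenImmersion.lift j' k (range_subset_of_mem hz j' k hmem')
  have hk' : k' ≫ j' = k := IsOpenImmersion.lift_fac _ _ _
  obtain ⟨g₁⟩ := nonempty_Lpull_factor_iso j' k k' hk' (DerivedCategory.Q.obj P)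
  obtain ⟨g₂⟩ := nonempty_Lpull_iso_sg_free k' i n _ eF'
  have hrn : n = r := by
    obtain ⟨v⟩ := nonempty_pullback_iso_free ι hz V r hV
    exact eq_of_free_iso hz n r ((HDSgIso i _).symm ≪≫
      (DerivedCategory.homologyFunctor _ i).mapIso (g₂.symm ≪≫ g₁ ≪≫ key) ≪≫ HDSgIso i _ ≪≫ v)
  subst hrn
  -- conclusion
  let j'' : (U' : Scheme.{u}) ⟶ X := j' ≫ V₀.ι
  obtain ⟨q₁⟩ := nonempty_Lpull_comp_app_iso j' V₀.ι E
  let eFinal : (DCoh.Lpull j'').obj E ≅ sg i (FlatMod.freeMod (U' : Scheme.{u}) n) :=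
    q₁ ≪≫ (DCoh.Lpull j').mapIso eV₀ ≪≫ eF'
  refine ⟨j''.opensRange, ⟨⟨w, hwU'⟩, ?_⟩, ?_⟩
  · change V₀.ι.base (j.base w) = f.base y
    rw [hw]
    change (k ≫ V₀.ι).base z = f.base y
    rw [hk]
    change f.base (ι.base z) = f.base y
    rw [hιz]
  · obtain ⟨p₁⟩ := nonempty_Lpull_comp_app_iso j''.isoOpensRange.inv j'' E
    obtain ⟨p₂⟩ := nonempty_Lpull_iso_sg_free j''.isoOpensRange.inv i n _ eFinal
    exact ⟨(LpullPoint.LpullCongr j''.isoOpensRange_inv_comp.symm).app E ≪≫ p₁ ≪≫ p₂⟩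

end Locus

end Groth.Agent.H5.LocFreeLocus
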