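import Groth.Agent.H5.BrownShift
import Groth.Prelude.Def_CohDer

set_option autoImplicit false
set_option linter.unusedSectionVars false

universe v u

open CategoryTheory CategoryTheory.Limits Opposite Pretriangulated Pretriangulated.Opposite

namespace Groth.Agent.H5.Brown

variable {D : Type u} [Category.{v} D] [Preadditive D] [HasZeroObject D] [HasShift D ℤ]
  [∀ n : ℤ, (shiftFunctor D n).Additive] [Pretriangulated D]
  [HasCoproductsOfShape ℕ D] [HasCoproducts.{v} D]
  {ι : Type v} (E : ι → D)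

/-- a family of compact objects satisfies hypothesis (2) -/
lemma factors_of_compact (hc : ∀ i, CohDer.IsCompactObject (E i)) : Factors E := by
  classical
  intro X i α
  let e : (∐ (X ∘ (Equiv.ulift.{v, 0} : ULift.{v} ℕ ≃ ℕ))) ≅ ∐ X := Sigma.reindex Equiv.ulift X
  obtain ⟨x, hx⟩ := (hc i _ (X ∘ (Equiv.ulift.{v, 0} : ULift.{v} ℕ ≃ ℕ))).2 (α ≫ e.inv)
  refine ⟨fun _ => i, fun n => x ⟨n⟩,
    ∑ k ∈ DFinsupp.support x, Sigma.ι (fun _ : ℕ => E i) k.down, ?_⟩
  have hα : α = CohDer.homSumToHomCoprod (E i) _ x ≫ e.hom := by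
    rw [hx, Category.assoc, e.inv_hom_id, Category.comp_id]
  rw [hα]
  conv_lhs => rw [← DirectSum.sum_support_of x]
  rw [map_sum, Preadditive.sum_comp, Preadditive.sum_comp]
  apply Finset.sum_congr rfl
  intro k _
  rw [Sigma.ι_map]
  have : CohDer.homSumToHomCoprod (E i) (X ∘ (Equiv.ulift.{v, 0} : ULift.{v} ℕ ≃ ℕ))
      (DirectSum.of _ k (x k)) = x k ≫ Sigma.ι _ k := by
    unfold CohDer.homSumToHomCoprod
    erw [DirectSum.toAddMonoid_of]
    rfl
  rw [this, Category.assoc, Sigma.ι_reindex_hom]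
  rfl

/-- a generating family: its shifts detect zero objects -/
lemma detect_of_generates (hg : CohDer.Generates E) :
    ∀ X : D, ¬ IsZero X → ∃ (p : ι × ℤ) (f : shiftFam E p ⟶ X), f ≠ 0 := by
  intro X hX
  by_contra hcon
  push Not at hcon
  apply hX
  apply hg X
  intro i n f
  have h0 := hcon (i, -n) (f⟦-n⟧' ≫ (shiftFunctorCompIsoId D n (-n) (add_neg_cancel n)).hom.app X)
  have h1 : f⟦-n⟧' = 0 := by
    have : f⟦-n⟧' ≫ (shiftFunctorCompIsoId D n (-n) (add_neg_cancel n)).hom.app X =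
        0 ≫ (shiftFunctorCompIsoId D n (-n) (add_neg_cancel n)).hom.app X := by
      rw [zero_comp]; exact h0
    exact (cancel_mono _).mp this
  apply (shiftFunctor D (-n)).map_injective
  rw [h1, Functor.map_zero]

end Groth.Agent.H5.Brown
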