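import Mathlib.Algebra.Homology.ShortComplex.HomologicalComplex
import Mathlib.Algebra.Homology.ShortComplex.ShortExact
import Mathlib.Algebra.Homology.ShortComplex.ExactFunctor
import Mathlib.Algebra.Homology.Additive
import Mathlib.CategoryTheory.Abelian.Exact

/-!
# Images of acyclic complexes under functors preserving the exactness of the cycle sequences
-/

set_option autoImplicit false
open CategoryTheory CategoryTheory.Limits

namespace Groth.Agent.H5.AcyclicMap

variable {A B : Type*} [Category A] [Abelian A] [Category B] [Abelian B]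
  (K : CochainComplex A ℤ)

/-- the short complex `Z^i ⟶ K^i ⟶ Z^j` -/
noncomputable def cyclesSC (i j : ℤ) : ShortComplex A :=
  ShortComplex.mk (K.iCycles i) (K.toCycles i j) (by
    rw [← cancel_mono (K.iCycles j), Category.assoc, K.toCycles_i, K.iCycles_d, zero_comp])

lemma epi_toCycles (i j : ℤ) (hij : (ComplexShape.up ℤ).prev j = i) (h : K.ExactAt j) :
    Epi (K.toCycles i j) := by
  subst hij
  rw [HomologicalComplex.exactAt_iff, ShortComplex.exact_iff_epi_toCycles] at h
  exact h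

lemma cyclesSC_shortExact (i j : ℤ) (hij : i + 1 = j) (h : K.ExactAt j) :
    (cyclesSC K i j).ShortExact where
  exact := by
    refine ShortComplex.exact_of_f_is_kernel _ ?_
    exact isKernelOfComp (K.iCycles j) (K.d i j) (K.cyclesIsKernel i j (by simp [hij]))
      (cyclesSC K i j).zero (K.toCycles_i i j)
  mono_f := inferInstanceAs (Mono (K.iCycles i))
  epi_g := epi_toCycles K i j (by simp [← hij]) h

variable (F : A ⥤ B) [F.Additive]

/-- If `F` preserves the short exactness of the sequences `0 ⟶ Z^i ⟶ K^i ⟶ Z^{i+1} ⟶ 0`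
of an acyclic complex `K`, then `F K` is acyclic. -/
theorem exactAt_map (hF : ∀ i j : ℤ, i + 1 = j → ((cyclesSC K i j).map F).ShortExact) (j : ℤ) :
    ((F.mapHomologicalComplex (ComplexShape.up ℤ)).obj K).ExactAt j := by
  rw [HomologicalComplex.exactAt_iff' _ (j - 1) j (j + 1) (by simp) (by simp)]
  have h₁ : Epi (F.map (K.toCycles (j - 1) j)) := (hF (j - 1) j (by lia)).epi_g
  have h₂ : ((cyclesSC K j (j + 1)).map F).Exact := (hF j (j + 1) rfl).exact
  have h₃ : Mono (F.map (K.iCycles (j + 1))) := (hF (j + 1) (j + 1 + 1) rfl).mono_f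
  -- the intermediate short complex
  let T₁ : ShortComplex B := ShortComplex.mk (F.map (K.d (j - 1) j)) (F.map (K.toCycles j (j + 1)))
    (by
      rw [← F.map_comp, ← cancel_mono (F.map (K.iCycles (j + 1))), ← F.map_comp, Category.assoc,
        K.toCycles_i, K.d_comp_d, F.map_zero, zero_comp])
  let φ : T₁ ⟶ (cyclesSC K j (j + 1)).map F :=
    { τ₁ := F.map (K.toCycles (j - 1) j)
      τ₂ := 𝟙 _
      τ₃ := 𝟙 _
      comm₁₂ := by
        change F.map (K.toCycles (j - 1) j) ≫ F.map (K.iCycles j) = F.map (K.d (j - 1) j) ≫ 𝟙 _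
        rw [Category.comp_id, ← F.map_comp, K.toCycles_i]
      comm₂₃ := by
        change 𝟙 _ ≫ F.map (K.toCycles j (j + 1)) = F.map (K.toCycles j (j + 1)) ≫ 𝟙 _
        rw [Category.comp_id, Category.id_comp] }
  have : Epi φ.τ₁ := h₁
  have : IsIso φ.τ₂ := inferInstanceAs (IsIso (𝟙 _))
  have : Mono φ.τ₃ := inferInstanceAs (Mono (𝟙 _))
  have hT₁ : T₁.Exact := (ShortComplex.exact_iff_of_epi_of_isIso_of_mono φ).2 h₂
  let ψ : T₁ ⟶ ((F.mapHomologicalComplex (ComplexShape.up ℤ)).obj K).sc' (j - 1) j (j + 1) :=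
    { τ₁ := 𝟙 _
      τ₂ := 𝟙 _
      τ₃ := F.map (K.iCycles (j + 1))
      comm₁₂ := by
        change 𝟙 _ ≫ F.map (K.d (j - 1) j) = F.map (K.d (j - 1) j) ≫ 𝟙 _
        rw [Category.comp_id, Category.id_comp]
      comm₂₃ := by
        change 𝟙 _ ≫ F.map (K.d j (j + 1)) =
          F.map (K.toCycles j (j + 1)) ≫ F.map (K.iCycles (j + 1))
        rw [Category.id_comp, ← F.map_comp, K.toCycles_i] }
  have : Epi ψ.τ₁ := inferInstanceAs (Epi (𝟙 _))
  have : IsIso ψ.τ₂ := inferInstanceAs (IsIso (𝟙 _))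
  have : Mono ψ.τ₃ := h₃
  exact (ShortComplex.exact_iff_of_epi_of_isIso_of_mono ψ).1 hT₁

end Groth.Agent.H5.AcyclicMap
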