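import Groth.Agent.H5.ResDerivLeft
import Groth.Agent.H5.TriDerivLeftTriangle
import Mathlib.Algebra.Homology.DerivedCategory.HomologySequence

/-!
# Left derived functors via resolutions: distinguished triangles (weak form)
-/

set_option autoImplicit false
universe w w' v' u' v u
open CategoryTheory CategoryTheory.Limits Pretriangulated ZeroObject

namespace Groth.Agent.H5.ResDerivLeftTriangle

open ResDerivLeft

variable {A : Type u} [Category.{v} A] [Abelian A] [HasDerivedCategory.{w} A]
  {kf : ObjectProperty (CochainComplex A ℤ)} (H : Hyp kf)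
  {B : Type u'} [Category.{v'} B] [Abelian B] [HasDerivedCategory.{w'} B]
  (F : A ⥤ B) [F.Additive]
  (hF : ∀ P : CochainComplex A ℤ, kf P → (∀ i, P.ExactAt i) →
    ∀ i, ((F.mapHomologicalComplex (ComplexShape.up ℤ)).obj P).ExactAt i)

include H hF in
theorem exists_distTriang_aux
    (W₂ : MorphismProperty (HomotopyCategory A (ComplexShape.up ℤ)))
    (hW : W₂ = (ℬ A).trW)
    [(DerivedCategory.Qh (C := A)).IsLocalization W₂]
    (LF : DerivedCategory A ⥤ DerivedCategory B) (α : DerivedCategory.Qh ⋙ LF ⟶ G F)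
    [LF.IsLeftDerivedFunctor α W₂]
    (T : Triangle (DerivedCategory A)) (hT : T ∈ distTriang (DerivedCategory A)) :
    ∃ T' ∈ distTriang (DerivedCategory B), Nonempty (T'.obj₁ ≅ LF.obj T.obj₁) ∧
      Nonempty (T'.obj₂ ≅ LF.obj T.obj₂) ∧ Nonempty (T'.obj₃ ≅ LF.obj T.obj₃) := by
  subst hW
  have := isTriangulated H
  exact TriDerivLeftTriangle.exists_distTriang (𝒜 kf) (ℬ A) (hres H) (G F) (isZero_G_obj F hF)
    DerivedCategory.Qh LF α T hT

include H hF in
/-- Weak triangulatedness of the left derived functor. -/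
theorem exists_distTriang
    (LF : DerivedCategory A ⥤ DerivedCategory B) (α : DerivedCategory.Qh ⋙ LF ⟶ G F)
    [LF.IsLeftDerivedFunctor α (HomotopyCategory.quasiIso A (ComplexShape.up ℤ))]
    (T : Triangle (DerivedCategory A)) (hT : T ∈ distTriang (DerivedCategory A)) :
    ∃ T' ∈ distTriang (DerivedCategory B), Nonempty (T'.obj₁ ≅ LF.obj T.obj₁) ∧
      Nonempty (T'.obj₂ ≅ LF.obj T.obj₂) ∧ Nonempty (T'.obj₃ ≅ LF.obj T.obj₃) :=
  exists_distTriang_aux H F hF _ (HomotopyCategory.quasiIso_eq_trW_subcategoryAcyclic _) LF α T hT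

end Groth.Agent.H5.ResDerivLeftTriangle
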