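import Groth.Agent.H5.KFlatScheme
import Groth.Agent.H5.ResDerivLeftTriangle

/-!
# The derived tensor product with a module: distinguished triangles and tor amplitude
-/

set_option autoImplicit false
universe u
open CategoryTheory CategoryTheory.Limits AlgebraicGeometry ZeroObject Pretriangulated

attribute [local instance] HasDerivedCategory.standard

namespace Groth.Agent.H5.KFlatSchemeTriangle

open KFlatScheme

variable {X : Scheme.{u}}

/-- Weak triangulatedness of `- ⊗^L F`. -/
theorem exists_distTriang_LTensorMod (F : X.Modules) [DCoh.HasLTensorMod F]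
    (T : Triangle (DCoh.D X)) (hT : T ∈ distTriang (DCoh.D X)) :
    ∃ T' ∈ distTriang (DCoh.D X), Nonempty (T'.obj₁ ≅ (DCoh.LTensorMod F).obj T.obj₁) ∧
      Nonempty (T'.obj₂ ≅ (DCoh.LTensorMod F).obj T.obj₂) ∧
      Nonempty (T'.obj₃ ≅ (DCoh.LTensorMod F).obj T.obj₃) :=
  ResDerivLeftTriangle.exists_distTriang hyp (DCoh.tensorRightMod F) (exactAt_tensorRightMod F)
    _ ((DCoh.tensorModKh F).totalLeftDerivedCounit DerivedCategory.Qh
      (HomotopyCategory.quasiIso X.Modules (ComplexShape.up ℤ))) T hT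

/-- flat amplitude implies tor amplitude -/
theorem hasTorAmplitudeIn_of_hasFlatAmplitudeIn (a b : ℤ) (K : DCoh.D X)
    (h : DCoh.HasFlatAmplitudeIn a b K) : DCoh.HasTorAmplitudeIn a b K := by
  obtain ⟨E, hE, hflat, ⟨e⟩⟩ := h
  intro F _ i hi
  exact (isZero_HD_LTensorMod F E a b hE hflat i hi).of_iso
    ((DerivedCategory.homologyFunctor X.Modules i).mapIso ((DCoh.LTensorMod F).mapIso e.symm))

end Groth.Agent.H5.KFlatSchemeTriangle
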