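import Groth.Agent.H5.FlatCokerScheme
import Groth.Agent.H5.KFlatSchemeTriangle
import Groth.Agent.H45.Resolution.BoundedRes
import Mathlib.Algebra.Homology.SingleHomology

/-!
# Flatness and Tor-vanishing on schemes
-/

set_option autoImplicit false
universe u
open CategoryTheory CategoryTheory.Limits AlgebraicGeometry ZeroObject

attribute [local instance] HasDerivedCategory.standard

namespace Groth.Agent.H5.FlatTor

open KFlatScheme

variable {X : Scheme.{u}}

lemma flatMod_of_iso {M N : X.Modules} (e : M ≅ N) (h : FlatMod.IsFlat M) : FlatMod.IsFlat N := by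
  rw [Groth.Agent.H45.flatMod_iff_isFlat] at h ⊢
  exact Groth.Agent.H45.isFlat_of_iso (O := X.sheaf) e h

lemma flatMod_of_isZero {M : X.Modules} (h : IsZero M) : FlatMod.IsFlat M := by
  rw [Groth.Agent.H45.flatMod_iff_isFlat]
  exact Groth.Agent.H45.isFlat_of_isZero (O := X.sheaf) h

/-- Bounded above complexes have bounded above flat resolutions. -/
theorem exists_flat_resolution (L : CochainComplex X.Modules ℤ) (b : ℤ) [L.IsStrictlyLE b] :
    ∃ (B : CochainComplex X.Modules ℤ) (f : B ⟶ L), B.IsStrictlyLE b ∧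
      (∀ i, FlatMod.IsFlat (B.X i)) ∧ QuasiIso f := by
  have hz : ∀ q : ℤ, IsZero ((0 : CochainComplex X.Modules ℤ).X q) := fun q =>
    (HomologicalComplex.eval _ (ComplexShape.up ℤ) q).map_isZero (isZero_zero _)
  haveI : (0 : CochainComplex X.Modules ℤ).IsStrictlyLE b :=
    (CochainComplex.isStrictlyLE_iff _ b).2 (fun i _ => hz i)
  obtain ⟨R⟩ := Groth.Agent.H45.nonempty_boundedRelRes (P := fun M : X.Modules => FlatMod.IsFlat M)
    (fun M => by
      obtain ⟨Q, q, hQ, hq⟩ := Groth.Agent.H45.exists_flat_cover X.sheaf M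
      exact ⟨Q, q, (Groth.Agent.H45.flatMod_iff_isFlat _).2 hQ, hq⟩)
    (fun Z hZ => flatMod_of_isZero hZ) (0 : (0 : CochainComplex X.Modules ℤ) ⟶ L) b
  refine ⟨R.B, R.f, R.hB, fun i => ?_, R.qi⟩
  obtain ⟨Q, e, hQ, -⟩ := R.split i
  have e' : (0 : CochainComplex X.Modules ℤ).X i ⊞ Q ≅ Q :=
    { hom := biprod.snd
      inv := biprod.inr
      hom_inv_id := by
        apply biprod.hom_ext
        · exact (hz i).eq_of_tgt _ _
        · simp
      inv_hom_id := by simp }
  exact flatMod_of_iso (e ≪≫ e').symm hQ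

/-- A flat module in degree `0` has flat amplitude in `[0, 0]`. -/
lemma hasFlatAmplitudeIn_inD (F : X.Modules) (hF : FlatMod.IsFlat F) :
    DCoh.HasFlatAmplitudeIn 0 0 (DCoh.inD X F) := by
  refine ⟨(HomologicalComplex.single X.Modules (ComplexShape.up ℤ) 0).obj F, ?_, ?_,
    ⟨(DerivedCategory.singleFunctorIsoCompQ X.Modules 0).symm.app F⟩⟩
  · intro i hi
    exact HomologicalComplex.isZero_single_obj_X _ _ _ _ (by lia)
  · intro i
    by_cases h : i = 0
    · subst h
      exact flatMod_of_iso (HomologicalComplex.singleObjXSelf (ComplexShape.up ℤ) 0 F).symm hF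
    · exact flatMod_of_isZero (HomologicalComplex.isZero_single_obj_X _ _ _ _ h)

/-- `coker (B^{-1} → B^0) ≅ H^0(B)` when `B` is concentrated in degrees `≤ 0`. -/
noncomputable def cokernelIsoHomology (B : CochainComplex X.Modules ℤ) [B.IsStrictlyLE 0] :
    cokernel (B.d (-1) 0) ≅ B.homology 0 :=
  (cokernelIsCokernel (B.d (-1) 0)).coconePointUniqueUpToIso
      (B.opcyclesIsCokernel (-1) 0 (by simp)) ≪≫
    (B.isoHomologyι 0 1 (by simp)
      ((B.isZero_of_isStrictlyLE 0 1 (by lia)).eq_of_tgt _ _)).symm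

/-- If `Tor_1(F, G) = 0` for all `G`, then `F` is flat. -/
theorem flatMod_of_tor_one_vanishes (F : X.Modules) (hL : ∀ G : X.Modules, DCoh.HasLTensorMod G)
    (h : ∀ (G : X.Modules) [DCoh.HasLTensorMod G],
      IsZero (DCoh.HD ((DCoh.LTensorMod G).obj (DCoh.inD X F)) (-1))) :
    FlatMod.IsFlat F := by
  obtain ⟨B, f, hB, hflat, hqi⟩ := exists_flat_resolution
    ((HomologicalComplex.single X.Modules (ComplexShape.up ℤ) 0).obj F) 0
  have : IsIso (DerivedCategory.Q.map f) := by
    rw [DerivedCategory.isIso_Q_map_iff_quasiIso]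
    exact hqi
  let iso : DCoh.toD X B ≅ DCoh.inD X F :=
    asIso (DerivedCategory.Q.map f) ≪≫ (DerivedCategory.singleFunctorIsoCompQ X.Modules 0).symm.app F
  have h₁ := FlatCokerScheme.isFlat_cokernel_d_of_isZero_HD B 0 hB hflat hL (-1) 0 (by lia)
    (fun G _ => (h G).of_iso ((DerivedCategory.homologyFunctor X.Modules (-1)).mapIso
      ((DCoh.LTensorMod G).mapIso iso)))
  have := hqi.quasiIsoAt 0
  exact flatMod_of_iso (cokernelIsoHomology B ≪≫ _root_.isoOfQuasiIsoAt f 0 ≪≫
    HomologicalComplex.singleObjHomologySelfIso (ComplexShape.up ℤ) 0 F) h₁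

end Groth.Agent.H5.FlatTor
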