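import Groth.Agent.H5.Stalk.PullbackFlat
import Groth.Agent.H5.AcyclicMap
import Groth.Agent.H5.FlatTor
import Groth.Agent.H45.KFlat.CyclesFlat
import Groth.Prelude.Def_DDual2

/-!
# The derived pullback of modules on schemes: existence and computation on K-flat complexes
with flat terms
-/

set_option autoImplicit false
universe u
open CategoryTheory CategoryTheory.Limits AlgebraicGeometry ZeroObject

attribute [local instance] HasDerivedCategory.standard

namespace Groth.Agent.H5.Lpull

open KFlatScheme FlatTor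

variable {X Y : Scheme.{u}}

/-- K-flat complexes with flat terms -/
def kfl : ObjectProperty (CochainComplex Y.Modules ℤ) :=
  fun K => DCoh.IsKFlat K ∧ ∀ i, FlatMod.IsFlat (K.X i)

lemma flatMod_mappingCone_X {K L : CochainComplex Y.Modules ℤ} (φ : K ⟶ L)
    (hK : ∀ i, FlatMod.IsFlat (K.X i)) (hL : ∀ i, FlatMod.IsFlat (L.X i)) (i : ℤ) :
    FlatMod.IsFlat ((CochainComplex.mappingCone φ).X i) := by
  open CochainComplex.mappingCone in
  let S : ShortComplex Y.Modules :=
    ShortComplex.mk ((inr φ).f i) ((fst φ).1.v i (i + 1) rfl) (inr_f_fst_v φ i (i + 1) rfl)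
  let σ : S.Splitting :=
    { r := (snd φ).v i i (add_zero i)
      s := (inl φ).v (i + 1) i (by lia)
      f_r := inr_f_snd_v φ i
      s_g := inl_v_fst_v φ (i + 1) i rfl
      id := by
        rw [add_comm]
        exact id_X φ i (i + 1) rfl }
  have hS : S.ShortExact := σ.shortExact
  have h₁ : ModSite.IsFlat (O := Y.sheaf) S.X₁ := Groth.Agent.H45.isFlat_of_flatMod _ (hL i)
  have h₃ : ModSite.IsFlat (O := Y.sheaf) S.X₃ := Groth.Agent.H45.isFlat_of_flatMod _ (hK (i + 1))
  rw [Groth.Agent.H45.flatMod_iff_isFlat]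
  exact Groth.Agent.H45.isFlat_of_shortExact_of_isFlat_outer (O := Y.sheaf) S hS h₁ h₃

lemma hyp : ResDerivLeft.Hyp (kfl (Y := Y)) where
  zero := ⟨isKFlat_zero, fun i => flatMod_of_isZero
    ((HomologicalComplex.eval _ (ComplexShape.up ℤ) i).map_isZero (isZero_zero _))⟩
  shift K n hK := ⟨(Groth.Agent.H45.isKFlat_shift_iff (O := Y.sheaf) K n).2 hK.1,
    fun i => hK.2 (i + n)⟩
  cone f h₁ h₂ := ⟨(Groth.Agent.H45.isKFlat_mappingCone_two_of_three (O := Y.sheaf) f).1 h₁.1 h₂.1,
    flatMod_mappingCone_X f h₁.2 h₂.2⟩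
  res G := by
    obtain ⟨K, q, hK, hfl, hq, -⟩ := Groth.Agent.H45.exists_isKFlat_resolution Y.sheaf G
    exact ⟨K, q, ⟨hK, fun i => (Groth.Agent.H45.flatMod_iff_isFlat _).2 (hfl i)⟩, hq⟩

/-- The termwise pullback of an acyclic K-flat complex with flat terms is acyclic. -/
theorem exactAt_pullback (f : X ⟶ Y) (P : CochainComplex Y.Modules ℤ) (hP : kfl P)
    (hP' : ∀ i, P.ExactAt i) (i : ℤ) :
    (((Scheme.Modules.pullback f).mapHomologicalComplex (ComplexShape.up ℤ)).obj P).ExactAt i := by
  refine AcyclicMap.exactAt_map P (Scheme.Modules.pullback f) (fun i j hij => ?_) i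
  refine Stalk.pullback_map_shortExact_of_flat f _ (AcyclicMap.cyclesSC_shortExact P i j hij (hP' j)) ?_
  rw [Groth.Agent.H45.flatMod_iff_isFlat]
  exact Groth.Agent.H45.isFlat_cycles_of_isKFlat_of_acyclic (O := Y.sheaf) hP.1
    (fun i => (hP' i).isZero_homology)
    (fun i => Groth.Agent.H45.isFlat_of_flatMod _ (hP.2 i)) j

/-- The derived pullback always exists. -/
theorem hasLpull (f : X ⟶ Y) : DCoh.HasLpull f :=
  ResDerivLeft.hasLeftDerivedFunctor hyp (Scheme.Modules.pullback f) (exactAt_pullback f)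

/-- The counit of the derived pullback is an isomorphism on K-flat complexes with flat terms. -/
theorem isIso_counit (f : X ⟶ Y) [DCoh.HasLpull f] (K : CochainComplex Y.Modules ℤ)
    (hK : kfl K) :
    IsIso (((DCoh.pullKh f).totalLeftDerivedCounit DerivedCategory.Qh
      (HomotopyCategory.quasiIso Y.Modules (ComplexShape.up ℤ))).app
        ((HomotopyCategory.quotient _ _).obj K)) :=
  ResDerivLeft.isIso_counit hyp (Scheme.Modules.pullback f) (exactAt_pullback f)
    DerivedCategory.Qh _ _ K hK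

/-- On a K-flat complex with flat terms, the derived pullback is computed termwise. -/
noncomputable def LpullIso (f : X ⟶ Y) [DCoh.HasLpull f]
    (K : CochainComplex Y.Modules ℤ) (hK : kfl K) :
    (DCoh.Lpull f).obj (DCoh.toD Y K) ≅
      DCoh.toD X (((Scheme.Modules.pullback f).mapHomologicalComplex (ComplexShape.up ℤ)).obj K) :=
  haveI := isIso_counit f K hK
  (DCoh.Lpull f).mapIso ((DerivedCategory.quotientCompQhIso Y.Modules).app K).symm ≪≫
    asIso (((DCoh.pullKh f).totalLeftDerivedCounit DerivedCategory.Qh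
      (HomotopyCategory.quasiIso Y.Modules (ComplexShape.up ℤ))).app
        ((HomotopyCategory.quotient _ _).obj K)) ≪≫
    DerivedCategory.Qh.mapIso
      (((Scheme.Modules.pullback f).mapHomotopyCategoryFactors (ComplexShape.up ℤ)).app K) ≪≫
    (DerivedCategory.quotientCompQhIso X.Modules).app _

/-- bounded above complexes of flat modules are in `kfl` -/
lemma kfl_of_flat_of_vanishesOutside (E : CochainComplex Y.Modules ℤ) (a b : ℤ)
    (hE : DCoh.VanishesOutside E a b) (hflat : ∀ i, FlatMod.IsFlat (E.X i)) : kfl E :=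
  ⟨isKFlat_of_flat_of_vanishesOutside E a b hE hflat, hflat⟩

/-- The derived pullback preserves flat amplitude. -/
theorem hasFlatAmplitudeIn_Lpull (f : X ⟶ Y) [DCoh.HasLpull f] (E : DCoh.D Y) (a b : ℤ)
    (hE : DCoh.HasFlatAmplitudeIn a b E) :
    DCoh.HasFlatAmplitudeIn a b ((DCoh.Lpull f).obj E) := by
  obtain ⟨E₀, hE₀, hflat, ⟨e⟩⟩ := hE
  refine ⟨((Scheme.Modules.pullback f).mapHomologicalComplex (ComplexShape.up ℤ)).obj E₀,
    ?_, ?_, ⟨(LpullIso f E₀ (kfl_of_flat_of_vanishesOutside E₀ a b hE₀ hflat)).symm ≪≫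
      (DCoh.Lpull f).mapIso e⟩⟩
  · intro i hi
    exact (Scheme.Modules.pullback f).map_isZero (hE₀ i hi)
  · intro i
    exact Stalk.flatMod_pullback f _ (hflat i)

end Groth.Agent.H5.Lpull
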