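import Mathlib.CategoryTheory.Functor.Derived.LeftDerived
import Mathlib.Algebra.Homology.HomotopyCategory

/-!
# A criterion for being a left derived functor, and functoriality of `mapHomotopyCategory`
-/

set_option autoImplicit false
open CategoryTheory

namespace Groth.Agent.H5.LeftDerivCrit

section Crit

variable {C D H : Type*} [Category C] [Category D] [Category H]
  (L : C ⥤ D) (W : MorphismProperty C) [L.IsLocalization W]
  {F : C ⥤ H}
  (LF₀ : D ⥤ H) (α₀ : L ⋙ LF₀ ⟶ F) [LF₀.IsLeftDerivedFunctor α₀ W]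
  (LF : D ⥤ H) (α : L ⋙ LF ⟶ F)

/-- If `LF₀` is a left derived functor of `F` and `(LF, α)` is a candidate such that both counits
are isomorphisms on a class `P` of objects of `C` whose images cover `D` up to isomorphism, then
`(LF, α)` is also a left derived functor. -/
theorem isLeftDerivedFunctor_of_isIso_on (P : C → Prop)
    (hP : ∀ Y : D, ∃ X, P X ∧ Nonempty (L.obj X ≅ Y))
    (h₀ : ∀ X, P X → IsIso (α₀.app X)) (h : ∀ X, P X → IsIso (α.app X)) :
    LF.IsLeftDerivedFunctor α W := by
  rw [Functor.isLeftDerivedFunctor_iff_isIso_leftDerivedLift LF₀ α₀ W LF α]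
  have key : ∀ Y : D, IsIso ((LF₀.leftDerivedLift α₀ W LF α).app Y) := by
    intro Y
    obtain ⟨X, hX, ⟨e⟩⟩ := hP Y
    rw [← NatTrans.isIso_app_iff_of_iso _ e]
    have h1 := h₀ X hX
    have h2 := h X hX
    have fac := Functor.leftDerived_fac_app LF₀ α₀ W LF α X
    have : (LF₀.leftDerivedLift α₀ W LF α).app (L.obj X) = α.app X ≫ inv (α₀.app X) := by
      rw [← fac, Category.assoc, IsIso.hom_inv_id, Category.comp_id]
    rw [this]
    infer_instance
  exact NatIso.isIso_of_isIso_app _

include W in
/-- Under the assumptions of `isLeftDerivedFunctor_of_isIso_on`, the two functors are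
isomorphic. -/
theorem nonempty_iso_of_isIso_on (P : C → Prop)
    (hP : ∀ Y : D, ∃ X, P X ∧ Nonempty (L.obj X ≅ Y))
    (h₀ : ∀ X, P X → IsIso (α₀.app X)) (h : ∀ X, P X → IsIso (α.app X)) :
    Nonempty (LF ≅ LF₀) := by
  have := isLeftDerivedFunctor_of_isIso_on L W LF₀ α₀ LF α P hP h₀ h
  exact ⟨Functor.leftDerivedUnique LF₀ LF α α₀ W⟩

end Crit

section HomotopyCat

variable {ι : Type*} {V W U : Type*} [Category V] [Preadditive V] [Category W] [Preadditive W]
  [Category U] [Preadditive U] (c : ComplexShape ι)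

/-- A natural isomorphism of additive functors induces a natural isomorphism on homotopy
categories. -/
@[simps]
def mapHomotopyCategoryIso {F G : V ⥤ W} [F.Additive] [G.Additive] (e : F ≅ G) :
    F.mapHomotopyCategory c ≅ G.mapHomotopyCategory c where
  hom := NatTrans.mapHomotopyCategory e.hom c
  inv := NatTrans.mapHomotopyCategory e.inv c
  hom_inv_id := by
    rw [← NatTrans.mapHomotopyCategory_comp, e.hom_inv_id, NatTrans.mapHomotopyCategory_id]
  inv_hom_id := by
    rw [← NatTrans.mapHomotopyCategory_comp, e.inv_hom_id, NatTrans.mapHomotopyCategory_id]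

/-- `mapHomotopyCategory` is compatible with composition of functors. -/
def mapHomotopyCategoryCompIso (F : V ⥤ W) (G : W ⥤ U) [F.Additive] [G.Additive] :
    F.mapHomotopyCategory c ⋙ G.mapHomotopyCategory c ≅ (F ⋙ G).mapHomotopyCategory c :=
  Quotient.natIsoLift _
    ((Functor.associator _ _ _).symm ≪≫
      Functor.isoWhiskerRight (F.mapHomotopyCategoryFactors c) _ ≪≫
      Functor.associator _ _ _ ≪≫
      Functor.isoWhiskerLeft _ (G.mapHomotopyCategoryFactors c) ≪≫
      (Functor.associator _ _ _).symm ≪≫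
      Functor.isoWhiskerRight (Iso.refl _ : F.mapHomologicalComplex c ⋙ G.mapHomologicalComplex c ≅
        (F ⋙ G).mapHomologicalComplex c) _ ≪≫
      ((F ⋙ G).mapHomotopyCategoryFactors c).symm)

end HomotopyCat

end Groth.Agent.H5.LeftDerivCrit
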