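import Groth.Agent.H5.Lpull
import Groth.Agent.H5.LeftDerivCrit
import Groth.Agent.H45.Resolution.KFlatRes

/-!
# The derived pullback is compatible with composition
-/

set_option autoImplicit false
universe u
open CategoryTheory CategoryTheory.Limits AlgebraicGeometry ZeroObject

attribute [local instance] HasDerivedCategory.standard

namespace Groth.Agent.H5.LpullComp

open Lpull FlatTor KFlatScheme

variable {X Y Z : Scheme.{u}}

lemma flatMod_biprod {M N : X.Modules} (hM : FlatMod.IsFlat M) (hN : FlatMod.IsFlat N) :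
    FlatMod.IsFlat (M ⊞ N) := by
  let S : ShortComplex X.Modules :=
    ShortComplex.mk (biprod.inl : M ⟶ M ⊞ N) biprod.snd (by simp)
  let σ : S.Splitting :=
    { r := biprod.fst
      s := biprod.inr
      f_r := by simp [S]
      s_g := by simp [S]
      id := by simp [S] }
  have hS : S.ShortExact := σ.shortExact
  rw [Groth.Agent.H45.flatMod_iff_isFlat]
  exact Groth.Agent.H45.isFlat_of_shortExact_of_isFlat_outer (O := X.sheaf) S hS
    (Groth.Agent.H45.isFlat_of_flatMod _ hM) (Groth.Agent.H45.isFlat_of_flatMod _ hN)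

/-- a bounded above complex of flat modules is K-flat -/
lemma isKFlat_of_isStrictlyLE (E : CochainComplex X.Modules ℤ) (b : ℤ) [hE : E.IsStrictlyLE b]
    (hflat : ∀ i, FlatMod.IsFlat (E.X i)) : DCoh.IsKFlat E :=
  @Groth.Agent.H45.isKFlat_of_isStrictlyLE _ _ _ X.sheaf E b hE
    (fun i => Groth.Agent.H45.isFlat_of_flatMod _ (hflat i))

lemma isKFlat_of_isColimit_nat (D : ℕ ⥤ CochainComplex X.Modules ℤ) (cc : Cocone D)
    (hcc : IsColimit cc) (hD : ∀ k, DCoh.IsKFlat (D.obj k)) : DCoh.IsKFlat cc.pt :=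
  Groth.Agent.H45.isKFlat_of_isColimit_nat (O := X.sheaf) D cc hcc hD

lemma flatMod_of_isColimit_nat (D : ℕ ⥤ X.Modules) (hD : ∀ k, FlatMod.IsFlat (D.obj k))
    (cc : Cocone D) (hcc : IsColimit cc) : FlatMod.IsFlat cc.pt := by
  rw [Groth.Agent.H45.flatMod_iff_isFlat]
  exact Groth.Agent.H45.isFlat_of_isColimit_nat (O := X.sheaf) D
    (fun k => Groth.Agent.H45.isFlat_of_flatMod _ (hD k)) cc hcc

instance (g : Y ⟶ Z) : PreservesColimitsOfShape ℕ
    ((Scheme.Modules.pullback g).mapHomologicalComplex (ComplexShape.up ℤ)) := by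
  apply HomologicalComplex.preservesColimitsOfShape_of_eval
  intro i
  have : PreservesColimitsOfSize.{0, 0} (Scheme.Modules.pullback g) :=
    (Scheme.Modules.pullbackPushforwardAdjunction g).leftAdjoint_preservesColimits
  exact preservesColimitsOfShape_of_natIso
    (Iso.refl _ : HomologicalComplex.eval Z.Modules (ComplexShape.up ℤ) i ⋙
      Scheme.Modules.pullback g ≅ _)

/-- Every complex has a resolution by a K-flat complex with flat terms whose pullback is also
K-flat with flat terms. -/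
theorem exists_resolution (g : Y ⟶ Z) (G : CochainComplex Z.Modules ℤ) :
    ∃ (P : CochainComplex Z.Modules ℤ) (q : P ⟶ G), QuasiIso q ∧ kfl P ∧
      kfl (((Scheme.Modules.pullback g).mapHomologicalComplex (ComplexShape.up ℤ)).obj P) := by
  have : HasExactColimitsOfShape ℕ Z.Modules :=
    Groth.Agent.H45.hasExactColimitsOfShape_nat_mod (O := Z.sheaf)
  obtain ⟨Kc, π, -, -, h3, h4, -, c, -, hqi, -⟩ :=
    Groth.Agent.H45.exists_resolution_system (𝒜 := Z.Modules)
      (P := fun M => FlatMod.IsFlat M)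
      (fun M => by
        obtain ⟨Q, q, hQ, hq⟩ := Groth.Agent.H45.exists_flat_cover Z.sheaf M
        exact ⟨Q, q, (Groth.Agent.H45.flatMod_iff_isFlat _).2 hQ, hq⟩)
      (fun Z hZ => flatMod_of_isZero hZ) (fun A B hA hB => flatMod_biprod hA hB)
      (fun A B e hA => flatMod_of_iso e hA) G
  let Φ := (Scheme.Modules.pullback g).mapHomologicalComplex (ComplexShape.up ℤ)
  have hfl : ∀ i, FlatMod.IsFlat ((colimit Kc).X i) := fun i =>
    flatMod_of_isColimit_nat (Kc ⋙ HomologicalComplex.eval _ _ i) (fun n => h4 n i)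
      ((HomologicalComplex.eval _ _ i).mapCocone (colimit.cocone Kc))
      (isColimitOfPreserves _ (colimit.isColimit Kc))
  refine ⟨colimit Kc, c, hqi, ⟨?_, hfl⟩, ⟨?_, fun i => Stalk.flatMod_pullback g _ (hfl i)⟩⟩
  · refine isKFlat_of_isColimit_nat Kc (colimit.cocone Kc) (colimit.isColimit Kc) (fun n => ?_)
    have := h3 n
    exact isKFlat_of_isStrictlyLE (Kc.obj n) ((n : ℤ) + 1) (h4 n)
  · refine isKFlat_of_isColimit_nat (Kc ⋙ Φ) (Φ.mapCocone (colimit.cocone Kc))
      (isColimitOfPreserves Φ (colimit.isColimit Kc)) (fun n => ?_)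
    have := h3 n
    have : CochainComplex.IsStrictlyLE (Φ.obj (Kc.obj n)) ((n : ℤ) + 1) := by
      rw [CochainComplex.isStrictlyLE_iff]
      intro i hi
      exact (Scheme.Modules.pullback g).map_isZero ((Kc.obj n).isZero_of_isStrictlyLE _ i hi)
    exact isKFlat_of_isStrictlyLE (Φ.obj (Kc.obj n)) ((n : ℤ) + 1)
      (fun i => Stalk.flatMod_pullback g _ (h4 n i))

section Main

variable (f : X ⟶ Y) (g : Y ⟶ Z)

/-- `(g^*)_K ⋙ (f^*)_K ≅ ((f ≫ g)^*)_K` on homotopy categories -/
noncomputable def pullKCompIso :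
    (Scheme.Modules.pullback g).mapHomotopyCategory (ComplexShape.up ℤ) ⋙
      (Scheme.Modules.pullback f).mapHomotopyCategory (ComplexShape.up ℤ) ≅
    (Scheme.Modules.pullback (f ≫ g)).mapHomotopyCategory (ComplexShape.up ℤ) :=
  LeftDerivCrit.mapHomotopyCategoryCompIso _ _ _ ≪≫
    LeftDerivCrit.mapHomotopyCategoryIso _ (Scheme.Modules.pullbackComp f g)

/-- the counit of the derived pullback -/
noncomputable abbrev counit [DCoh.HasLpull f] :
    DerivedCategory.Qh ⋙ DCoh.Lpull f ⟶ DCoh.pullKh f :=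
  (DCoh.pullKh f).totalLeftDerivedCounit DerivedCategory.Qh
    (HomotopyCategory.quasiIso Y.Modules (ComplexShape.up ℤ))

variable [DCoh.HasLpull f] [DCoh.HasLpull g]

/-- the candidate counit for `Lg^* ⋙ Lf^*` -/
noncomputable def β :
    DerivedCategory.Qh ⋙ (DCoh.Lpull g ⋙ DCoh.Lpull f) ⟶ DCoh.pullKh (f ≫ g) :=
  (Functor.associator _ _ _).inv ≫ Functor.whiskerRight (counit g) (DCoh.Lpull f) ≫
    (Functor.associator _ _ _).hom ≫
    Functor.whiskerLeft ((Scheme.Modules.pullback g).mapHomotopyCategory (ComplexShape.up ℤ))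
      (counit f) ≫
    (Functor.associator _ _ _).inv ≫
    Functor.whiskerRight (pullKCompIso f g).hom DerivedCategory.Qh

lemma β_app (K : HomotopyCategory Z.Modules (ComplexShape.up ℤ)) :
    (β f g).app K = (DCoh.Lpull f).map ((counit g).app K) ≫
      (counit f).app (((Scheme.Modules.pullback g).mapHomotopyCategory (ComplexShape.up ℤ)).obj K) ≫
      DerivedCategory.Qh.map ((pullKCompIso f g).hom.app K) := by
  simp [β]

lemma isIso_β_app (P : CochainComplex Z.Modules ℤ) (hP : kfl P)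
    (hP' : kfl (((Scheme.Modules.pullback g).mapHomologicalComplex (ComplexShape.up ℤ)).obj P)) :
    IsIso ((β f g).app ((HomotopyCategory.quotient _ _).obj P)) := by
  rw [β_app]
  have h1 : IsIso ((counit g).app ((HomotopyCategory.quotient _ _).obj P)) :=
    Lpull.isIso_counit g P hP
  have h2 : IsIso ((counit f).app (((Scheme.Modules.pullback g).mapHomotopyCategory
      (ComplexShape.up ℤ)).obj ((HomotopyCategory.quotient _ _).obj P))) :=
    Lpull.isIso_counit f _ hP'
  infer_instance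

/-- `Lf^* ∘ Lg^* ≅ L(g ∘ f)^*`. -/
theorem nonempty_Lpull_comp_iso [DCoh.HasLpull (f ≫ g)] :
    Nonempty (DCoh.Lpull g ⋙ DCoh.Lpull f ≅ DCoh.Lpull (f ≫ g)) := by
  refine LeftDerivCrit.nonempty_iso_of_isIso_on DerivedCategory.Qh
    (HomotopyCategory.quasiIso Z.Modules (ComplexShape.up ℤ))
    (DCoh.Lpull (f ≫ g)) (counit (f ≫ g)) (DCoh.Lpull g ⋙ DCoh.Lpull f) (β f g)
    (fun K => ∃ P : CochainComplex Z.Modules ℤ, kfl P ∧
      kfl (((Scheme.Modules.pullback g).mapHomologicalComplex (ComplexShape.up ℤ)).obj P) ∧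
      K = (HomotopyCategory.quotient _ _).obj P) ?_ ?_ ?_
  · intro E
    obtain ⟨G, ⟨e⟩⟩ : ∃ G : CochainComplex Z.Modules ℤ, Nonempty (DerivedCategory.Q.obj G ≅ E) :=
      ⟨_, ⟨DerivedCategory.Q.objObjPreimageIso E⟩⟩
    obtain ⟨P, q, hq, hP, hP'⟩ := exists_resolution g G
    have : IsIso (DerivedCategory.Q.map q) := by
      rw [DerivedCategory.isIso_Q_map_iff_quasiIso]
      exact hq
    exact ⟨_, ⟨P, hP, hP', rfl⟩,
      ⟨(DerivedCategory.quotientCompQhIso Z.Modules).app P ≪≫ asIso (DerivedCategory.Q.map q) ≪≫ e⟩⟩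
  · rintro _ ⟨P, hP, -, rfl⟩
    exact Lpull.isIso_counit (f ≫ g) P hP
  · rintro _ ⟨P, hP, hP', rfl⟩
    exact isIso_β_app f g P hP hP'

end Main

end Groth.Agent.H5.LpullComp
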