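import Mathlib
import Groth.Prelude.Def_DRing2
import Groth.Agent.H35.TorDimAmp
import Groth.Agent.H35.TorAmpCone

/-!
# Bounded complexes over a ring all of whose modules have finite tor dimension have finite
tor amplitude
-/

set_option autoImplicit false
universe u
open CategoryTheory CategoryTheory.Limits Pretriangulated ZeroObject

attribute [local instance] HasDerivedCategory.standard

namespace Groth.Agent.H5.FiniteTorDimCx

open DerivedCategory Groth.Agent.H35.KF

variable {R : Type u} [CommRing R]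

lemma hasTorAmplitudeIn_mono (K : Dual.D R) {a b a' b' : ℤ} (ha : a' ≤ a) (hb : b ≤ b')
    (h : DRing.HasTorAmplitudeIn R a b K) : DRing.HasTorAmplitudeIn R a' b' K := by
  obtain ⟨E, hE, hfl, he⟩ := h
  exact ⟨E, fun i hi => hE i (by omega), hfl, he⟩

lemma hasTorAmplitudeIn_of_isZero (K : Dual.D R) (hK : IsZero K) (a b : ℤ) :
    DRing.HasTorAmplitudeIn R a b K := by
  refine ⟨(0 : CochainComplex (ModuleCat.{u} R) ℤ), fun i _ => ?_, fun i => ?_,
    ⟨IsZero.iso (Q.map_isZero (isZero_zero _)) hK⟩⟩
  · exact (HomologicalComplex.eval _ _ i).map_isZero (isZero_zero _)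
  · have hz : IsZero ((0 : CochainComplex (ModuleCat.{u} R) ℤ).X i) :=
      (HomologicalComplex.eval _ _ i).map_isZero (isZero_zero _)
    have : Subsingleton ((0 : CochainComplex (ModuleCat.{u} R) ℤ).X i) :=
      ModuleCat.subsingleton_of_isZero hz
    infer_instance

/-- a module placed in degree `d` has finite tor amplitude when it has finite tor dimension -/
lemma hasTorAmplitudeIn_single (A : ModuleCat.{u} R) (m : ℕ) (hA : DRing.HasTorDimLE R m A)
    (d : ℤ) : DRing.HasTorAmplitudeIn R (d - m) d ((singleFunctor (ModuleCat.{u} R) d).obj A) := by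
  have h1 : DRing.HasTorAmplitudeIn R (-(m : ℤ)) 0 (Dual.inD R A) :=
    (Groth.Agent.H35.KF.hasTorDimLE_iff_hasTorAmplitudeIn A m).1 hA
  have h2 := hasTorAmplitudeIn_shift _ _ _ (-d) h1
  have e : (Dual.inD R A)⟦-d⟧ ≅ (singleFunctor (ModuleCat.{u} R) d).obj A :=
    ((singleFunctors (ModuleCat.{u} R)).shiftIso (-d) d 0 (by omega)).app A
  exact hasTorAmplitudeIn_mono _ (by omega) (by omega) (hasTorAmplitudeIn_of_iso e _ _ h2)

/-- **Bounded complexes have finite tor amplitude** when all modules have finite tor dimension. -/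
theorem exists_hasTorAmplitudeIn
    (hR : ∀ (M : Type u) [AddCommGroup M] [Module R M], DRing.HasFiniteTorDim R M) :
    ∀ (n : ℕ) (K : Dual.D R) (c d : ℤ), d - c < n → K.IsGE c → K.IsLE d →
      ∃ a : ℤ, a ≤ c ∧ DRing.HasTorAmplitudeIn R a d K := by
  intro n
  induction n with
  | zero =>
    intro K c d hn hc hd
    exact ⟨c, le_rfl, hasTorAmplitudeIn_of_isZero K (TStructure.t.isZero K d c (by omega)) _ _⟩
  | succ n ih =>
    intro K c d hn hc hd
    by_cases hcd : d < c
    · exact ⟨c, le_rfl, hasTorAmplitudeIn_of_isZero K (TStructure.t.isZero K d c hcd) _ _⟩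
    let T := (TStructure.t.triangleLEGE (d - 1) d (by omega)).obj K
    have hT : T ∈ distTriang _ := TStructure.t.triangleLEGE_distinguished (d - 1) d (by omega) K
    have h1c : T.obj₁.IsGE c := by
      change TStructure.t.IsGE ((TStructure.t.truncLE (d - 1)).obj K) c
      infer_instance
    have h1d : T.obj₁.IsLE (d - 1) := by
      change TStructure.t.IsLE ((TStructure.t.truncLE (d - 1)).obj K) (d - 1)
      infer_instance
    obtain ⟨a₁, ha₁, htor₁⟩ := ih T.obj₁ c (d - 1) (by omega) h1c h1d
    have h3d : T.obj₃.IsGE d := by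
      change TStructure.t.IsGE ((TStructure.t.truncGE d).obj K) d
      infer_instance
    have h3d' : T.obj₃.IsLE d := by
      change TStructure.t.IsLE ((TStructure.t.truncGE d).obj K) d
      infer_instance
    obtain ⟨A, ⟨eA⟩⟩ := exists_iso_singleFunctor_obj_of_isGE_of_isLE T.obj₃ d
    obtain ⟨m, hm⟩ := hR A
    have htor₃ : DRing.HasTorAmplitudeIn R (d - m) d T.obj₃ :=
      hasTorAmplitudeIn_of_iso eA.symm _ _ (hasTorAmplitudeIn_single A m hm d)
    refine ⟨min a₁ (d - m), (min_le_left _ _).trans ha₁, ?_⟩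
    exact (hasTorAmplitudeIn_triangle (min a₁ (d - m)) d T hT).2.1
      (hasTorAmplitudeIn_mono _ (min_le_left _ _) (by omega) htor₁)
      (hasTorAmplitudeIn_mono _ (min_le_right _ _) le_rfl htor₃)

end Groth.Agent.H5.FiniteTorDimCx
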