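import Groth.Agent.H5.Stalk.Exact
import Groth.Agent.H5.FlatTor
import Groth.Agent.H5.LpullComp
import Mathlib.RingTheory.Flat.Equalizer
import Mathlib.Algebra.Homology.HomologySequence

/-!
# Flatness of the cycles of a bounded above complex of flat modules which is exact in high degrees
-/

set_option autoImplicit false
universe u
open CategoryTheory CategoryTheory.Limits AlgebraicGeometry ZeroObject HomologicalComplex

namespace Groth.Agent.H5.FlatCycles

section Ring

variable {R : Type u} [CommRing R]

open TensorProduct

/-- the kernel of a surjection of flat modules is flat -/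
theorem flat_of_exact' {A B C : Type u} [AddCommGroup A] [Module R A] [AddCommGroup B]
    [Module R B] [AddCommGroup C] [Module R C] [Module.Flat R B] [Module.Flat R C]
    (ι : A →ₗ[R] B) (π : B →ₗ[R] C) (hι : Function.Injective ι) (hex : Function.Exact ι π)
    (hπ : Function.Surjective π) : Module.Flat R A := by
  rw [Module.Flat.iff_rTensor_preserves_injective_linearMap]
  intro X Y _ _ _ _ f hf
  have h1 : Function.Injective (LinearMap.lTensor X ι) :=
    LinearMap.lTensor_injective_of_exact_of_flat π hπ ι hι hex X
  have h2 : Function.Injective (LinearMap.rTensor B f) :=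
    Module.Flat.rTensor_preserves_injective_linearMap f hf
  have h3 : (LinearMap.rTensor B f) ∘ₗ (LinearMap.lTensor X ι) =
      (LinearMap.lTensor Y ι) ∘ₗ (LinearMap.rTensor A f) := by
    apply TensorProduct.ext'
    intro x a
    simp
  have h4 : Function.Injective ((LinearMap.lTensor Y ι) ∘ₗ (LinearMap.rTensor A f)) := by
    rw [← h3]
    exact h2.comp h1
  exact Function.Injective.of_comp h4

end Ring

variable {X : Scheme.{u}}

open Groth.Agent.H5.Stalk

/-- the kernel of an epimorphism of flat modules is flat -/
theorem flatMod_X₁ (S : ShortComplex X.Modules) (hS : S.ShortExact)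
    (h₂ : FlatMod.IsFlat S.X₂) (h₃ : FlatMod.IsFlat S.X₃) : FlatMod.IsFlat S.X₁ := by
  intro x
  have hS' := stalkFunctor_map_shortExact x S hS
  have : Module.Flat (X.presheaf.stalk x) ((stalkFunctor x).obj S.X₂) := h₂ x
  have : Module.Flat (X.presheaf.stalk x) ((stalkFunctor x).obj S.X₃) := h₃ x
  have := hS'.mono_f
  have := hS'.epi_g
  exact flat_of_exact' ((stalkFunctor x).map S.f).hom ((stalkFunctor x).map S.g).hom
    ((ModuleCat.mono_iff_injective _).1 hS'.mono_f)
    ((ShortComplex.ShortExact.moduleCat_exact_iff_function_exact _).1 hS'.exact)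
    ((ModuleCat.epi_iff_surjective _).1 hS'.epi_g)

section Cycles

variable {A : Type*} [Category A] [Abelian A]

/-- the short exact sequence `0 ⟶ Z^i ⟶ K^i ⟶ Z^{i+1} ⟶ 0` when `K` is exact in degree `i + 1` -/
lemma shortExact_cycles (K : CochainComplex A ℤ) (i j : ℤ) (hij : i + 1 = j)
    (h : IsZero (K.homology j)) :
    (ShortComplex.mk (K.iCycles i) (K.toCycles i j)
      (by rw [← cancel_mono (K.iCycles j), Category.assoc, K.toCycles_i, K.iCycles_d,
        zero_comp])).ShortExact := by
  have hnext : (ComplexShape.up ℤ).next i = j := by simp [← hij]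
  have hprev : (ComplexShape.up ℤ).prev j = i := by simp [← hij]
  refine ShortComplex.ShortExact.mk' ?_ inferInstance ?_
  · refine ShortComplex.exact_of_f_is_kernel _ ?_
    exact isKernelOfComp (K.iCycles j) (K.d i j) (K.cyclesIsKernel i j hnext) _ (K.toCycles_i i j)
  · have hT : (ShortComplex.mk (K.toCycles i j) (K.homologyπ j) (by simp)).Exact :=
      ShortComplex.exact_of_g_is_cokernel _ (K.homologyIsCokernel i j hprev)
    exact hT.epi_f (h.eq_of_tgt _ _)

/-- `K^{i}/B^{i} ≅ Z^{i+1}` when `K` is exact in degrees `i` and `i + 1` -/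
lemma isIso_opcyclesToCycles (K : CochainComplex A ℤ) (i j : ℤ) (hij : i + 1 = j)
    (hi : IsZero (K.homology i)) (hj : IsZero (K.homology j)) :
    IsIso (K.opcyclesToCycles i j) := by
  have hnext : (ComplexShape.up ℤ).next i = j := by simp [← hij]
  have hprev : (ComplexShape.up ℤ).prev j = i := by simp [← hij]
  have hS : (ShortComplex.mk (K.homologyι i) (K.opcyclesToCycles i j) (by simp)).Exact := by
    have := (HomologySequence.composableArrows₃_exact K i j (by simp [← hij])).exact 0
    exact this
  have hT : (ShortComplex.mk (K.opcyclesToCycles i j) (K.homologyπ j) (by simp)).Exact := by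
    have := (HomologySequence.composableArrows₃_exact K i j (by simp [← hij])).exact 1
    exact this
  have : Mono (K.opcyclesToCycles i j) := hS.mono_g (hi.eq_of_src _ _)
  have : Epi (K.opcyclesToCycles i j) := hT.epi_f (hj.eq_of_tgt _ _)
  exact isIso_of_mono_of_epi _

end Cycles

/-- (F1) the cycles of a bounded above complex of flat modules, exact in degrees `> n`, are flat in
degrees `≥ n` -/
theorem flat_cycles (C : CochainComplex X.Modules ℤ) (hflat : ∀ i, FlatMod.IsFlat (C.X i))
    (N : ℤ) (hN : ∀ i, N < i → IsZero (C.X i)) (n : ℤ)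
    (hex : ∀ i, n < i → IsZero (C.homology i)) :
    ∀ i, n ≤ i → FlatMod.IsFlat (C.cycles i) := by
  have key : ∀ (k : ℕ) (i : ℤ), n ≤ i → N + 1 ≤ i + k → FlatMod.IsFlat (C.cycles i) := by
    intro k
    induction k with
    | zero =>
      intro i _ hi
      have hz : IsZero (C.cycles i) := IsZero.of_mono (C.iCycles i) (hN i (by lia))
      exact FlatTor.flatMod_of_isZero hz
    | succ k ih =>
      intro i hni hi
      have hj := ih (i + 1) (by lia) (by push_cast at hi ⊢; lia)
      exact flatMod_X₁ _ (shortExact_cycles C i (i + 1) rfl (hex (i + 1) (by lia))) (hflat i) hj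
  intro i hi
  exact key (N + 1 - i).toNat i hi (by lia)

/-- the opcycles in degree `n` are flat as well when `C` is exact in degrees `≥ n` -/
theorem flat_opcycles (C : CochainComplex X.Modules ℤ) (hflat : ∀ i, FlatMod.IsFlat (C.X i))
    (N : ℤ) (hN : ∀ i, N < i → IsZero (C.X i)) (n : ℤ)
    (hex : ∀ i, n ≤ i → IsZero (C.homology i)) : FlatMod.IsFlat (C.opcycles n) := by
  have := isIso_opcyclesToCycles C n (n + 1) rfl (hex n le_rfl) (hex (n + 1) (by lia))
  exact FlatTor.flatMod_of_iso (asIso (C.opcyclesToCycles n (n + 1))).symm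
    (flat_cycles C hflat N hN n (fun i hi => hex i hi.le) (n + 1) (by lia))

end Groth.Agent.H5.FlatCycles
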