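import Groth.Agent.H5.LocalChainRep

/-!
# Two out of three for perfect objects in distinguished triangles
-/

set_option autoImplicit false
universe u
open CategoryTheory CategoryTheory.Limits AlgebraicGeometry ZeroObject HomologicalComplex
  Pretriangulated

attribute [local instance] HasDerivedCategory.standard

namespace Groth.Agent.H5.PerfectTriangle

open CochainComplex Scheme.Modules Groth.Agent.H5.PerfectTensor

variable {X : Scheme.{u}}

/-- `F` pulled back along the open immersion `j` is represented by a strictly perfect complex -/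
def IsSPAlong {W : Scheme.{u}} (j : W ⟶ X) [IsOpenImmersion j] (F : CochainComplex X.Modules ℤ) :
    Prop :=
  ∃ E : CochainComplex W.Modules ℤ, DCoh.IsStrictlyPerfect E ∧
    Nonempty (DerivedCategory.Q.obj
      (((restrictFunctor j).mapHomologicalComplex (ComplexShape.up ℤ)).obj F) ≅
        DerivedCategory.Q.obj E)

lemma isSPOn_iff (F : CochainComplex X.Modules ℤ) (V : X.Opens) :
    IsSPOn F V ↔ IsSPAlong V.ι F := Iff.rfl

/-- exact functors respect isomorphisms in the derived category -/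
noncomputable def mapQIso {A B : Type*} [Category A] [Abelian A] [Category B] [Abelian B]
    [HasDerivedCategory A] [HasDerivedCategory B]
    (R : A ⥤ B) [R.Additive] [PreservesFiniteLimits R] [PreservesFiniteColimits R]
    {K L : CochainComplex A ℤ} (e : DerivedCategory.Q.obj K ≅ DerivedCategory.Q.obj L) :
    DerivedCategory.Q.obj ((R.mapHomologicalComplex (ComplexShape.up ℤ)).obj K) ≅
      DerivedCategory.Q.obj ((R.mapHomologicalComplex (ComplexShape.up ℤ)).obj L) :=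
  (R.mapDerivedCategoryFactors.app K).symm ≪≫ R.mapDerivedCategory.mapIso e ≪≫
    R.mapDerivedCategoryFactors.app L

lemma isSPAlong_of_iso {W : Scheme.{u}} (j : W ⟶ X) [IsOpenImmersion j]
    {F F' : CochainComplex X.Modules ℤ}
    (e : DerivedCategory.Q.obj F ≅ DerivedCategory.Q.obj F') (h : IsSPAlong j F) :
    IsSPAlong j F' := by
  obtain ⟨E, hE, ⟨i⟩⟩ := h
  exact ⟨E, hE, ⟨mapQIso (restrictFunctor j) e.symm ≪≫ i⟩⟩

lemma isSPAlong_comp {W W' : Scheme.{u}} (k : W' ⟶ W) (j : W ⟶ X) [IsOpenImmersion k]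
    [IsOpenImmersion j] (F : CochainComplex X.Modules ℤ) (h : IsSPAlong j F) :
    IsSPAlong (k ≫ j) F := by
  obtain ⟨E, hE, ⟨e⟩⟩ := h
  refine ⟨((Scheme.Modules.pullback k).mapHomologicalComplex (ComplexShape.up ℤ)).obj E,
    PerfectPull.isStrictlyPerfect_pullback _ E hE, ⟨?_⟩⟩
  exact DerivedCategory.Q.mapIso ((NatIso.mapHomologicalComplex (restrictFunctorComp k j)
      (ComplexShape.up ℤ)).app F) ≪≫ mapQIso (restrictFunctor k) e ≪≫
    DerivedCategory.Q.mapIso ((NatIso.mapHomologicalComplex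
      (restrictFunctorIsoPullback k) (ComplexShape.up ℤ)).app E)

lemma isSPAlong_congr {W : Scheme.{u}} {j j' : W ⟶ X} [IsOpenImmersion j] [IsOpenImmersion j']
    (hj : j = j') (F : CochainComplex X.Modules ℤ) (h : IsSPAlong j F) : IsSPAlong j' F := by
  subst hj
  exact h

lemma isSPOn_opensRange {W : Scheme.{u}} (j : W ⟶ X) [IsOpenImmersion j]
    (F : CochainComplex X.Modules ℤ) (h : IsSPAlong j F) : IsSPOn F j.opensRange :=
  isSPAlong_congr j.isoOpensRange_inv_comp F (isSPAlong_comp j.isoOpensRange.inv j F h)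

/-- perfectness in terms of a fixed representative -/
theorem isPerfect_iff_of_iso {K : DCoh.D X} {M : CochainComplex X.Modules ℤ}
    (e : DerivedCategory.Q.obj M ≅ K) :
    DCoh.IsPerfect K ↔ ∀ x : X, ∃ V : X.Opens, x ∈ V ∧ IsSPOn M V := by
  constructor
  · intro h x
    obtain ⟨V, hxV, hV⟩ := h x
    exact ⟨V, hxV, hV M ⟨e⟩⟩
  · intro h x
    obtain ⟨V, hxV, hV⟩ := h x
    exact ⟨V, hxV, fun F ⟨eF⟩ => isSPAlong_of_iso V.ι (e ≪≫ eF.symm) hV⟩

theorem isPerfect_of_isSPAlong {K : DCoh.D X} {M : CochainComplex X.Modules ℤ}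
    (e : DerivedCategory.Q.obj M ≅ K)
    (h : ∀ x : X, ∃ (W : Scheme.{u}) (j : W ⟶ X) (_ : IsOpenImmersion j),
      x ∈ Set.range j ∧ IsSPAlong j M) : DCoh.IsPerfect K := by
  rw [isPerfect_iff_of_iso e]
  intro x
  obtain ⟨W, j, _, hx, hj⟩ := h x
  exact ⟨j.opensRange, hx, isSPOn_opensRange j M hj⟩

/-! ### Shifts -/

lemma isStrictlyPerfect_shift (E : CochainComplex X.Modules ℤ) (n : ℤ)
    (h : DCoh.IsStrictlyPerfect E) : DCoh.IsStrictlyPerfect (E⟦n⟧) := by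
  obtain ⟨⟨a, b, hab⟩, hfl⟩ := h
  refine ⟨⟨a - n, b - n, fun i hi => ?_⟩, fun i => ?_⟩
  · exact hab (i + n) (by omega)
  · exact hfl (i + n)

lemma isSPAlong_shift {W : Scheme.{u}} (j : W ⟶ X) [IsOpenImmersion j]
    (F : CochainComplex X.Modules ℤ) (n : ℤ) (h : IsSPAlong j F) : IsSPAlong j (F⟦n⟧) := by
  obtain ⟨E, hE, ⟨e⟩⟩ := h
  refine ⟨E⟦n⟧, isStrictlyPerfect_shift E n hE, ⟨?_⟩⟩
  exact DerivedCategory.Q.mapIso
      ((((restrictFunctor j).mapHomologicalComplex (ComplexShape.up ℤ)).commShiftIso n).app F) ≪≫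
    (DerivedCategory.Q.commShiftIso n).app _ ≪≫ (CategoryTheory.shiftFunctor _ n).mapIso e ≪≫
    ((DerivedCategory.Q.commShiftIso n).app E).symm

theorem isPerfect_shift (K : DCoh.D X) (n : ℤ) (hK : DCoh.IsPerfect K) :
    DCoh.IsPerfect (K⟦n⟧) := by
  obtain ⟨M, ⟨e⟩⟩ : ∃ M : CochainComplex X.Modules ℤ, Nonempty (DerivedCategory.Q.obj M ≅ K) :=
    ⟨_, ⟨DerivedCategory.Q.objObjPreimageIso K⟩⟩
  have h := (isPerfect_iff_of_iso e).1 hK
  have e' : DerivedCategory.Q.obj (M⟦n⟧) ≅ K⟦n⟧ :=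
    (DerivedCategory.Q.commShiftIso n).app M ≪≫ (CategoryTheory.shiftFunctor _ n).mapIso e
  rw [isPerfect_iff_of_iso e']
  intro x
  obtain ⟨V, hxV, hV⟩ := h x
  exact ⟨V, hxV, isSPAlong_shift V.ι M n hV⟩

theorem isPerfect_of_iso {K L : DCoh.D X} (e : K ≅ L) (hK : DCoh.IsPerfect K) :
    DCoh.IsPerfect L := by
  intro x
  obtain ⟨V, hxV, hV⟩ := hK x
  exact ⟨V, hxV, fun F ⟨eF⟩ => hV F ⟨eF ≪≫ e.symm⟩⟩

/-! ### Mapping cones -/

lemma isFinLocFree_biprod (A B : X.Modules) (hA : FlatMod.IsFinLocFree A)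
    (hB : FlatMod.IsFinLocFree B) : FlatMod.IsFinLocFree (A ⊞ B) := by
  have h := FinLocFreeOps.isFinLocFree_sigma
    (fun j : WalkingPair => (WalkingPair.casesOn j A B : X.Modules)) Set.univ Set.finite_univ
    (fun i hi => (hi trivial).elim) (by rintro ⟨⟩ <;> assumption)
  exact FinLocFreeOps.isFinLocFree_of_iso (biprod.isoCoprod A B).symm h

lemma isStrictlyPerfect_mappingCone {E₁ E₂ : CochainComplex X.Modules ℤ} (β : E₁ ⟶ E₂)
    (h₁ : DCoh.IsStrictlyPerfect E₁) (h₂ : DCoh.IsStrictlyPerfect E₂) :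
    DCoh.IsStrictlyPerfect (mappingCone β) := by
  obtain ⟨⟨a₁, b₁, hab₁⟩, hf₁⟩ := h₁
  obtain ⟨⟨a₂, b₂, hab₂⟩, hf₂⟩ := h₂
  have iso : ∀ i : ℤ, (mappingCone β).X i ≅ (E₁.X (i + 1)) ⊞ (E₂.X i) := fun i =>
    homotopyCofiber.XIsoBiprod β i (i + 1) rfl
  refine ⟨⟨min (a₁ - 1) a₂, max (b₁ - 1) b₂, fun i hi => ?_⟩, fun i => ?_⟩
  · refine IsZero.of_iso ?_ (iso i)
    have z₁ : IsZero (E₁.X (i + 1)) := hab₁ _ (by
      rcases hi with hi | hi
      · left; have := min_le_left (a₁ - 1) a₂; omega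
      · right; have := le_max_left (b₁ - 1) b₂; omega)
    have z₂ : IsZero (E₂.X i) := hab₂ _ (by
      rcases hi with hi | hi
      · left; have := min_le_right (a₁ - 1) a₂; omega
      · right; have := le_max_right (b₁ - 1) b₂; omega)
    rw [IsZero.iff_id_eq_zero]
    apply biprod.hom_ext
    · exact z₁.eq_of_tgt _ _
    · exact z₂.eq_of_tgt _ _
  · exact FinLocFreeOps.isFinLocFree_of_iso (iso i).symm (isFinLocFree_biprod _ _ (hf₁ _) (hf₂ _))

lemma isStrictlyPerfect_restrict {W : Scheme.{u}} (j : W ⟶ X) [IsOpenImmersion j]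
    (E : CochainComplex X.Modules ℤ) (h : DCoh.IsStrictlyPerfect E) :
    DCoh.IsStrictlyPerfect
      (((restrictFunctor j).mapHomologicalComplex (ComplexShape.up ℤ)).obj E) := by
  obtain ⟨⟨a, b, hab⟩, hfl⟩ := h
  exact ⟨⟨a, b, fun i hi => (restrictFunctor j).map_isZero (hab i hi)⟩,
    fun i => LocalNull.isFinLocFree_restrict j _ (hfl i)⟩

/-- the commutative square used to compare cones -/
lemma comm_sq {A B : Type*} [Category A] [Abelian A] [Category B] [Abelian B]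
    [HasDerivedCategory A] [HasDerivedCategory B]
    (R : A ⥤ B) [R.Additive] [PreservesFiniteLimits R] [PreservesFiniteColimits R]
    {M₁ M₂ E₁ E₂ : CochainComplex A ℤ} (ψ : M₁ ⟶ M₂)
    (i₁ : DerivedCategory.Q.obj M₁ ≅ DerivedCategory.Q.obj E₁)
    (i₂ : DerivedCategory.Q.obj M₂ ≅ DerivedCategory.Q.obj E₂)
    (β : (R.mapHomologicalComplex (ComplexShape.up ℤ)).obj E₁ ⟶
      (R.mapHomologicalComplex (ComplexShape.up ℤ)).obj E₂)
    (hβ : R.mapDerivedCategory.map (i₁.inv ≫ DerivedCategory.Q.map ψ ≫ i₂.hom) =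
      R.mapDerivedCategoryFactors.hom.app E₁ ≫ DerivedCategory.Q.map β ≫
        R.mapDerivedCategoryFactors.inv.app E₂) :
    DerivedCategory.Q.map ((R.mapHomologicalComplex (ComplexShape.up ℤ)).map ψ) ≫
        (mapQIso R i₂).hom = (mapQIso R i₁).hom ≫ DerivedCategory.Q.map β := by
  have n1 := R.mapDerivedCategoryFactors.inv.naturality ψ
  simp only [Functor.comp_map] at n1
  have h2 : R.mapDerivedCategory.map (DerivedCategory.Q.map ψ) ≫ R.mapDerivedCategory.map i₂.hom =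
      R.mapDerivedCategory.map i₁.hom ≫ R.mapDerivedCategoryFactors.hom.app E₁ ≫
        DerivedCategory.Q.map β ≫ R.mapDerivedCategoryFactors.inv.app E₂ := by
    rw [← hβ, ← Functor.map_comp, ← Functor.map_comp, Iso.hom_inv_id_assoc]
  dsimp only [mapQIso, Iso.trans_hom, Iso.symm_hom, Iso.app_hom, Iso.app_inv, Functor.mapIso_hom]
  rw [reassoc_of% n1, reassoc_of% h2]
  simp

/-- In a distinguished triangle whose first two vertices are perfect, the third is perfect. -/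
theorem isPerfect_obj₃ (T : Triangle (DCoh.D X)) (hT : T ∈ distTriang (DCoh.D X))
    (h₁ : DCoh.IsPerfect T.obj₁) (h₂ : DCoh.IsPerfect T.obj₂) : DCoh.IsPerfect T.obj₃ := by
  obtain ⟨M₁, M₂, φ, ⟨eT⟩⟩ := (DerivedCategory.mem_distTriang_iff T).1 hT
  have e₁ : DerivedCategory.Q.obj M₁ ≅ T.obj₁ := (Triangle.π₁.mapIso eT).symm
  have e₂ : DerivedCategory.Q.obj M₂ ≅ T.obj₂ := (Triangle.π₂.mapIso eT).symm
  have e₃ : DerivedCategory.Q.obj (mappingCone φ) ≅ T.obj₃ := (Triangle.π₃.mapIso eT).symm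
  have hM₁ := (isPerfect_iff_of_iso e₁).1 h₁
  have hM₂ := (isPerfect_iff_of_iso e₂).1 h₂
  refine isPerfect_of_isSPAlong e₃ (fun x => ?_)
  obtain ⟨V₁, hx₁, hV₁⟩ := hM₁ x
  obtain ⟨V₂, hx₂, hV₂⟩ := hM₂ x
  obtain ⟨E₁, hE₁, ⟨i₁⟩⟩ := isSPOn_of_le (inf_le_left : V₁ ⊓ V₂ ≤ V₁) M₁ hV₁
  obtain ⟨E₂, hE₂, ⟨i₂⟩⟩ := isSPOn_of_le (inf_le_right : V₁ ⊓ V₂ ≤ V₂) M₂ hV₂
  obtain ⟨V', hxV', hV'⟩ := LocalChainRep.locally_represented hE₁
    (i₁.inv ≫ DerivedCategory.Q.map ((DCoh.restrictCx (V₁ ⊓ V₂)).map φ) ≫ i₂.hom)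
    (⟨x, hx₁, hx₂⟩ : ((V₁ ⊓ V₂ : X.Opens) : Scheme.{u}))
  obtain ⟨β, hβ⟩ := hV'
  refine ⟨(V' : Scheme.{u}), V'.ι ≫ (V₁ ⊓ V₂).ι, inferInstance, ⟨⟨⟨x, hx₁, hx₂⟩, hxV'⟩, rfl⟩, ?_⟩
  refine ⟨mappingCone β, isStrictlyPerfect_mappingCone β (isStrictlyPerfect_restrict _ _ hE₁)
    (isStrictlyPerfect_restrict _ _ hE₂), ⟨?_⟩⟩
  let R := restrictFunctor (V₁ ⊓ V₂).ι
  let R' := restrictFunctor V'.ι
  let Rφ := (R.mapHomologicalComplex (ComplexShape.up ℤ)).map φ
  let R'Rφ := (R'.mapHomologicalComplex (ComplexShape.up ℤ)).map Rφ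
  have hsq := comm_sq R' Rφ i₁ i₂ β hβ
  let eTri := isoTriangleOfIso₁₂
    (DerivedCategory.Q.mapTriangle.obj (mappingCone.triangle R'Rφ))
    (DerivedCategory.Q.mapTriangle.obj (mappingCone.triangle β))
    (DerivedCategory.mappingCone_triangle_distinguished _)
    (DerivedCategory.mappingCone_triangle_distinguished _)
    (mapQIso R' i₁) (mapQIso R' i₂) hsq
  exact DerivedCategory.Q.mapIso ((NatIso.mapHomologicalComplex
      (restrictFunctorComp V'.ι (V₁ ⊓ V₂).ι) (ComplexShape.up ℤ)).app (mappingCone φ)) ≪≫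
    DerivedCategory.Q.mapIso ((R'.mapHomologicalComplex (ComplexShape.up ℤ)).mapIso
      (mappingCone.mapHomologicalComplexIso φ R)) ≪≫
    DerivedCategory.Q.mapIso (mappingCone.mapHomologicalComplexIso Rφ R') ≪≫
    Triangle.π₃.mapIso eTri

theorem two_out_of_three (T : Triangle (DCoh.D X)) (hT : T ∈ distTriang (DCoh.D X)) :
    (DCoh.IsPerfect T.obj₁ → DCoh.IsPerfect T.obj₂ → DCoh.IsPerfect T.obj₃) ∧
    (DCoh.IsPerfect T.obj₁ → DCoh.IsPerfect T.obj₃ → DCoh.IsPerfect T.obj₂) ∧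
    (DCoh.IsPerfect T.obj₂ → DCoh.IsPerfect T.obj₃ → DCoh.IsPerfect T.obj₁) := by
  refine ⟨isPerfect_obj₃ T hT, fun h₁ h₃ => ?_, fun h₂ h₃ => ?_⟩
  · exact isPerfect_obj₃ T.invRotate (inv_rot_of_distTriang T hT)
      (isPerfect_shift T.obj₃ (-1) h₃) h₁
  · exact isPerfect_obj₃ T.invRotate.invRotate
      (inv_rot_of_distTriang _ (inv_rot_of_distTriang T hT))
      (isPerfect_shift T.obj₂ (-1) h₂) (isPerfect_shift T.obj₃ (-1) h₃)

end Groth.Agent.H5.PerfectTriangle
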