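import Mathlib
import Groth.Prelude.Def_DerSch
import Groth.Prelude.Def_DTor2
import Groth.Agent.H5.Stalk.KFlat
import Groth.Agent.H5.Stalk.Acyclic
import Groth.Agent.H5.PerfectTriangle
import Groth.Agent.H5.FlatTor
import Groth.Agent.H5.FlatCycles
import Groth.Agent.H35.TorAmpD

/-!
# Flat amplitude of a bounded above complex of modules on a scheme is a stalkwise condition
-/

set_option autoImplicit false
universe u
open CategoryTheory CategoryTheory.Limits AlgebraicGeometry

attribute [local instance] HasDerivedCategory.standard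

namespace Groth.Agent.H5.StalkTorAmp

open Groth.Agent.H5.Stalk

variable {X : Scheme.{u}}

/-- the complex of stalks -/
noncomputable abbrev sCx (x : X) :
    CochainComplex X.Modules ℤ ⥤ CochainComplex (ModuleCat.{u} (X.presheaf.stalk x)) ℤ :=
  (stalkFunctor x).mapHomologicalComplex (ComplexShape.up ℤ)

/-- tor amplitude at a point relative to the identity, in terms of the complex of stalks -/
theorem hasTorAmplitudeAt_id_iff (a b : ℤ) (F : CochainComplex X.Modules ℤ) (x : X) :
    DerSch.HasTorAmplitudeAt (𝟙 X) a b F x ↔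
      DRing.HasTorAmplitudeIn (X.presheaf.stalk x) a b (DRing.toD ((sCx x).obj F)) := by
  let φ : X.presheaf.stalk x →+* X.presheaf.stalk x := ((𝟙 X : X ⟶ X).stalkMap x).hom
  have hφ : φ = RingHom.id _ := by
    simp only [φ]
    rw [Scheme.Hom.stalkMap_id]
    rfl
  let G : X.Modules ⥤ ModuleCat.{u} (X.presheaf.stalk x) :=
    DerSch.stalkFunctor X x ⋙ ModuleCat.restrictScalars φ
  let ι : G ≅ stalkFunctor x :=
    Functor.isoWhiskerLeft _ (ModuleCat.restrictScalarsId' φ hφ) ≪≫ Functor.rightUnitor _ ≪≫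
      eqToIso (KFlat.derSch_stalkFunctor_eq x)
  change DRing.HasTorAmplitudeIn (X.presheaf.stalk x) a b
    (DRing.toD ((G.mapHomologicalComplex (ComplexShape.up ℤ)).obj F)) ↔ _
  have e : (G.mapHomologicalComplex (ComplexShape.up ℤ)).obj F ≅ (sCx x).obj F :=
    (NatIso.mapHomologicalComplex ι (ComplexShape.up ℤ)).app F
  have eQ : DRing.toD ((G.mapHomologicalComplex (ComplexShape.up ℤ)).obj F) ≅
      DRing.toD ((sCx x).obj F) := DerivedCategory.Q.mapIso e
  constructor
  · rintro ⟨E, hE, hfl, ⟨i⟩⟩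
    exact ⟨E, hE, hfl, ⟨i ≪≫ eQ⟩⟩
  · rintro ⟨E, hE, hfl, ⟨i⟩⟩
    exact ⟨E, hE, hfl, ⟨i ≪≫ eQ.symm⟩⟩

/-- **(⟹)** flat amplitude implies stalkwise tor amplitude -/
theorem hasTorAmplitudeIn_stalk (a b : ℤ) (F : CochainComplex X.Modules ℤ)
    (h : DCoh.HasFlatAmplitudeIn a b (DCoh.toD X F)) (x : X) :
    DRing.HasTorAmplitudeIn (X.presheaf.stalk x) a b (DRing.toD ((sCx x).obj F)) := by
  obtain ⟨E, hE, hfl, ⟨i⟩⟩ := h
  refine ⟨(sCx x).obj E, ?_, ?_, ⟨PerfectTriangle.mapQIso (stalkFunctor x) i⟩⟩
  · intro j hj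
    exact (stalkFunctor x).map_isZero (hE j hj)
  · intro j
    exact hfl j x

open Groth.Agent.H35 in
/-- **(⟸)** stalkwise tor amplitude of a bounded above complex implies flat amplitude -/
theorem hasFlatAmplitudeIn_of_stalks (F : CochainComplex X.Modules ℤ) (d : ℤ)
    [hF : (DCoh.toD X F).IsLE d] (a b : ℤ)
    (h : ∀ x : X, DRing.HasTorAmplitudeIn (X.presheaf.stalk x) a b
      (DRing.toD ((sCx x).obj F))) :
    DCoh.HasFlatAmplitudeIn a b (DCoh.toD X F) := by
  -- Step 1: a bounded above flat resolution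
  haveI : F.IsLE d := (DerivedCategory.isLE_Q_obj_iff F d).1 hF
  obtain ⟨B, f, hB, hflat, hf⟩ := FlatTor.exists_flat_resolution (F.truncLE d) d
  let g : B ⟶ F := f ≫ F.ιTruncLE d
  have hg : QuasiIso g := inferInstance
  have : IsIso (DerivedCategory.Q.map g) := by
    rw [DerivedCategory.isIso_Q_map_iff_quasiIso]
    exact hg
  let eB : DCoh.toD X B ≅ DCoh.toD X F := asIso (DerivedCategory.Q.map g)
  -- Step 2: stalkwise tor vanishing
  have hv : ∀ x : X, KF.TorVanishing ((sCx x).obj B) a b := fun x =>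
    KF.torVanishing_of_hasTorAmplitudeIn _ a b (h x) ((sCx x).obj B) d
      (fun i hi => (stalkFunctor x).map_isZero (B.isZero_of_isStrictlyLE d i hi))
      (fun i => hflat i x) (PerfectTriangle.mapQIso (stalkFunctor x) eB)
  -- Step 3: `B` is exact outside `[a, b]`
  have hex : ∀ i, (i < a ∨ b < i) → B.ExactAt i := fun i hi => by
    rw [exactAt_iff_stalk]
    intro x
    exact KF.exactAt_of_tensExactAt_unit _ i (hv x _ i hi)
  -- Step 4: the opcycles in degree `a` are flat
  have hop : FlatMod.IsFlat (B.opcycles a) := by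
    intro x
    have h1 : Module.Flat (X.presheaf.stalk x) (((sCx x).obj B).opcycles a) :=
      KF.flat_opcycles _ a (hflat a x) (fun N => hv x N (a - 1) (Or.inl (by omega)))
    have e : ((sCx x).obj B).opcycles a ≅ (stalkFunctor x).obj (B.opcycles a) :=
      (B.sc a).mapOpcyclesIso (stalkFunctor x)
    exact Module.Flat.of_linearEquiv e.toLinearEquiv.symm
  -- Step 5: truncate below
  haveI : B.IsGE a := (B.isGE_iff a).2 (fun i hi => hex i (Or.inl hi))
  have : IsIso (DerivedCategory.Q.map (B.πTruncGE a)) := by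
    rw [DerivedCategory.isIso_Q_map_iff_quasiIso]
    infer_instance
  let E := B.truncGE a
  let eE : DCoh.toD X E ≅ DCoh.toD X F :=
    (asIso (DerivedCategory.Q.map (B.πTruncGE a))).symm ≪≫ eB
  have hEz : ∀ i, d < i → IsZero (E.X i) := by
    intro i hi
    by_cases h1 : i < a
    · exact E.isZero_of_isStrictlyGE a i h1
    · by_cases h3 : i = a
      · subst h3
        refine IsZero.of_iso ?_ (B.truncGEXIsoOpcycles i)
        exact IsZero.of_epi (B.pOpcycles i) (B.isZero_of_isStrictlyLE d i hi)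
      · exact IsZero.of_iso (B.isZero_of_isStrictlyLE d i hi) (B.truncGEXIso a i (by omega))
  have hEfl : ∀ i, FlatMod.IsFlat (E.X i) := by
    intro i
    rcases lt_trichotomy i a with h1 | h1 | h1
    · exact FlatTor.flatMod_of_isZero (E.isZero_of_isStrictlyGE a i h1)
    · subst h1
      exact FlatTor.flatMod_of_iso (B.truncGEXIsoOpcycles i).symm hop
    · exact FlatTor.flatMod_of_iso (B.truncGEXIso a i h1).symm (hflat i)
  have hEex : ∀ i, b < i → IsZero (E.homology i) := by
    intro i hi
    have h1 : IsZero (B.homology i) :=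
      (HomologicalComplex.exactAt_iff_isZero_homology _ _).1 (hex i (Or.inr hi))
    have : QuasiIsoAt (B.πTruncGE a) i := inferInstance
    exact h1.of_iso (_root_.isoOfQuasiIsoAt (B.πTruncGE a) i).symm
  -- Step 6: truncate above
  have hcyc := FlatCycles.flat_cycles E hEfl d hEz b hEex
  haveI : E.IsLE b := (E.isLE_iff b).2 (fun i hi =>
    (HomologicalComplex.exactAt_iff_isZero_homology _ _).2 (hEex i hi))
  have : IsIso (DerivedCategory.Q.map (E.ιTruncLE b)) := by
    rw [DerivedCategory.isIso_Q_map_iff_quasiIso]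
    infer_instance
  refine ⟨E.truncLE b, ?_, ?_, ⟨asIso (DerivedCategory.Q.map (E.ιTruncLE b)) ≪≫ eE⟩⟩
  · intro i hi
    rcases hi with hi | hi
    · by_cases h1 : b < i
      · exact (E.truncLE b).isZero_of_isStrictlyLE b i h1
      · by_cases h3 : i = b
        · subst h3
          refine IsZero.of_iso ?_ (E.truncLEXIsoCycles i)
          exact IsZero.of_mono (E.iCycles i) (E.isZero_of_isStrictlyGE a i hi)
        · exact IsZero.of_iso (E.isZero_of_isStrictlyGE a i hi) (E.truncLEXIso b i (by omega))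
    · exact (E.truncLE b).isZero_of_isStrictlyLE b i hi
  · intro i
    rcases lt_trichotomy i b with h1 | h1 | h1
    · exact FlatTor.flatMod_of_iso (E.truncLEXIso b i h1).symm (hEfl i)
    · subst h1
      exact FlatTor.flatMod_of_iso (E.truncLEXIsoCycles i).symm (hcyc i le_rfl)
    · exact FlatTor.flatMod_of_isZero ((E.truncLE b).isZero_of_isStrictlyLE b i h1)

/-- **Flat amplitude of a bounded above complex is tor amplitude of the stalks** -/
theorem hasFlatAmplitudeIn_iff (F : CochainComplex X.Modules ℤ) (d : ℤ)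
    [(DCoh.toD X F).IsLE d] (a b : ℤ) :
    DCoh.HasFlatAmplitudeIn a b (DCoh.toD X F) ↔ DerSch.HasTorAmplitude (𝟙 X) a b F := by
  constructor
  · intro h x
    exact (hasTorAmplitudeAt_id_iff a b F x).2 (hasTorAmplitudeIn_stalk a b F h x)
  · intro h
    exact hasFlatAmplitudeIn_of_stalks F d a b
      (fun x => (hasTorAmplitudeAt_id_iff a b F x).1 (h x))

end Groth.Agent.H5.StalkTorAmp
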