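import Mathlib
import Groth.Agent.H5.StalkTorAmp
import Groth.Agent.H71.QCoh.TensorInvertible
import Groth.Agent.H35.RelPerfectTensor

/-!
# Tor amplitude relative to a composite morphism
-/

set_option autoImplicit false
universe u
open CategoryTheory CategoryTheory.Limits AlgebraicGeometry MonoidalCategory

attribute [local instance] HasDerivedCategory.standard

namespace Groth.Agent.H5.RelTorAmp

open Groth.Agent.H5.Stalk Groth.Agent.H5.StalkTorAmp
open HomologicalComplex Groth.Agent.H35.KF Groth.Agent.H35.KFBC Groth.Agent.H35.LT DerivedCategory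

variable {X Y Z : Scheme.{u}}

/-- tor amplitude at a point relative to `f`, in terms of the complex of stalks -/
theorem hasTorAmplitudeAt_iff (f : X ⟶ Y) (a b : ℤ) (F : CochainComplex X.Modules ℤ) (x : X) :
    DerSch.HasTorAmplitudeAt f a b F x ↔
      DRing.HasTorAmplitudeIn (Y.presheaf.stalk (f x)) a b
        (Q.obj (resL (f.stalkMap x).hom ((sCx x).obj F))) := by
  let ι : DerSch.stalkOver f x ≅ stalkFunctor x ⋙ ModuleCat.restrictScalars (f.stalkMap x).hom :=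
    Functor.isoWhiskerRight (eqToIso (KFlat.derSch_stalkFunctor_eq x)) _
  have e : (DerSch.stalkCxOver f x).obj F ≅ resL (f.stalkMap x).hom ((sCx x).obj F) :=
    (NatIso.mapHomologicalComplex ι (ComplexShape.up ℤ)).app F
  have eQ := Q.mapIso e
  constructor
  · rintro ⟨E, hE, hfl, ⟨i⟩⟩
    exact ⟨E, hE, hfl, ⟨i ≪≫ eQ⟩⟩
  · rintro ⟨E, hE, hfl, ⟨i⟩⟩
    exact ⟨E, hE, hfl, ⟨i ≪≫ eQ.symm⟩⟩

/-- the complex of stalks of the structure sheaf in degree `0` -/
noncomputable def sCxUnitIso (y : Y) :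
    (sCx y).obj (DerSch.unitCx Y) ≅ 𝟙_ (CochainComplex (ModuleCat.{u} (Y.presheaf.stalk y)) ℤ) :=
  (HomologicalComplex.singleMapHomologicalComplex (stalkFunctor y) (ComplexShape.up ℤ) 0).app
      (Coh.structureModule Y) ≪≫
    (HomologicalComplex.single _ (ComplexShape.up ℤ) 0).mapIso
      (Groth.Agent.H71.QCoh.unitStalkEquiv y).toModuleIso

/-- **Tor amplitude relative to a composite**: if `g` has tor dimension `≤ n` and `F` has tor
amplitude in `[a, b]` relative to `f`, then `F` has tor amplitude in `[a - n, b]` relative to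
`f ≫ g`. -/
theorem hasTorAmplitude_comp (f : X ⟶ Y) (g : Y ⟶ Z) (n : ℕ) (hg : DerSch.HasTorDimLE g n)
    (F : CochainComplex X.Modules ℤ) (a b : ℤ) (hF : DerSch.HasTorAmplitude f a b F) :
    DerSch.HasTorAmplitude (f ≫ g) (a - n) b F := by
  intro x
  rw [hasTorAmplitudeAt_iff]
  have h1 := (hasTorAmplitudeAt_iff f a b F x).1 (hF x)
  have h2 := (hasTorAmplitudeAt_iff g (-(n : ℤ)) 0 (DerSch.unitCx Y) (f x)).1 (hg (f x))
  let φ : Z.presheaf.stalk (g (f x)) →+* Y.presheaf.stalk (f x) := (g.stalkMap (f x)).hom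
  let ψ : Y.presheaf.stalk (f x) →+* X.presheaf.stalk x := (f.stalkMap x).hom
  let χ : Z.presheaf.stalk (g (f x)) →+* X.presheaf.stalk x := ((f ≫ g).stalkMap x).hom
  have hχ : χ = ψ.comp φ := by
    simp only [χ]
    rw [Scheme.Hom.stalkMap_comp]
    rfl
  let S := (sCx x).obj F
  change DRing.HasTorAmplitudeIn (Z.presheaf.stalk (g (f x))) (a - n) b (Q.obj (resL χ S))
  have e1 : resL χ S ≅ resL φ (resL ψ S) :=
    (NatIso.mapHomologicalComplex (ModuleCat.restrictScalarsComp' φ ψ χ hχ)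
      (ComplexShape.up ℤ)).app S
  obtain ⟨E, hE, hEfl, ⟨e⟩⟩ := h1
  letI : Algebra (Z.presheaf.stalk (g (f x))) (Y.presheaf.stalk (f x)) := φ.toAlgebra
  have hL : DRing.HasTorAmplitudeIn (Z.presheaf.stalk (g (f x))) (-(n : ℤ)) 0
      (Q.obj (resL (algebraMap (Z.presheaf.stalk (g (f x))) (Y.presheaf.stalk (f x)))
        (𝟙_ (CochainComplex (ModuleCat.{u} (Y.presheaf.stalk (f x))) ℤ)))) := by
    obtain ⟨E', hE', hfl', ⟨i⟩⟩ := h2
    exact ⟨E', hE', hfl', ⟨i ≪≫ Q.mapIso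
      (((ModuleCat.restrictScalars φ).mapHomologicalComplex (ComplexShape.up ℤ)).mapIso
        (sCxUnitIso (f x)))⟩⟩
  have h3 := hasTorAmplitudeIn_resL_tensor E a b hE hEfl
    (𝟙_ (CochainComplex (ModuleCat.{u} (Y.presheaf.stalk (f x))) ℤ)) (-(n : ℤ)) 0 hL
  have e2 : Q.obj (resL φ (E ⊗ 𝟙_ (CochainComplex (ModuleCat.{u} (Y.presheaf.stalk (f x))) ℤ))) ≅
      Q.obj (resL χ S) :=
    Q.mapIso (((ModuleCat.restrictScalars φ).mapHomologicalComplex (ComplexShape.up ℤ)).mapIso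
      (ρ_ E)) ≪≫ PerfectTriangle.mapQIso (ModuleCat.restrictScalars φ) e ≪≫ Q.mapIso e1.symm
  obtain ⟨E'', hE'', hfl'', ⟨i⟩⟩ := h3
  refine ⟨E'', ?_, hfl'', ⟨i ≪≫ e2⟩⟩
  intro j hj
  exact hE'' j (by omega)

end Groth.Agent.H5.RelTorAmp
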