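import Mathlib
import Groth.Agent.H5.StalkTorAmp
import Groth.Agent.H5.Lpull
import Groth.Agent.H5.Stalk.PullbackStalk
import Groth.Agent.H33.SchemeDer.FlatPull
import Groth.Agent.H35.TorAmpDescent

/-!
# Stalkwise tor amplitude without boundedness; descent of flat amplitude along flat surjections
-/

set_option autoImplicit false
universe u
open CategoryTheory CategoryTheory.Limits AlgebraicGeometry

attribute [local instance] HasDerivedCategory.standard

namespace Groth.Agent.H5.StalkTorAmp2

open Groth.Agent.H5.Stalk Groth.Agent.H5.StalkTorAmp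

/-- a complex isomorphic in the derived category to a complex vanishing in degree `i` is exact
in degree `i` -/
lemma exactAt_of_iso_Q {A : Type*} [Category A] [Abelian A] [HasDerivedCategory A]
    (F E : CochainComplex A ℤ)
    (e : DerivedCategory.Q.obj E ≅ DerivedCategory.Q.obj F) (i : ℤ) (hE : IsZero (E.X i)) :
    F.ExactAt i := by
  have h1 : E.ExactAt i := (E.sc i).exact_of_isZero_X₂ hE
  rw [HomologicalComplex.exactAt_iff_isZero_homology] at h1 ⊢
  exact h1.of_iso (((DerivedCategory.homologyFunctorFactors A i).app F).symm ≪≫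
    (DerivedCategory.homologyFunctor A i).mapIso e.symm ≪≫
    (DerivedCategory.homologyFunctorFactors A i).app E)

variable {X : Scheme.{u}}

/-- stalkwise tor amplitude in `[a, b]` forces the cohomology to vanish above `b` -/
theorem isLE_of_stalks (F : CochainComplex X.Modules ℤ) (a b : ℤ)
    (h : ∀ x : X, DRing.HasTorAmplitudeIn (X.presheaf.stalk x) a b
      (DRing.toD ((sCx x).obj F))) : (DCoh.toD X F).IsLE b := by
  rw [DerivedCategory.isLE_Q_obj_iff, CochainComplex.isLE_iff]
  intro i hi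
  rw [exactAt_iff_stalk]
  intro x
  obtain ⟨E, hE, -, ⟨e⟩⟩ := h x
  exact exactAt_of_iso_Q _ E e i (hE i (Or.inr hi))

/-- stalkwise tor amplitude implies flat amplitude, without any boundedness hypothesis -/
theorem hasFlatAmplitudeIn_of_stalks (F : CochainComplex X.Modules ℤ) (a b : ℤ)
    (h : ∀ x : X, DRing.HasTorAmplitudeIn (X.presheaf.stalk x) a b
      (DRing.toD ((sCx x).obj F))) : DCoh.HasFlatAmplitudeIn a b (DCoh.toD X F) := by
  haveI := isLE_of_stalks F a b h
  exact StalkTorAmp.hasFlatAmplitudeIn_of_stalks F b a b h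

section Descent

variable {Y : Scheme.{u}} (f : X ⟶ Y)

/-- the complex of stalks of a pullback -/
noncomputable def sCxPullbackIso (K : CochainComplex Y.Modules ℤ) (x : X) :
    (sCx x).obj (((Scheme.Modules.pullback f).mapHomologicalComplex (ComplexShape.up ℤ)).obj K) ≅
      (Groth.Agent.H35.LT.extCx (f.stalkMap x).hom).obj ((sCx (f x)).obj K) :=
  HomologicalComplex.Hom.isoOfComponents (fun i => (pullbackStalkIso f x).app (K.X i))
    (fun i j _ => ((pullbackStalkIso f x).hom.naturality (K.d i j)).symm)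

variable [Flat f]

/-- for flat `f`, the derived pullback is computed by any representative -/
theorem nonempty_Lpull_iso_of_flat [DCoh.HasLpull f] (K : CochainComplex Y.Modules ℤ) :
    Nonempty ((DCoh.Lpull f).obj (DCoh.toD Y K) ≅
      DCoh.toD X (((Scheme.Modules.pullback f).mapHomologicalComplex
        (ComplexShape.up ℤ)).obj K)) := by
  haveI := Groth.Agent.H33.SchemeDer.preservesFiniteLimits_pullback_of_flat f
  obtain ⟨P, q, hP, hq⟩ := (Lpull.hyp (Y := Y)).res K
  have : IsIso (DerivedCategory.Q.map q) := by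
    rw [DerivedCategory.isIso_Q_map_iff_quasiIso]
    exact hq
  exact ⟨(DCoh.Lpull f).mapIso (asIso (DerivedCategory.Q.map q)).symm ≪≫
    Lpull.LpullIso f P hP ≪≫
    PerfectTriangle.mapQIso (Scheme.Modules.pullback f) (asIso (DerivedCategory.Q.map q))⟩

/-- **flat amplitude descends along flat surjective morphisms** -/
theorem hasFlatAmplitudeIn_of_Lpull [Surjective f] [DCoh.HasLpull f] (E : DCoh.D Y) (a b : ℤ)
    (h : DCoh.HasFlatAmplitudeIn a b ((DCoh.Lpull f).obj E)) :
    DCoh.HasFlatAmplitudeIn a b E := by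
  let K := DerivedCategory.Q.objPreimage E
  have eK : DCoh.toD Y K ≅ E := DerivedCategory.Q.objObjPreimageIso E
  obtain ⟨e1⟩ := nonempty_Lpull_iso_of_flat f K
  have h1 : DCoh.HasFlatAmplitudeIn a b
      (DCoh.toD X (((Scheme.Modules.pullback f).mapHomologicalComplex
        (ComplexShape.up ℤ)).obj K)) := by
    obtain ⟨E', hE', hfl, ⟨i⟩⟩ := h
    exact ⟨E', hE', hfl, ⟨i ≪≫ (DCoh.Lpull f).mapIso eK.symm ≪≫ e1⟩⟩
  have h2 : DCoh.HasFlatAmplitudeIn a b (DCoh.toD Y K) := by
    apply hasFlatAmplitudeIn_of_stalks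
    intro y
    obtain ⟨x, rfl⟩ := ‹Surjective f›.surj y
    have h3 := hasTorAmplitudeIn_stalk a b _ h1 x
    have h4 : DRing.HasTorAmplitudeIn (X.presheaf.stalk x) a b
        (DRing.toD ((Groth.Agent.H35.LT.extCx (f.stalkMap x).hom).obj ((sCx (f x)).obj K))) := by
      obtain ⟨E', hE', hfl, ⟨i⟩⟩ := h3
      exact ⟨E', hE', hfl, ⟨i ≪≫ DerivedCategory.Q.mapIso (sCxPullbackIso f K x)⟩⟩
    algebraize [(f.stalkMap x).hom]
    have : Module.FaithfullyFlat (Y.presheaf.stalk (f x)) (X.presheaf.stalk x) :=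
      @Module.FaithfullyFlat.of_flat_of_isLocalHom _ _ _ _ _ _ _
        (Flat.stalkMap f x) (f.toLRSHom.prop x)
    exact Groth.Agent.H35.LT.hasTorAmplitudeIn_of_faithfullyFlat_extCx _ a b h4
  obtain ⟨E', hE', hfl, ⟨i⟩⟩ := h2
  exact ⟨E', hE', hfl, ⟨i ≪≫ eK⟩⟩

end Descent

end Groth.Agent.H5.StalkTorAmp2
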