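import Groth.Agent.H5.LpullComp
import Groth.Agent.H71.QCoh.FlatSections
import Groth.Agent.H35.LTensorRing

/-!
# `M^~` is flat when `M` is, and resolutions of complexes of modules adapted to `~`
-/

set_option autoImplicit false
universe u
open CategoryTheory CategoryTheory.Limits AlgebraicGeometry ZeroObject

attribute [local instance] HasDerivedCategory.standard

namespace Groth.Agent.H5.TildeFlat

open Lpull FlatTor KFlatScheme

variable (R : CommRingCat.{u})

/-- flatness over `R` and over `Γ(Spec R, ⊤)` agree -/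
lemma flat_top_of_flat (M : (Spec R).Modules) (h : Module.Flat R Γ(M, ⊤)) :
    Module.Flat Γ(Spec R, ⊤) Γ(M, ⊤) := by
  have hbij : Function.Bijective (algebraMap R Γ(Spec R, ⊤)) := by
    rw [IsAffineOpen.algebraMap_Spec_obj]
    have h1 : IsIso ((Scheme.ΓSpecIso R).inv ≫
        (Spec R).presheaf.map (homOfLE (le_top : (⊤ : (Spec R).Opens) ≤ ⊤)).op) := by
      have : (homOfLE (le_top : (⊤ : (Spec R).Opens) ≤ ⊤)) = 𝟙 _ := rfl
      rw [this, op_id, CategoryTheory.Functor.map_id, Category.comp_id]
      infer_instance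
    exact (ConcreteCategory.isIso_iff_bijective _).1 h1
  let e : R ≃ₐ[R] Γ(Spec R, ⊤) := AlgEquiv.ofBijective (Algebra.ofId R Γ(Spec R, ⊤)) hbij
  have : IsLocalization (IsUnit.submonoid R) Γ(Spec R, ⊤) :=
    IsLocalization.isLocalization_of_algEquiv (IsUnit.submonoid R) e
  exact (Module.flat_iff_of_isLocalization Γ(Spec R, ⊤) (IsUnit.submonoid R) Γ(M, ⊤)).2 h

/-- `M^~` is a flat `O`-module if `M` is a flat `R`-module. -/
theorem flatMod_tilde (M : ModuleCat.{u} R) (hM : Module.Flat R M) :
    FlatMod.IsFlat ((tilde.functor R).obj M) := by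
  intro x
  refine Groth.Agent.H71.QCoh.isFlatAt_of_flat_sections ((tilde.functor R).obj M)
    (isAffineOpen_top (Spec R)) ?_ (x := x) trivial
  apply flat_top_of_flat
  exact Module.Flat.of_linearEquiv (tilde.isoTop M).symm.toLinearEquiv

instance : PreservesColimitsOfShape ℕ
    ((tilde.functor R).mapHomologicalComplex (ComplexShape.up ℤ)) := by
  apply HomologicalComplex.preservesColimitsOfShape_of_eval
  intro i
  have : PreservesColimitsOfSize.{0, 0} (tilde.functor R) :=
    (tilde.adjunction (R := R)).leftAdjoint_preservesColimits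
  exact preservesColimitsOfShape_of_natIso
    (Iso.refl _ : HomologicalComplex.eval (ModuleCat.{u} R) (ComplexShape.up ℤ) i ⋙
      tilde.functor R ≅ _)

open Groth.Agent.H35.KF in
/-- Every complex of `R`-modules has a resolution by a K-flat complex `K` such that `K^~` is
K-flat with flat terms. -/
theorem exists_resolution (G : CochainComplex (ModuleCat.{u} R) ℤ) :
    ∃ (K : CochainComplex (ModuleCat.{u} R) ℤ) (q : K ⟶ G), QuasiIso q ∧ IsKFlat K ∧
      kfl (((tilde.functor R).mapHomologicalComplex (ComplexShape.up ℤ)).obj K) := by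
  obtain ⟨Kc, π, -, -, h3, h4, -, c, -, hqi, -⟩ :=
    Groth.Agent.H45.exists_resolution_system (P := fun M : ModuleCat.{u} R => Module.Flat R M)
      exists_flat_epi
      (fun Z hZ => isFlat_of_isZero hZ) (fun X Y hX hY => isFlat_biprod X Y hX hY)
      (fun X Y e hX => isFlat_of_iso e hX) G
  let Φ := (tilde.functor R).mapHomologicalComplex (ComplexShape.up ℤ)
  refine ⟨colimit Kc, c, hqi, ?_, ?_, fun i => ?_⟩
  · refine isKFlat_of_isColimit_nat Kc (colimit.cocone Kc) (colimit.isColimit Kc) (fun n => ?_)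
    have := h3 n
    exact isKFlat_of_isStrictlyLE (Kc.obj n) ((n : ℤ) + 1) (fun i => h4 n i)
  · refine LpullComp.isKFlat_of_isColimit_nat (Kc ⋙ Φ) (Φ.mapCocone (colimit.cocone Kc))
      (isColimitOfPreserves Φ (colimit.isColimit Kc)) (fun n => ?_)
    have := h3 n
    have : CochainComplex.IsStrictlyLE (Φ.obj (Kc.obj n)) ((n : ℤ) + 1) := by
      rw [CochainComplex.isStrictlyLE_iff]
      intro i hi
      exact (tilde.functor R).map_isZero ((Kc.obj n).isZero_of_isStrictlyLE _ i hi)
    exact LpullComp.isKFlat_of_isStrictlyLE (Φ.obj (Kc.obj n)) ((n : ℤ) + 1)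
      (fun i => flatMod_tilde R _ (h4 n i))
  · apply flatMod_tilde
    exact isFlat_of_isColimit (Kc ⋙ HomologicalComplex.eval _ _ i) (fun n => h4 n i)
      ((HomologicalComplex.eval _ _ i).mapCocone (colimit.cocone Kc))
      (isColimitOfPreserves _ (colimit.isColimit Kc))

end Groth.Agent.H5.TildeFlat
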