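import Mathlib
import Groth.Agent.H5.StalkTorAmp2
import Groth.Agent.H5.Stalk.TildeStalk
import Groth.Agent.H5.TildeFlat
import Groth.Agent.H28.TorAmpLocal

/-!
# Flat amplitude of `M^~` on `Spec A` is the tor amplitude of `M`
-/

set_option autoImplicit false
universe u
open CategoryTheory CategoryTheory.Limits AlgebraicGeometry MonoidalCategory

attribute [local instance] HasDerivedCategory.standard

namespace Groth.Agent.H5.TildeTorAmp

open HomologicalComplex Groth.Agent.H35.KF Groth.Agent.H35.KFBC Groth.Agent.H35.LT DerivedCategory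

section Ring

variable {A : Type u} [CommRing A]

/-- tor amplitude is local at the maximal ideals -/
theorem hasTorAmplitudeIn_of_forall_maximal (K : CochainComplex (ModuleCat.{u} A) ℤ) (a b : ℤ)
    (h : ∀ (m : Ideal A) [m.IsMaximal], DRing.HasTorAmplitudeIn (Localization.AtPrime m) a b
        (Q.obj (extK (algebraMap A (Localization.AtPrime m)) K))) :
    DRing.HasTorAmplitudeIn A a b (Q.obj K) := by
  rw [hasTorAmplitudeIn_Q_iff]
  intro N G hG g hg i hi
  apply Groth.Agent.H28.TorAmpLocal.exactAt_of_forall_maximal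
  intro m hm
  let μ := algebraMap A (Localization.AtPrime m)
  rw [exactAt_map_extendScalars_iff, ← exactAt_tensor_sgl_iff,
    exactAt_iff_of_iso' (tensorSwapIso _ _) i,
    ← exactAt_iff_of_iso' (α_ (sgl (BA μ)) K G) i,
    ← exactAt_iff_of_iso' (whiskerRightIso (resLExtKIso (B := Localization.AtPrime m) K) G) i,
    ← exactAt_iff_of_iso' (restrictTensorIso μ (extK μ K) G) i,
    exactAt_map_restrictScalars_iff]
  let G' := extK μ G
  have hG' : IsKFlat G' := isKFlat_extendScalars μ G hG
  let N' := (ModuleCat.extendScalars.{u, u, u} μ).obj N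
  let g' : G' ⟶ sgl N' := (extCx μ).map g ≫
    ((HomologicalComplex.singleMapHomologicalComplex (ModuleCat.extendScalars.{u, u, u} μ)
      (ComplexShape.up ℤ) 0).app N).hom
  have hq : QuasiIso ((extCx μ).map g) := inferInstance
  have hg' : QuasiIso g' := inferInstance
  exact (hasTorAmplitudeIn_Q_iff _ a b).1 (h m) N' G' hG' g' hg' i hi

/-- the tor amplitude of a base change only depends on the algebra up to isomorphism -/
theorem hasTorAmplitudeIn_extK_of_algEquiv {B B' : Type u} [CommRing B] [CommRing B']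
    [Algebra A B] [Algebra A B'] (ψ : B ≃ₐ[A] B') (K : CochainComplex (ModuleCat.{u} A) ℤ)
    (a b : ℤ) (h : DRing.HasTorAmplitudeIn B a b (Q.obj (extK (algebraMap A B) K))) :
    DRing.HasTorAmplitudeIn B' a b (Q.obj (extK (algebraMap A B') K)) := by
  letI : Algebra B B' := (ψ : B →+* B').toAlgebra
  let eBB' : B ≃ₗ[B] B' := LinearEquiv.ofBijective (Algebra.linearMap B B') ψ.bijective
  haveI : Module.Flat B B' := Module.Flat.of_linearEquiv eBB'.symm
  obtain ⟨E, hE, hfl, ⟨e⟩⟩ :=
    hasTorAmplitudeIn_mapDerivedCategory_extendScalars (A := B) (B := B') _ a b h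
  have hcomp : (algebraMap B B').comp (algebraMap A B) = algebraMap A B' := by
    ext x
    exact ψ.commutes x
  exact ⟨E, hE, hfl, ⟨e ≪≫
    (ModuleCat.extendScalars.{u, u, u} (algebraMap B B')).mapDerivedCategoryFactors.app _ ≪≫
    Q.mapIso ((Groth.Agent.H28.TorAmpLocal.extKCompIso (algebraMap A B) (algebraMap B B') K).symm ≪≫
      Groth.Agent.H28.TorAmpLocal.extKCongrIso _ _ hcomp K)⟩⟩

end Ring

section Scheme

open Groth.Agent.H5.Stalk Groth.Agent.H5.StalkTorAmp

variable (R : CommRingCat.{u})

/-- the complex of stalks of `K^~` at `x` is the base change of `K` to the local ring -/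
noncomputable def sCxTildeIso (K : CochainComplex (ModuleCat.{u} R) ℤ)
    (x : Spec (CommRingCat.of R)) :
    (sCx x).obj (((tilde.functor R).mapHomologicalComplex (ComplexShape.up ℤ)).obj K) ≅
      extK (toStalkHom R x) K :=
  HomologicalComplex.Hom.isoOfComponents (fun i => (tildeStalkIso R x).app (K.X i))
    (fun i j _ => ((tildeStalkIso R x).hom.naturality (K.d i j)).symm)

/-- **Flat amplitude of `M^~` is the tor amplitude of `M`.** -/
theorem hasFlatAmplitudeIn_tildeD_iff [PreservesFiniteLimits (tilde.functor R)]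
    (M : DerivedCategory (ModuleCat.{u} R)) (a b : ℤ) :
    DCoh.HasFlatAmplitudeIn a b ((DCoh.tildeD R).obj M) ↔ DRing.HasTorAmplitudeIn R a b M := by
  constructor
  · intro h
    let K := Q.objPreimage M
    have eK : Q.obj K ≅ M := Q.objObjPreimageIso M
    have h' : DCoh.HasFlatAmplitudeIn a b (DCoh.toD (Spec (CommRingCat.of R))
        (((tilde.functor R).mapHomologicalComplex (ComplexShape.up ℤ)).obj K)) := by
      obtain ⟨E, hE, hfl, ⟨e⟩⟩ := h
      exact ⟨E, hE, hfl, ⟨e ≪≫ (DCoh.tildeD R).mapIso eK.symm ≪≫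
        (tilde.functor R).mapDerivedCategoryFactors.app K⟩⟩
    have h2 : DRing.HasTorAmplitudeIn R a b (Q.obj K) := by
      apply hasTorAmplitudeIn_of_forall_maximal
      intro m hm
      let x : Spec (CommRingCat.of R) := ⟨m, hm.isPrime⟩
      have h3 := hasTorAmplitudeIn_stalk a b _ h' x
      have h4 : DRing.HasTorAmplitudeIn ((Spec (CommRingCat.of R)).presheaf.stalk x) a b
          (Q.obj (extK (toStalkHom R x) K)) := by
        obtain ⟨E, hE, hfl, ⟨e⟩⟩ := h3
        exact ⟨E, hE, hfl, ⟨e ≪≫ Q.mapIso (sCxTildeIso R K x)⟩⟩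
      letI : Algebra R ((Spec (CommRingCat.of R)).presheaf.stalk x) :=
        StructureSheaf.stalkAlgebra (R := R) x
      haveI : IsLocalization.AtPrime ((Spec (CommRingCat.of R)).presheaf.stalk x) m :=
        StructureSheaf.IsLocalization.to_stalk (R := R) x
      have h5 : DRing.HasTorAmplitudeIn ((Spec (CommRingCat.of R)).presheaf.stalk x) a b
          (Q.obj (extK (algebraMap R ((Spec (CommRingCat.of R)).presheaf.stalk x)) K)) := h4
      exact hasTorAmplitudeIn_extK_of_algEquiv
        (IsLocalization.algEquiv m.primeCompl ((Spec (CommRingCat.of R)).presheaf.stalk x)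
          (Localization.AtPrime m)) K a b h5
    obtain ⟨E, hE, hfl, ⟨e⟩⟩ := h2
    exact ⟨E, hE, hfl, ⟨e ≪≫ eK⟩⟩
  · rintro ⟨E, hE, hfl, ⟨e⟩⟩
    refine ⟨((tilde.functor R).mapHomologicalComplex (ComplexShape.up ℤ)).obj E,
      fun i hi => (tilde.functor R).map_isZero (hE i hi),
      fun i => TildeFlat.flatMod_tilde R (E.X i) (hfl i),
      ⟨((tilde.functor R).mapDerivedCategoryFactors.app E).symm ≪≫
        (DCoh.tildeD R).mapIso e⟩⟩

end Scheme


end Groth.Agent.H5.TildeTorAmp
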