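import Groth.Agent.H5.Compact
import Groth.Prelude.Def_DerLim

set_option autoImplicit false
set_option linter.unusedSectionVars false

universe v u

open CategoryTheory CategoryTheory.Limits Pretriangulated ZeroObject

namespace Groth.Agent.H5.HocolimCompact

open Groth.Agent.H5.Compact

variable {D : Type u} [Category.{v} D] [Preadditive D] [HasZeroObject D] [HasShift D ℤ]
  [∀ n : ℤ, (shiftFunctor D n).Additive] [Pretriangulated D]
  [HasCoproducts.{v} D] [HasCoproductsOfShape ℕ D]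
  (K : ℕ → D) (f : ∀ n, K n ⟶ K (n + 1))

lemma shiftMap_π_zero : DerLim.shiftMap K f ≫ Sigma.π K 0 = 0 := by
  apply Sigma.hom_ext
  intro n
  simp only [DerLim.shiftMap, colimit.ι_desc_assoc, Discrete.functor_obj_eq_as, Cofan.mk_pt,
    Cofan.mk_ι_app, Category.assoc, comp_zero]
  rw [Sigma.ι_π_of_ne _ (Nat.succ_ne_zero n), comp_zero]

lemma shiftMap_π_succ (m : ℕ) :
    DerLim.shiftMap K f ≫ Sigma.π K (m + 1) = Sigma.π K m ≫ f m := by
  apply Sigma.hom_ext
  intro n
  simp only [DerLim.shiftMap, colimit.ι_desc_assoc, Discrete.functor_obj_eq_as, Cofan.mk_pt,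
    Cofan.mk_ι_app, Category.assoc]
  by_cases h : n = m
  · subst h
    rw [Sigma.ι_π_eq_id, Sigma.ι_π_eq_id_assoc, Category.comp_id]
  · rw [Sigma.ι_π_of_ne _ (fun h' => h (Nat.succ_injective h')), comp_zero,
      Sigma.ι_π_of_ne_assoc _ h, zero_comp]

/-- finite decomposition of maps from a compact object into a countable coproduct -/
lemma finDecomp_nat {C : D} (hC : CohDer.IsCompactObject C) (x : C ⟶ ∐ K) :
    ∃ (s : Finset ℕ) (g : ∀ n, C ⟶ K n), x = ∑ n ∈ s, g n ≫ Sigma.ι K n := by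
  classical
  let e : (∐ (K ∘ (Equiv.ulift.{v, 0} : ULift.{v} ℕ ≃ ℕ))) ≅ ∐ K := Sigma.reindex Equiv.ulift K
  obtain ⟨s, a, ha⟩ := finDecomp_of_compact hC (x ≫ e.inv)
  let g : ∀ n, C ⟶ K n := fun n => a ⟨n⟩
  have hterm : ∀ k : ULift.{v} ℕ,
      (a k ≫ Sigma.ι (K ∘ (Equiv.ulift.{v, 0} : ULift.{v} ℕ ≃ ℕ)) k) ≫ e.hom =
        g k.down ≫ Sigma.ι K k.down := by
    intro k
    rw [Category.assoc, Sigma.ι_reindex_hom]
    rfl
  refine ⟨s.image ULift.down, g, ?_⟩
  have : x = (x ≫ e.inv) ≫ e.hom := by rw [Category.assoc, e.inv_hom_id, Category.comp_id]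
  rw [this, ha, Preadditive.sum_comp, Finset.sum_image (fun a _ b _ h => ULift.ext _ _ h)]
  exact Finset.sum_congr rfl (fun k _ => hterm k)

/-- components of a map into a countable coproduct from a compact object determine it -/
lemma eq_zero_of_π {C : D} (hC : CohDer.IsCompactObject C) (x : C ⟶ ∐ K)
    (h : ∀ n, x ≫ Sigma.π K n = 0) : x = 0 := by
  obtain ⟨s, g, hx⟩ := finDecomp_nat K hC x
  rw [hx]
  apply Finset.sum_eq_zero
  intro k hk
  have hk' := h k
  rw [hx, Preadditive.sum_comp, Finset.sum_eq_single k] at hk'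
  · rw [Category.assoc, Sigma.ι_π_eq_id, Category.comp_id] at hk'
    rw [hk', zero_comp]
  · intro j _ hj
    rw [Category.assoc, Sigma.ι_π_of_ne _ hj, comp_zero]
  · intro h'
    exact absurd hk h'

lemma eq_zero_of_comp_one_sub_shiftMap {C : D} (hC : CohDer.IsCompactObject C) (x : C ⟶ ∐ K)
    (h : x ≫ (𝟙 _ - DerLim.shiftMap K f) = 0) : x = 0 := by
  have hx : x = x ≫ DerLim.shiftMap K f := by
    rw [Preadditive.comp_sub, Category.comp_id, sub_eq_zero] at h
    exact h
  apply eq_zero_of_π K hC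
  intro n
  induction n with
  | zero => rw [hx, Category.assoc, shiftMap_π_zero, comp_zero]
  | succ n ih => rw [hx, Category.assoc, shiftMap_π_succ, reassoc_of% ih, zero_comp]

lemma sum_range_factor {C L : D} (i : ∀ n, K n ⟶ L) (hi : ∀ n, i n = f n ≫ i (n + 1))
    (x : ∀ n, C ⟶ K n) (N : ℕ) :
    ∃ y : C ⟶ K N, ∑ n ∈ Finset.range (N + 1), x n ≫ i n = y ≫ i N := by
  induction N with
  | zero => exact ⟨x 0, by simp⟩
  | succ N ih =>
    obtain ⟨y, hy⟩ := ih
    refine ⟨y ≫ f N + x (N + 1), ?_⟩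
    rw [Finset.sum_range_succ, hy, Preadditive.add_comp, Category.assoc, ← hi N]

/-- a map from a compact object to a homotopy colimit factors through a finite stage -/
theorem factor_of_isHocolim {L : D} (i : ∀ n, K n ⟶ L) (hL : DerLim.IsHocolim K f L i)
    {C : D} (hC : CohDer.IsCompactObject C) (g : C ⟶ L) :
    ∃ (N : ℕ) (y : C ⟶ K N), g = y ≫ i N := by
  classical
  obtain ⟨c, hT⟩ := hL
  have hi : ∀ n, i n = f n ≫ i (n + 1) := by
    intro n
    have h0 : (𝟙 _ - DerLim.shiftMap K f) ≫ Sigma.desc i = 0 := comp_distTriang_mor_zero₁₂ _ hT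
    have := congrArg (Sigma.ι K n ≫ ·) h0
    simp only [DerLim.shiftMap, Preadditive.sub_comp, Category.id_comp, Preadditive.comp_sub,
      colimit.ι_desc, Cofan.mk_pt, Cofan.mk_ι_app, colimit.ι_desc_assoc,
      Discrete.functor_obj_eq_as, Category.assoc, comp_zero, sub_eq_zero] at this
    exact this
  have hgc : g ≫ c = 0 := by
    let C' := C⟦(-1 : ℤ)⟧
    have hC' : CohDer.IsCompactObject C' := compact_shift hC (-1)
    let e : C'⟦(1 : ℤ)⟧ ≅ C := (shiftEquiv D (1 : ℤ)).counitIso.app C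
    obtain ⟨x, hx⟩ := (shiftFunctor D (1 : ℤ)).map_surjective (e.hom ≫ g ≫ c)
    have hx0 : x = 0 := by
      apply eq_zero_of_comp_one_sub_shiftMap K f hC'
      apply (shiftFunctor D (1 : ℤ)).map_injective
      have h31 : c ≫ (𝟙 _ - DerLim.shiftMap K f)⟦(1 : ℤ)⟧' = 0 := comp_distTriang_mor_zero₃₁ _ hT
      rw [Functor.map_comp, hx, Functor.map_zero, Category.assoc, Category.assoc, h31,
        comp_zero, comp_zero]
    rw [hx0, Functor.map_zero] at hx
    have h0 : e.hom ≫ g ≫ c = e.hom ≫ 0 := by rw [← hx, comp_zero]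
    exact (cancel_epi e.hom).mp h0
  obtain ⟨g', hg'⟩ : ∃ g' : C ⟶ ∐ K, g = g' ≫ Sigma.desc i :=
    Triangle.coyoneda_exact₃ _ hT g hgc
  obtain ⟨s', a, hg''⟩ := finDecomp_nat K hC g'
  let N := s'.sup id
  let x : ∀ n, C ⟶ K n := fun n => if n ∈ s' then a n else 0
  obtain ⟨y, hy⟩ := sum_range_factor K f i hi x N
  refine ⟨N, y, ?_⟩
  rw [← hy, hg', hg'', Preadditive.sum_comp]
  have h1 : ∑ n ∈ s', (a n ≫ Sigma.ι K n) ≫ Sigma.desc i = ∑ n ∈ s', x n ≫ i n := by
    apply Finset.sum_congr rfl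
    intro n hn
    simp only [x, if_pos hn, Category.assoc, colimit.ι_desc, Cofan.mk_pt, Cofan.mk_ι_app]
  rw [h1]
  apply Finset.sum_subset
  · intro n hn
    rw [Finset.mem_range, Nat.lt_succ_iff]
    exact Finset.le_sup (f := id) hn
  · intro n _ hn
    simp only [x, if_neg hn, zero_comp]

end Groth.Agent.H5.HocolimCompact
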