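import Groth.Agent.H5.Compact
import Mathlib.CategoryTheory.Triangulated.Generators
import Mathlib.CategoryTheory.Triangulated.Triangulated

set_option autoImplicit false
set_option linter.unusedSectionVars false

universe v u

open CategoryTheory CategoryTheory.Limits Pretriangulated ZeroObject

namespace Groth.Agent.H5.EnvFactor

open Groth.Agent.H5.Compact

variable {D : Type u} [Category.{v} D] [Preadditive D] [HasZeroObject D] [HasShift D ℤ]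
  [∀ n : ℤ, (shiftFunctor D n).Additive] [Pretriangulated D] [IsTriangulated D]
  [HasCoproducts.{v} D] {ι : Type v} (E : ι → D)

/-- the finite subfamily as an object property -/
abbrev gen (s : Finset ι) : ObjectProperty D := fun Y => ∃ i ∈ s, Y = E i

/-- its triangulated envelope -/
abbrev Env (s : Finset ι) : ObjectProperty D := (gen E s).triangEnvelope

lemma env_mono {s t : Finset ι} (h : s ⊆ t) : Env E s ≤ Env E t :=
  ObjectProperty.monotone_triangEnvelope (fun _ ⟨i, hi, e⟩ => ⟨i, h hi, e⟩)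

lemma env_of_mem {s : Finset ι} {i : ι} (hi : i ∈ s) : Env E s (E i) :=
  ObjectProperty.le_triangEnvelope _ _ ⟨i, hi, rfl⟩

lemma env_shift {s : Finset ι} {Y : D} (h : Env E s Y) (m : ℤ) : Env E s (Y⟦m⟧) :=
  ObjectProperty.le_shift (Env E s) m _ h

lemma env_compact (hc : ∀ i, CohDer.IsCompactObject (E i)) {s : Finset ι} {Y : D}
    (h : Env E s Y) : CohDer.IsCompactObject Y := by
  have : Env E s ≤ compactProp := by
    rw [ObjectProperty.triangEnvelope_le_iff]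
    rintro Y ⟨i, _, rfl⟩
    exact hc i
  exact this _ h

lemma env_zero [Nonempty ι] : ∃ s : Finset ι, Env E s (0 : D) := by
  obtain ⟨i⟩ := ‹Nonempty ι›
  refine ⟨{i}, ?_⟩
  have : (gen E {i}).Nonempty := ⟨⟨E i, i, Finset.mem_singleton_self i, rfl⟩⟩
  exact ObjectProperty.prop_zero _

lemma env_biprod {s : Finset ι} {X₁ X₂ : D} (h₁ : Env E s X₁) (h₂ : Env E s X₂) :
    Env E s (X₁ ⊞ X₂) :=
  ObjectProperty.ext_of_isTriangulatedClosed₂ _ _ (binaryBiproductTriangle_distinguished X₁ X₂)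
    h₁ h₂

/-- `φ` factors through an object of the envelope of a finite subfamily -/
def Fact {C W : D} (φ : C ⟶ W) : Prop :=
  ∃ (s : Finset ι) (E' : D) (g : C ⟶ E') (h : E' ⟶ W), Env E s E' ∧ g ≫ h = φ

variable {E}

lemma Fact.comp_right {C W W' : D} {φ : C ⟶ W} (h : Fact E φ) (w : W ⟶ W') : Fact E (φ ≫ w) := by
  obtain ⟨s, E', g, h, hE, rfl⟩ := h
  exact ⟨s, E', g, h ≫ w, hE, by rw [Category.assoc]⟩

lemma Fact.comp_left {C C' W : D} {φ : C ⟶ W} (h : Fact E φ) (c : C' ⟶ C) : Fact E (c ≫ φ) := by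
  obtain ⟨s, E', g, h, hE, rfl⟩ := h
  exact ⟨s, E', c ≫ g, h, hE, by rw [Category.assoc]⟩

lemma Fact.zero [Nonempty ι] (C W : D) : Fact E (0 : C ⟶ W) := by
  obtain ⟨s, hs⟩ := env_zero E
  exact ⟨s, 0, 0, 0, hs, by simp⟩

lemma Fact.add {C W : D} {φ₁ φ₂ : C ⟶ W} (h₁ : Fact E φ₁) (h₂ : Fact E φ₂) :
    Fact E (φ₁ + φ₂) := by
  classical
  obtain ⟨s₁, E₁, g₁, k₁, hE₁, rfl⟩ := h₁
  obtain ⟨s₂, E₂, g₂, k₂, hE₂, rfl⟩ := h₂
  refine ⟨s₁ ∪ s₂, E₁ ⊞ E₂, biprod.lift g₁ g₂, biprod.desc k₁ k₂,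
    env_biprod E (env_mono E Finset.subset_union_left _ hE₁)
      (env_mono E Finset.subset_union_right _ hE₂), ?_⟩
  simp

lemma Fact.sum [Nonempty ι] {C W : D} {κ : Type*} (s : Finset κ) (φ : κ → (C ⟶ W))
    (h : ∀ k ∈ s, Fact E (φ k)) : Fact E (∑ k ∈ s, φ k) := by
  classical
  induction s using Finset.induction_on with
  | empty => simpa using Fact.zero C W
  | insert a s ha ih =>
    rw [Finset.sum_insert ha]
    exact (h a (Finset.mem_insert_self a s)).add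
      (ih (fun k hk => h k (Finset.mem_insert_of_mem hk)))

variable (E) in
/-- every map from a compact object factors through the envelope of a finite subfamily -/
def Q (W : D) : Prop := ∀ (C : D), CohDer.IsCompactObject C → ∀ φ : C ⟶ W, Fact E φ

lemma Q_of_env {s : Finset ι} {W : D} (h : Env E s W) : Q E W :=
  fun _ _ φ => ⟨s, W, φ, 𝟙 W, h, Category.comp_id φ⟩

lemma Q_of_iso {W W' : D} (e : W ≅ W') (h : Q E W) : Q E W' := by
  intro C hC φ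
  have := (h C hC (φ ≫ e.inv)).comp_right e.hom
  rwa [Category.assoc, e.inv_hom_id, Category.comp_id] at this

lemma Q_coprod [Nonempty ι] {κ : Type v} (W : κ → D) (h : ∀ k, Q E (W k)) : Q E (∐ W) := by
  intro C hC φ
  obtain ⟨s, g, rfl⟩ := finDecomp_of_compact hC φ
  exact Fact.sum s _ (fun k _ => (h k C hC (g k)).comp_right _)

lemma Q_cone (hc : ∀ i, CohDer.IsCompactObject (E i)) (T : Triangle D) (hT : T ∈ distTriang D)
    (h₁ : Q E (T.obj₁⟦(1 : ℤ)⟧)) (h₂ : Q E T.obj₂) : Q E T.obj₃ := by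
  classical
  intro C hC φ
  obtain ⟨s₁, E₁, g, h, hE₁, hgh⟩ := h₁ C hC (φ ≫ T.mor₃)
  obtain ⟨C', c, e, hC'⟩ := distinguished_cocone_triangle₁ g
  have hC'c : CohDer.IsCompactObject C' :=
    ObjectProperty.ext_of_isTriangulatedClosed₁ compactProp _ hC' hC (env_compact E hc hE₁)
  have hTr := rot_of_distTriang _ hT
  obtain ⟨θ, hθ₁, hθ₂⟩ : ∃ θ : C' ⟶ T.obj₂, c ≫ φ = θ ≫ T.mor₂ ∧
      e ≫ θ⟦(1 : ℤ)⟧' = h ≫ (-T.mor₁⟦(1 : ℤ)⟧') :=
    complete_distinguished_triangle_morphism₁ _ _ hC' hTr φ h hgh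
  obtain ⟨s₂, E₂, g₂, h₂', hE₂, hg₂⟩ := h₂ C' hC'c θ
  obtain ⟨E₃, p, r, hE₃⟩ := distinguished_cocone_triangle₂ (e ≫ g₂⟦(1 : ℤ)⟧')
  have hE₃env : Env E (s₁ ∪ s₂) E₃ :=
    ObjectProperty.ext_of_isTriangulatedClosed₂ _ _ hE₃
      (env_mono E Finset.subset_union_right _ hE₂) (env_mono E Finset.subset_union_left _ hE₁)
  obtain ⟨α, -, hα⟩ : ∃ α : C ⟶ E₃, c ≫ α = g₂ ≫ p ∧ g ≫ 𝟙 E₁ = α ≫ r :=
    complete_distinguished_triangle_morphism₂ _ _ hC' hE₃ g₂ (𝟙 E₁)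
      (by change e ≫ g₂⟦(1 : ℤ)⟧' = 𝟙 E₁ ≫ e ≫ g₂⟦(1 : ℤ)⟧'; rw [Category.id_comp])
  rw [Category.comp_id] at hα
  obtain ⟨β, -, hβ⟩ : ∃ β : E₃ ⟶ T.obj₃, p ≫ β = h₂' ≫ T.mor₂ ∧ r ≫ h = β ≫ T.mor₃ :=
    complete_distinguished_triangle_morphism₂ _ _ hE₃ hTr h₂' h (by
      change (e ≫ g₂⟦(1 : ℤ)⟧') ≫ h₂'⟦(1 : ℤ)⟧' = h ≫ (-T.mor₁⟦(1 : ℤ)⟧')
      rw [Category.assoc, ← Functor.map_comp, hg₂, hθ₂])
  have hz : (φ - α ≫ β) ≫ T.mor₃ = 0 := by
    rw [Preadditive.sub_comp, Category.assoc, ← hβ, ← Category.assoc, ← hα, hgh, sub_self]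
  obtain ⟨θ', hθ'⟩ := Triangle.coyoneda_exact₃ _ hT _ hz
  have hφ : φ = α ≫ β + θ' ≫ T.mor₂ := by rw [← hθ']; abel
  rw [hφ]
  exact Fact.add ⟨s₁ ∪ s₂, E₃, α, β, hE₃env, rfl⟩ ((h₂ C hC θ').comp_right _)

end Groth.Agent.H5.EnvFactor
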