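import Groth.Agent.H45.SheafTensor.FlatOps

/-!
# The right unit isomorphism for the tensor product of sheaves of modules
-/

set_option autoImplicit false
universe u
open CategoryTheory CategoryTheory.Limits MonoidalCategory

namespace Groth.Agent.H5.TensorUnit

open Groth.Agent.H45

variable {C : Type u} [SmallCategory C] {J : GrothendieckTopology C} (O : Sheaf J CommRingCat.{u})

/-- `F ⊗ O ≅ F`, naturally in `F`. -/
noncomputable def tensorRightUnitIso :
    (ModSite.tensorBi O).flip.obj (ModSite.unit O) ≅ 𝟭 (ModSite.Mod O) :=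
  (Functor.isoWhiskerLeft (forg O)
    (Functor.isoWhiskerRight (rightUnitorNatIso (PMod O)) (shf O)) :
      forg O ⋙ tensorRight (𝟙_ (PMod O)) ⋙ shf O ≅ forg O ⋙ 𝟭 _ ⋙ shf O) ≪≫
    asIso (shfAdj O).counit

end Groth.Agent.H5.TensorUnit
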