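import Mathlib.CategoryTheory.Functor.Derived.LeftDerived
import Mathlib.CategoryTheory.Functor.Derived.RightDerived
import Mathlib.CategoryTheory.Localization.Opposite

/-!
# Left derived functors via right derived functors of the opposite functor
-/

set_option autoImplicit false
open CategoryTheory Opposite

namespace Groth.Agent.H5.LeftDeriv

variable {C D H : Type*} [Category C] [Category D] [Category H]
  (L : C ⥤ D) (W : MorphismProperty C) [L.IsLocalization W] (F : C ⥤ H)

/-- the opposite of a natural transformation `L ⋙ G ⟶ F` -/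
def opTrans (G : D ⥤ H) (β : L ⋙ G ⟶ F) : F.op ⟶ L.op ⋙ G.op := NatTrans.op β

@[simp]
lemma opTrans_app (G : D ⥤ H) (β : L ⋙ G ⟶ F) (X : Cᵒᵖ) :
    (opTrans L F G β).app X = (β.app X.unop).op := rfl

section

variable (RF : Dᵒᵖ ⥤ Hᵒᵖ) (α' : F.op ⟶ L.op ⋙ RF)

/-- the counit obtained from a unit of the opposite functors -/
def counitOfOp : L ⋙ RF.unop ⟶ F := NatTrans.unop α'

@[simp]
lemma counitOfOp_app (X : C) : (counitOfOp L F RF α').app X = (α'.app (op X)).unop := rfl

/-- unop of a natural transformation `RF ⟶ G.op` -/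
def unopTrans (G : D ⥤ H) (γ : RF ⟶ G.op) : G ⟶ RF.unop := NatTrans.unop γ

@[simp]
lemma unopTrans_app (G : D ⥤ H) (γ : RF ⟶ G.op) (Y : D) :
    (unopTrans RF G γ).app Y = (γ.app (op Y)).unop := rfl

/-- op of a natural transformation `G ⟶ RF.unop` -/
def opTrans' (G : D ⥤ H) (γ : G ⟶ RF.unop) : RF ⟶ G.op := NatTrans.op γ

@[simp]
lemma opTrans'_app (G : D ⥤ H) (γ : G ⟶ RF.unop) (Y : Dᵒᵖ) :
    (opTrans' RF G γ).app Y = (γ.app Y.unop).op := rfl

variable [RF.IsRightDerivedFunctor α' W.op]

lemma isLeftDerivedFunctor_unop :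
    RF.unop.IsLeftDerivedFunctor (counitOfOp L F RF α') W := by
  constructor
  constructor
  refine ⟨Limits.IsTerminal.ofUniqueHom
    (fun E => CostructuredArrow.homMk
      (unopTrans RF E.left (RF.rightDerivedDesc α' W.op E.left.op (opTrans L F E.left E.hom))) ?_) ?_⟩
  · ext X
    have := congr_app (RF.rightDerived_fac α' W.op E.left.op (opTrans L F E.left E.hom)) (op X)
    apply Quiver.Hom.op_inj
    exact this
  · intro E m
    ext Y
    have hm := m.w
    have h1 : opTrans' RF E.left m.left =
        RF.rightDerivedDesc α' W.op E.left.op (opTrans L F E.left E.hom) := by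
      apply RF.rightDerived_ext α' W.op
      rw [Functor.rightDerived_fac]
      ext X
      have := congr_app hm X.unop
      apply Quiver.Hom.unop_inj
      simp only [Functor.const_obj_obj, NatTrans.comp_app, Functor.whiskeringLeft_obj_map,
        Functor.whiskerLeft_app, Functor.fromPUnit] at this
      refine Eq.trans ?_ (this.trans ?_)
      · rfl
      · simp
    have := congr_app h1 (op Y)
    apply Quiver.Hom.op_inj
    exact this

end

/-- if the opposite functor has a right derived functor, then the functor has a left derived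
functor -/
lemma hasLeftDerivedFunctor_of_op [F.op.HasRightDerivedFunctor W.op] :
    F.HasLeftDerivedFunctor W := by
  have : W.Q.op.IsLocalization W.op := inferInstance
  have := isLeftDerivedFunctor_unop W.Q W F (F.op.totalRightDerived W.Q.op W.op)
    (F.op.totalRightDerivedUnit W.Q.op W.op)
  exact Functor.HasLeftDerivedFunctor.mk' (LF := (F.op.totalRightDerived W.Q.op W.op).unop)
    (α := counitOfOp W.Q F _ (F.op.totalRightDerivedUnit W.Q.op W.op))

/-- transfer of the isomorphism property of the counit -/
lemma isIso_counit_app_of_op [F.op.HasRightDerivedFunctor W.op] (X : C)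
    (hX : IsIso ((F.op.totalRightDerivedUnit L.op W.op).app (op X)))
    (LF : D ⥤ H) (α : L ⋙ LF ⟶ F) [LF.IsLeftDerivedFunctor α W] :
    IsIso (α.app X) := by
  let RF := F.op.totalRightDerived L.op W.op
  let α' := F.op.totalRightDerivedUnit L.op W.op
  have h₀ := isLeftDerivedFunctor_unop L W F RF α'
  let α₀ := counitOfOp L F RF α'
  let φ := RF.unop.leftDerivedLift α₀ W LF α
  have hφ : IsIso φ := by
    rw [← Functor.isLeftDerivedFunctor_iff_isIso_leftDerivedLift]
    infer_instance
  have h : φ.app (L.obj X) ≫ α₀.app X = α.app X :=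
    RF.unop.leftDerived_fac_app α₀ W LF α X
  rw [← h]
  have : IsIso (α₀.app X) := by
    dsimp [α₀]
    infer_instance
  infer_instance

end Groth.Agent.H5.LeftDeriv
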