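import Groth.Agent.H16.ExactDer
import Groth.Agent.H5.LpullTri

/-!
# Morphisms in the derived category which are isomorphisms on cohomology in degrees `> m` and
epimorphisms in degree `m`
-/

set_option autoImplicit false
universe u
open CategoryTheory CategoryTheory.Limits ZeroObject Pretriangulated

namespace Groth.Agent.H5.Approx

lemma epi_map_iff_of_natIso {C D : Type*} [Category C] [Category D] {F G : C ⥤ D} (e : F ≅ G)
    {X Y : C} (f : X ⟶ Y) : Epi (F.map f) ↔ Epi (G.map f) := by
  constructor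
  · intro h
    rw [← NatIso.naturality_1 e f]
    infer_instance
  · intro h
    rw [← NatIso.naturality_2 e f]
    infer_instance

variable {A : Type*} [Category A] [Abelian A] [HasDerivedCategory A]

open DerivedCategory

/-- `α` is an isomorphism on `H^i` for `i > m` and an epimorphism on `H^m` -/
def IsApprox (m : ℤ) {K L : DerivedCategory A} (α : K ⟶ L) : Prop :=
  (∀ i : ℤ, m < i → IsIso ((homologyFunctor A i).map α)) ∧ Epi ((homologyFunctor A m).map α)

variable {m : ℤ} {K L M : DerivedCategory A}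

lemma IsApprox.epi {α : K ⟶ L} (h : IsApprox m α) (i : ℤ) (hi : m ≤ i) :
    Epi ((homologyFunctor A i).map α) := by
  rcases hi.eq_or_lt with rfl | hi'
  · exact h.2
  · have := h.1 i hi'
    infer_instance

lemma IsApprox.of_le {α : K ⟶ L} (h : IsApprox m α) {m' : ℤ} (hm : m ≤ m') : IsApprox m' α :=
  ⟨fun i hi => h.1 i (by lia), h.epi m' hm⟩

lemma isApprox_of_isIso (m : ℤ) (α : K ⟶ L) [IsIso α] : IsApprox m α :=
  ⟨fun _ _ => inferInstance, inferInstance⟩

lemma IsApprox.comp {α : K ⟶ L} {β : L ⟶ M} (h₁ : IsApprox m α) (h₂ : IsApprox m β) :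
    IsApprox m (α ≫ β) := by
  refine ⟨fun i hi => ?_, ?_⟩
  · have := h₁.1 i hi
    have := h₂.1 i hi
    rw [Functor.map_comp]
    infer_instance
  · have := h₁.2
    have := h₂.2
    rw [Functor.map_comp]
    infer_instance

lemma IsApprox.comp_iso {α : K ⟶ L} (h : IsApprox m α) (β : L ⟶ M) [IsIso β] :
    IsApprox m (α ≫ β) := h.comp (isApprox_of_isIso m β)

lemma IsApprox.iso_comp (β : K ⟶ L) [IsIso β] {α : L ⟶ M} (h : IsApprox m α) :
    IsApprox m (β ≫ α) := (isApprox_of_isIso m β).comp h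

lemma IsApprox.of_iso_comp (β : K ⟶ L) [IsIso β] {α : L ⟶ M} (h : IsApprox m (β ≫ α)) :
    IsApprox m α := by
  have := h.iso_comp (inv β)
  simpa using this

lemma IsApprox.of_comp_iso {α : K ⟶ L} (β : L ⟶ M) [IsIso β] (h : IsApprox m (α ≫ β)) :
    IsApprox m α := by
  have := h.comp_iso (inv β)
  simpa using this

/-- exact functors preserve approximations -/
lemma IsApprox.map {B : Type*} [Category B] [Abelian B] [HasDerivedCategory B]
    (R : A ⥤ B) [R.Additive] [PreservesFiniteLimits R] [PreservesFiniteColimits R]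
    {α : K ⟶ L} (h : IsApprox m α) : IsApprox m (R.mapDerivedCategory.map α) := by
  refine ⟨fun i hi => ?_, ?_⟩
  · have := h.1 i hi
    exact Groth.Agent.H16.ExactDer.isIso_homology_map R α i
  · have := h.2
    exact Groth.Agent.H16.ExactDer.epi_homology_map R α m

/-- chain level criterion -/
lemma isApprox_Q_map_iff {E F : CochainComplex A ℤ} (f : E ⟶ F) :
    IsApprox m (Q.map f) ↔
      (∀ i : ℤ, m < i → IsIso (HomologicalComplex.homologyMap f i)) ∧
        Epi (HomologicalComplex.homologyMap f m) := by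
  have k₁ : ∀ j : ℤ, IsIso ((homologyFunctor A j).map (Q.map f)) ↔
      IsIso (HomologicalComplex.homologyMap f j) := fun j =>
    NatIso.isIso_map_iff (homologyFunctorFactors A j) f
  have k₂ : ∀ j : ℤ, Epi ((homologyFunctor A j).map (Q.map f)) ↔
      Epi (HomologicalComplex.homologyMap f j) := fun j =>
    epi_map_iff_of_natIso (homologyFunctorFactors A j) f
  exact ⟨fun h => ⟨fun i hi => (k₁ i).1 (h.1 i hi), (k₂ m).1 h.2⟩,
    fun h => ⟨fun i hi => (k₁ i).2 (h.1 i hi), (k₂ m).2 h.2⟩⟩

/-- shifting -/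
lemma IsApprox.shift {α : K ⟶ L} (h : IsApprox m α) (n : ℤ) (m' : ℤ) (hm' : n + m' = m) :
    IsApprox m' (α⟦n⟧') := by
  have k₁ : ∀ (a a' : ℤ) (ha : n + a = a'), IsIso ((homologyFunctor A a).map (α⟦n⟧')) ↔
      IsIso ((homologyFunctor A a').map α) := fun a a' ha =>
    NatIso.isIso_map_iff ((homologyFunctor A 0).shiftIso n a a' ha) α
  have k₂ : ∀ (a a' : ℤ) (ha : n + a = a'), Epi ((homologyFunctor A a).map (α⟦n⟧')) ↔
      Epi ((homologyFunctor A a').map α) := fun a a' ha =>
    epi_map_iff_of_natIso ((homologyFunctor A 0).shiftIso n a a' ha) α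
  exact ⟨fun i hi => (k₁ i (n + i) rfl).2 (h.1 (n + i) (by lia)), (k₂ m' m hm').2 h.2⟩

end Groth.Agent.H5.Approx
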