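import Groth.Agent.H5.Approx
import Mathlib.CategoryTheory.Abelian.DiagramLemmas.Four

/-!
# The five lemma for approximations along a morphism of distinguished triangles
-/

set_option autoImplicit false
universe u
open CategoryTheory CategoryTheory.Limits ZeroObject Pretriangulated

namespace Groth.Agent.H5.Approx

variable {A : Type*} [Category A] [Abelian A] [HasDerivedCategory A]

open DerivedCategory ComposableArrows

/-- the morphism between the homology sequences induced by a morphism of triangles -/
noncomputable def seqMap {T T' : Triangle (DerivedCategory A)} (φ : T ⟶ T') (n : ℤ) :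
    (homologyFunctor A 0).homologySequenceComposableArrows₅ T n (n + 1) rfl ⟶
      (homologyFunctor A 0).homologySequenceComposableArrows₅ T' n (n + 1) rfl :=
  homMk₅ ((homologyFunctor A n).map φ.hom₁) ((homologyFunctor A n).map φ.hom₂)
    ((homologyFunctor A n).map φ.hom₃) ((homologyFunctor A (n + 1)).map φ.hom₁)
    ((homologyFunctor A (n + 1)).map φ.hom₂) ((homologyFunctor A (n + 1)).map φ.hom₃)
    (by
      change (homologyFunctor A n).map T.mor₁ ≫ (homologyFunctor A n).map φ.hom₂ =
        (homologyFunctor A n).map φ.hom₁ ≫ (homologyFunctor A n).map T'.mor₁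
      rw [← Functor.map_comp, ← Functor.map_comp, φ.comm₁])
    (by
      change (homologyFunctor A n).map T.mor₂ ≫ (homologyFunctor A n).map φ.hom₃ =
        (homologyFunctor A n).map φ.hom₂ ≫ (homologyFunctor A n).map T'.mor₂
      rw [← Functor.map_comp, ← Functor.map_comp, φ.comm₂])
    (((homologyFunctor A 0).homologySequenceδ_naturality T T' φ n (n + 1) rfl).symm)
    (by
      change (homologyFunctor A (n + 1)).map T.mor₁ ≫ (homologyFunctor A (n + 1)).map φ.hom₂ =
        (homologyFunctor A (n + 1)).map φ.hom₁ ≫ (homologyFunctor A (n + 1)).map T'.mor₁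
      rw [← Functor.map_comp, ← Functor.map_comp, φ.comm₁])
    (by
      change (homologyFunctor A (n + 1)).map T.mor₂ ≫ (homologyFunctor A (n + 1)).map φ.hom₃ =
        (homologyFunctor A (n + 1)).map φ.hom₂ ≫ (homologyFunctor A (n + 1)).map T'.mor₂
      rw [← Functor.map_comp, ← Functor.map_comp, φ.comm₂])

theorem isApprox_hom₃ {T T' : Triangle (DerivedCategory A)} (hT : T ∈ distTriang _)
    (hT' : T' ∈ distTriang _) (φ : T ⟶ T') {m : ℤ} (h₁ : IsApprox (m + 1) φ.hom₁)
    (h₂ : IsApprox m φ.hom₂) : IsApprox m φ.hom₃ := by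
  have ex : ∀ n : ℤ, ((homologyFunctor A 0).homologySequenceComposableArrows₅ T n (n + 1)
      rfl).Exact := fun n => (homologyFunctor A 0).homologySequenceComposableArrows₅_exact T hT _ _ _
  have ex' : ∀ n : ℤ, ((homologyFunctor A 0).homologySequenceComposableArrows₅ T' n (n + 1)
      rfl).Exact := fun n =>
    (homologyFunctor A 0).homologySequenceComposableArrows₅_exact T' hT' _ _ _
  refine ⟨fun i hi => ?_, ?_⟩
  · have e0 : Epi ((homologyFunctor A i).map φ.hom₁) := h₁.epi i (by lia)
    have i1 : IsIso ((homologyFunctor A i).map φ.hom₂) := h₂.1 i hi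
    have i3 : IsIso ((homologyFunctor A (i + 1)).map φ.hom₁) := h₁.1 (i + 1) (by lia)
    have i4 : IsIso ((homologyFunctor A (i + 1)).map φ.hom₂) := h₂.1 (i + 1) (by lia)
    exact Abelian.isIso_of_epi_of_isIso_of_isIso_of_mono' (k := 0) (n := 5) (by lia) (ex i) (ex' i)
      (seqMap φ i) 0 1 2 3 4 rfl rfl rfl rfl rfl e0 i1 i3 (by
        change Mono ((homologyFunctor A (i + 1)).map φ.hom₂)
        infer_instance)
  · have e1 : Epi ((homologyFunctor A m).map φ.hom₂) := h₂.2
    have e3 : Epi ((homologyFunctor A (m + 1)).map φ.hom₁) := h₁.2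
    have i4 : IsIso ((homologyFunctor A (m + 1)).map φ.hom₂) := h₂.1 (m + 1) (by lia)
    exact Abelian.epi_of_epi_of_epi_of_mono'' (k := 1) (n := 5) (by lia) (ex m) (ex' m)
      (seqMap φ m) 1 2 3 4 rfl rfl rfl rfl e1 e3 (by
        change Mono ((homologyFunctor A (m + 1)).map φ.hom₂)
        infer_instance)

end Groth.Agent.H5.Approx
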