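import Groth.Agent.H5.BettiModel
import Groth.Agent.H5.PerfectFree

/-!
# Upper semicontinuity of the Betti numbers of a pseudo-coherent object
-/

set_option autoImplicit false
universe u
open CategoryTheory CategoryTheory.Limits AlgebraicGeometry TopologicalSpace Opposite

attribute [local instance] HasDerivedCategory.standard

namespace Groth.Agent.H5.BettiModel

open Groth.Agent.H5.OnePoint Groth.Agent.H5.FreeSections Groth.Agent.H5.EulerPerfect
  Groth.Agent.H5.FreeMatrix Groth.Agent.H5.RankOpen Groth.Agent.H5.PullbackUnit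

variable {X : Scheme.{u}}

section Formula

variable {V : X.Opens} (P₀ : CochainComplex (V : Scheme.{u}).Modules ℤ)
  (U : (V : Scheme.{u}).Opens) (n₀ : ℤ → ℕ)
  (e : ∀ j : ℤ, (P₀.X j).restrict U.ι ≅ FlatMod.freeMod (↑U) (n₀ j))

/-- the differentials of `P₀|_U` in terms of the trivialisations -/
noncomputable def φ (p q : ℤ) : FlatMod.freeMod (↑U) (n₀ p) ⟶ FlatMod.freeMod (↑U) (n₀ q) :=
  (e p).inv ≫ (Scheme.Modules.restrictFunctor U.ι).map (P₀.d p q) ≫ (e q).hom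

variable {S : Scheme.{u}} (k' : S ⟶ (U : Scheme.{u}))

/-- the trivialisations of the terms of the pullback of `P₀` -/
noncomputable def isoPull (j : ℤ) :
    (Scheme.Modules.pullback (k' ≫ U.ι)).obj (P₀.X j) ≅ FlatMod.freeMod S (n₀ j) :=
  ((Scheme.Modules.pullbackComp k' U.ι).app (P₀.X j)).symm ≪≫
    (Scheme.Modules.pullback k').mapIso
      ((Scheme.Modules.restrictFunctorIsoPullback U.ι).app (P₀.X j)).symm ≪≫
    (Scheme.Modules.pullback k').mapIso (e j) ≪≫ pullbackFreeIso k' (n₀ j)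

lemma isoPull_conj (p q : ℤ) :
    (isoPull P₀ U n₀ e k' p).inv ≫ (Scheme.Modules.pullback (k' ≫ U.ι)).map (P₀.d p q) ≫
      (isoPull P₀ U n₀ e k' q).hom =
    (pullbackFreeIso k' (n₀ p)).inv ≫ (Scheme.Modules.pullback k').map (φ P₀ U n₀ e p q) ≫
      (pullbackFreeIso k' (n₀ q)).hom := by
  have nat1 := (Scheme.Modules.pullbackComp k' U.ι).hom.naturality (P₀.d p q)
  have nat2 := (Scheme.Modules.restrictFunctorIsoPullback U.ι).hom.naturality (P₀.d p q)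
  simp only [Functor.comp_map] at nat1
  unfold isoPull φ
  simp only [Iso.trans_inv, Iso.trans_hom, Iso.symm_inv, Iso.symm_hom, Functor.mapIso_inv,
    Functor.mapIso_hom, Iso.app_hom, Iso.app_inv, Category.assoc, Functor.map_comp]
  rw [← reassoc_of% nat1, Iso.hom_inv_id_app_assoc]
  simp only [← Functor.map_comp_assoc]
  rw [← reassoc_of% nat2, Iso.hom_inv_id_app_assoc]

end Formula

section PointFormula

variable (y : X) [DCoh.HasLpull (X.fromSpecResidueField y)]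

/-- the Betti number at `y` in terms of the ranks of the matrices of the differentials -/
theorem betti_eq_rankAt (E : DCoh.D X) (M : CochainComplex X.Modules ℤ)
    (eM : DerivedCategory.Q.obj M ≅ E) (V : X.Opens)
    (P₀ : CochainComplex (V : Scheme.{u}).Modules ℤ) (hP₀ : DCoh.IsStrictlyPerfect P₀)
    (α : DerivedCategory.Q.obj P₀ ⟶ DerivedCategory.Q.obj ((DCoh.restrictCx V).obj M)) (m : ℤ)
    (hα : ∀ j : ℤ, m < j → IsIso ((DerivedCategory.homologyFunctor _ j).map α))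
    (hα' : Epi ((DerivedCategory.homologyFunctor _ m).map α)) (i : ℤ) (hi : m < i)
    (U : (V : Scheme.{u}).Opens) (n₀ : ℤ → ℕ)
    (e : ∀ j : ℤ, (P₀.X j).restrict U.ι ≅ FlatMod.freeMod (↑U) (n₀ j))
    (k' : Spec (X.residueField y) ⟶ (U : Scheme.{u}))
    (hk' : (k' ≫ U.ι) ≫ V.ι = X.fromSpecResidueField y) :
    (PerfD.betti E y i : ℤ) = n₀ i - rankAt (mat (φ P₀ U n₀ e (i - 1) i)) k' -
      rankAt (mat (φ P₀ U n₀ e i (i + 1))) k' := by
  obtain ⟨h⟩ := nonempty_HD_iso_of_factor (X.fromSpecResidueField y) V (k' ≫ U.ι) hk' E M eM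
    P₀ hP₀ α m hα hα' i hi
  have key := betti_formula y E _ i h n₀ (fun j => isoPull P₀ U n₀ e k' j)
  refine key.trans ?_
  have hr : ∀ p q : ℤ, Module.finrank (Coh.Γtop (Spec (X.residueField y)))
      (LinearMap.range ((evTop (Spec (X.residueField y))).map
        ((isoPull P₀ U n₀ e k' p).inv ≫
          (((Scheme.Modules.pullback (k' ≫ U.ι)).mapHomologicalComplex
            (ComplexShape.up ℤ)).obj P₀).d p q ≫ (isoPull P₀ U n₀ e k' q).hom)).hom) =
      rankAt (mat (φ P₀ U n₀ e p q)) k' := by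
    intro p q
    have h1 := isoPull_conj P₀ U n₀ e k' p q
    have h2 : (isoPull P₀ U n₀ e k' p).inv ≫
        (((Scheme.Modules.pullback (k' ≫ U.ι)).mapHomologicalComplex
          (ComplexShape.up ℤ)).obj P₀).d p q ≫ (isoPull P₀ U n₀ e k' q).hom =
        (pullbackFreeIso k' (n₀ p)).inv ≫ (Scheme.Modules.pullback k').map (φ P₀ U n₀ e p q) ≫
          (pullbackFreeIso k' (n₀ q)).hom := h1
    rw [h2, finrank_range_map, mat_pullback]
    rfl
  exact congrArg₂ (fun a b : ℕ => (n₀ i : ℤ) - a - b) (hr (i - 1) i) (hr i (i + 1))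

end PointFormula

/-- the Betti numbers of a pseudo-coherent object are upper semicontinuous -/
theorem isOpen_betti_lt (X : Scheme.{u}) [∀ x : X, DCoh.HasLpull (X.fromSpecResidueField x)]
    (E : DCoh.D X) (hE : ∀ m : ℤ, DCoh.IsPseudoCoherentD m E) (i : ℤ) (n : ℕ) :
    IsOpen {x : X | PerfD.betti E x i < n} := by
  rw [isOpen_iff_forall_mem_open]
  intro x₀ hx₀
  obtain ⟨M, ⟨eM⟩⟩ : ∃ M : CochainComplex X.Modules ℤ, Nonempty (DerivedCategory.Q.obj M ≅ E) :=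
    ⟨_, ⟨DerivedCategory.Q.objObjPreimageIso E⟩⟩
  obtain ⟨V, hxV, hV⟩ := hE (i - 1) x₀
  obtain ⟨P₀, α, hP₀, hα, hα'⟩ := hV M ⟨eM⟩
  obtain ⟨U, hxU, hU⟩ := PerfectFree.exists_open_free_terms P₀ hP₀ ⟨x₀, hxV⟩
  choose n₀ e₀ using hU
  let e : ∀ j : ℤ, (P₀.X j).restrict U.ι ≅ FlatMod.freeMod (↑U) (n₀ j) := fun j => (e₀ j).some
  -- the lifts of the points
  have hr : ∀ y : X, y ∈ Set.range (U.ι ≫ V.ι) →
      Set.range (X.fromSpecResidueField y) ⊆ Set.range (U.ι ≫ V.ι) := by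
    intro y hy
    rw [Scheme.range_fromSpecResidueField]
    rintro _ rfl
    exact hy
  have formula : ∀ (y : X) (hy : y ∈ Set.range (U.ι ≫ V.ι)),
      (PerfD.betti E y i : ℤ) = n₀ i -
        rankAt (mat (φ P₀ U n₀ e (i - 1) i))
          (IsOpenImmersion.lift (U.ι ≫ V.ι) (X.fromSpecResidueField y) (hr y hy)) -
        rankAt (mat (φ P₀ U n₀ e i (i + 1)))
          (IsOpenImmersion.lift (U.ι ≫ V.ι) (X.fromSpecResidueField y) (hr y hy)) := by
    intro y hy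
    refine betti_eq_rankAt y E M eM V P₀ hP₀ α (i - 1) hα hα' i (by omega) U n₀ e _ ?_
    rw [Category.assoc]
    exact IsOpenImmersion.lift_fac _ _ _
  have hx₀r : x₀ ∈ Set.range (U.ι ≫ V.ι) := ⟨⟨⟨x₀, hxV⟩, hxU⟩, rfl⟩
  obtain ⟨z₀, hz₀⟩ := exists_isFieldPoint x₀
  obtain ⟨N₁, hN₁, h1⟩ := exists_open_le_rankAt hz₀ (mat (φ P₀ U n₀ e (i - 1) i))
    (IsOpenImmersion.lift (U.ι ≫ V.ι) (X.fromSpecResidueField x₀) (hr x₀ hx₀r))
  obtain ⟨N₂, hN₂, h2⟩ := exists_open_le_rankAt hz₀ (mat (φ P₀ U n₀ e i (i + 1)))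
    (IsOpenImmersion.lift (U.ι ≫ V.ι) (X.fromSpecResidueField x₀) (hr x₀ hx₀r))
  -- the point of `U` over `y`
  have hpt : ∀ (y : X) (hy : y ∈ Set.range (U.ι ≫ V.ι)) (z : Spec (X.residueField y)),
      (U.ι ≫ V.ι) ((IsOpenImmersion.lift (U.ι ≫ V.ι) (X.fromSpecResidueField y) (hr y hy)) z) =
        y := by
    intro y hy z
    have h3 : (IsOpenImmersion.lift (U.ι ≫ V.ι) (X.fromSpecResidueField y) (hr y hy)) ≫
        (U.ι ≫ V.ι) = X.fromSpecResidueField y := IsOpenImmersion.lift_fac _ _ _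
    have h4 : (X.fromSpecResidueField y) z ∈ Set.range (X.fromSpecResidueField y) := ⟨z, rfl⟩
    rw [Scheme.range_fromSpecResidueField] at h4
    rw [← h3] at h4
    exact h4
  refine ⟨(U.ι ≫ V.ι) ''ᵁ (N₁ ⊓ N₂), ?_, ((U.ι ≫ V.ι) ''ᵁ (N₁ ⊓ N₂)).isOpen, ?_⟩
  · rintro y ⟨u, hu, rfl⟩
    have hy : (U.ι ≫ V.ι) u ∈ Set.range (U.ι ≫ V.ι) := ⟨u, rfl⟩
    obtain ⟨z, hz⟩ := exists_isFieldPoint ((U.ι ≫ V.ι) u)
    have hu' : (IsOpenImmersion.lift (U.ι ≫ V.ι) (X.fromSpecResidueField ((U.ι ≫ V.ι) u))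
        (hr _ hy)) z = u :=
      (U.ι ≫ V.ι).isOpenEmbedding.injective (hpt _ hy z)
    have r1 := h1 _ z hz (IsOpenImmersion.lift (U.ι ≫ V.ι)
      (X.fromSpecResidueField ((U.ι ≫ V.ι) u)) (hr _ hy)) (by rw [hu']; exact hu.1)
    have r2 := h2 _ z hz (IsOpenImmersion.lift (U.ι ≫ V.ι)
      (X.fromSpecResidueField ((U.ι ≫ V.ι) u)) (hr _ hy)) (by rw [hu']; exact hu.2)
    have f1 := formula _ hy
    have f2 := formula x₀ hx₀r
    have hx₀' : PerfD.betti E x₀ i < n := hx₀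
    change PerfD.betti E ((U.ι ≫ V.ι) u) i < n
    omega
  · refine ⟨(IsOpenImmersion.lift (U.ι ≫ V.ι) (X.fromSpecResidueField x₀) (hr x₀ hx₀r)) z₀,
      ⟨hN₁, hN₂⟩, hpt x₀ hx₀r z₀⟩

end Groth.Agent.H5.BettiModel
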