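import Groth.Agent.H5.BettiUSC

/-!
# Upper semicontinuity of the `i`-th Betti number of an `(i-1)`-pseudo-coherent object
(same proof as `BettiModel.isOpen_betti_lt`, which only uses `(i-1)`-pseudo-coherence)
-/

set_option autoImplicit false
universe u
open CategoryTheory CategoryTheory.Limits AlgebraicGeometry TopologicalSpace Opposite

attribute [local instance] HasDerivedCategory.standard

namespace Groth.Agent.H5.BettiUSC2

open Groth.Agent.H5.OnePoint Groth.Agent.H5.FreeSections Groth.Agent.H5.EulerPerfect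
  Groth.Agent.H5.FreeMatrix Groth.Agent.H5.RankOpen Groth.Agent.H5.PullbackUnit
  Groth.Agent.H5.BettiModel

variable {X : Scheme.{u}}

theorem isOpen_betti_lt' (X : Scheme.{u}) [∀ x : X, DCoh.HasLpull (X.fromSpecResidueField x)]
    (E : DCoh.D X) (i : ℤ) (hE : DCoh.IsPseudoCoherentD (i - 1) E) (n : ℕ) :
    IsOpen {x : X | PerfD.betti E x i < n} := by
  rw [isOpen_iff_forall_mem_open]
  intro x₀ hx₀
  obtain ⟨M, ⟨eM⟩⟩ : ∃ M : CochainComplex X.Modules ℤ, Nonempty (DerivedCategory.Q.obj M ≅ E) :=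
    ⟨_, ⟨DerivedCategory.Q.objObjPreimageIso E⟩⟩
  obtain ⟨V, hxV, hV⟩ := hE x₀
  obtain ⟨P₀, α, hP₀, hα, hα'⟩ := hV M ⟨eM⟩
  obtain ⟨U, hxU, hU⟩ := PerfectFree.exists_open_free_terms P₀ hP₀ ⟨x₀, hxV⟩
  choose n₀ e₀ using hU
  let e : ∀ j : ℤ, (P₀.X j).restrict U.ι ≅ FlatMod.freeMod (↑U) (n₀ j) := fun j => (e₀ j).some
  -- the lifts of the points
  have hr : ∀ y : X, y ∈ Set.range (U.ι ≫ V.ι) →
      Set.range (X.fromSpecResidueField y) ⊆ Set.range (U.ι ≫ V.ι) := by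
    intro y hy
    rw [Scheme.range_fromSpecResidueField]
    rintro _ rfl
    exact hy
  have formula : ∀ (y : X) (hy : y ∈ Set.range (U.ι ≫ V.ι)),
      (PerfD.betti E y i : ℤ) = n₀ i -
        rankAt (mat (φ P₀ U n₀ e (i - 1) i))
          (IsOpenImmersion.lift (U.ι ≫ V.ι) (X.fromSpecResidueField y) (hr y hy)) -
        rankAt (mat (φ P₀ U n₀ e i (i + 1)))
          (IsOpenImmersion.lift (U.ι ≫ V.ι) (X.fromSpecResidueField y) (hr y hy)) := by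
    intro y hy
    refine betti_eq_rankAt y E M eM V P₀ hP₀ α (i - 1) hα hα' i (by omega) U n₀ e _ ?_
    rw [Category.assoc]
    exact IsOpenImmersion.lift_fac _ _ _
  have hx₀r : x₀ ∈ Set.range (U.ι ≫ V.ι) := ⟨⟨⟨x₀, hxV⟩, hxU⟩, rfl⟩
  obtain ⟨z₀, hz₀⟩ := exists_isFieldPoint x₀
  obtain ⟨N₁, hN₁, h1⟩ := exists_open_le_rankAt hz₀ (mat (φ P₀ U n₀ e (i - 1) i))
    (IsOpenImmersion.lift (U.ι ≫ V.ι) (X.fromSpecResidueField x₀) (hr x₀ hx₀r))
  obtain ⟨N₂, hN₂, h2⟩ := exists_open_le_rankAt hz₀ (mat (φ P₀ U n₀ e i (i + 1)))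
    (IsOpenImmersion.lift (U.ι ≫ V.ι) (X.fromSpecResidueField x₀) (hr x₀ hx₀r))
  -- the point of `U` over `y`
  have hpt : ∀ (y : X) (hy : y ∈ Set.range (U.ι ≫ V.ι)) (z : Spec (X.residueField y)),
      (U.ι ≫ V.ι) ((IsOpenImmersion.lift (U.ι ≫ V.ι) (X.fromSpecResidueField y) (hr y hy)) z) =
        y := by
    intro y hy z
    have h3 : (IsOpenImmersion.lift (U.ι ≫ V.ι) (X.fromSpecResidueField y) (hr y hy)) ≫
        (U.ι ≫ V.ι) = X.fromSpecResidueField y := IsOpenImmersion.lift_fac _ _ _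
    have h4 : (X.fromSpecResidueField y) z ∈ Set.range (X.fromSpecResidueField y) := ⟨z, rfl⟩
    rw [Scheme.range_fromSpecResidueField] at h4
    rw [← h3] at h4
    exact h4
  refine ⟨(U.ι ≫ V.ι) ''ᵁ (N₁ ⊓ N₂), ?_, ((U.ι ≫ V.ι) ''ᵁ (N₁ ⊓ N₂)).isOpen, ?_⟩
  · rintro y ⟨u, hu, rfl⟩
    have hy : (U.ι ≫ V.ι) u ∈ Set.range (U.ι ≫ V.ι) := ⟨u, rfl⟩
    obtain ⟨z, hz⟩ := exists_isFieldPoint ((U.ι ≫ V.ι) u)
    have hu' : (IsOpenImmersion.lift (U.ι ≫ V.ι) (X.fromSpecResidueField ((U.ι ≫ V.ι) u))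
        (hr _ hy)) z = u :=
      (U.ι ≫ V.ι).isOpenEmbedding.injective (hpt _ hy z)
    have r1 := h1 _ z hz (IsOpenImmersion.lift (U.ι ≫ V.ι)
      (X.fromSpecResidueField ((U.ι ≫ V.ι) u)) (hr _ hy)) (by rw [hu']; exact hu.1)
    have r2 := h2 _ z hz (IsOpenImmersion.lift (U.ι ≫ V.ι)
      (X.fromSpecResidueField ((U.ι ≫ V.ι) u)) (hr _ hy)) (by rw [hu']; exact hu.2)
    have f1 := formula _ hy
    have f2 := formula x₀ hx₀r
    have hx₀' : PerfD.betti E x₀ i < n := hx₀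
    change PerfD.betti E ((U.ι ≫ V.ι) u) i < n
    omega
  · refine ⟨(IsOpenImmersion.lift (U.ι ≫ V.ι) (X.fromSpecResidueField x₀) (hr x₀ hx₀r)) z₀,
      ⟨hN₁, hN₂⟩, hpt x₀ hx₀r z₀⟩

end Groth.Agent.H5.BettiUSC2
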