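import Mathlib.CategoryTheory.Triangulated.Opposite.Pretriangulated
import Mathlib.CategoryTheory.Triangulated.HomologicalFunctor
import Mathlib.CategoryTheory.Triangulated.Triangulated
import Mathlib.CategoryTheory.Limits.Shapes.Opposites.Products
import Mathlib.CategoryTheory.Limits.ConcreteCategory.Basic
import Mathlib.Algebra.Category.Grp.Basic
import Mathlib.Algebra.Category.Grp.Abelian
import Mathlib.Algebra.Category.Grp.Limits
import Mathlib.Algebra.Homology.ShortComplex.Ab

set_option autoImplicit false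

universe w v u

open CategoryTheory CategoryTheory.Limits Opposite

namespace Groth.Agent.H5.Brown

section Basic

variable {D : Type u} [Category.{v} D] (H : Dᵒᵖ ⥤ AddCommGrpCat.{v})

/-- pull back an element of `H` along a morphism -/
abbrev pull {X Y : D} (f : X ⟶ Y) (y : H.obj (op Y)) : H.obj (op X) := H.map f.op y

lemma pull_id {X : D} (x : H.obj (op X)) : pull H (𝟙 X) x = x := by
  simp [pull]

lemma pull_comp {X Y Z : D} (f : X ⟶ Y) (g : Y ⟶ Z) (z : H.obj (op Z)) :
    pull H (f ≫ g) z = pull H f (pull H g z) := by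
  simp [pull]

variable {κ : Type w} [PreservesLimitsOfShape (Discrete κ) H]

lemma sigma_ext [HasCoproductsOfShape κ D] (X : κ → D) (x y : H.obj (op (∐ X)))
    (h : ∀ a, pull H (Sigma.ι X a) x = pull H (Sigma.ι X a) y) : x = y := by
  have hc : IsColimit (Cofan.mk (∐ X) (Sigma.ι X)) := coproductIsCoproduct X
  have hl := isLimitOfPreserves H (Cofan.IsColimit.op hc)
  refine Concrete.isLimit_ext _ hl x y ?_
  rintro ⟨a⟩
  exact h a

lemma sigma_exists [HasCoproductsOfShape κ D] (X : κ → D) (x : ∀ a, H.obj (op (X a))) :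
    ∃ y : H.obj (op (∐ X)), ∀ a, pull H (Sigma.ι X a) y = x a := by
  have hc : IsColimit (Cofan.mk (∐ X) (Sigma.ι X)) := coproductIsCoproduct X
  have hl := isLimitOfPreserves H (Cofan.IsColimit.op hc)
  have hl' := isLimitOfPreserves (forget AddCommGrpCat) hl
  let s : ((Discrete.functor fun a => op (X a)) ⋙ H ⋙ forget AddCommGrpCat).sections :=
    ⟨fun a => x a.as, by
      rintro ⟨a⟩ ⟨b⟩ ⟨⟨h⟩⟩
      cases h
      simp⟩
  refine ⟨(Types.isLimitEquivSections hl').symm s, fun a => ?_⟩
  exact Types.isLimitEquivSections_symm_apply hl' s ⟨a⟩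

end Basic

section Exact

open Pretriangulated Pretriangulated.Opposite

variable {D : Type u} [Category.{v} D] [Preadditive D] [HasZeroObject D] [HasShift D ℤ]
  [∀ n : ℤ, (shiftFunctor D n).Additive] [Pretriangulated D]
  (H : Dᵒᵖ ⥤ AddCommGrpCat.{v}) [H.IsHomological]

lemma exact_of_dist (T : Triangle D) (hT : T ∈ distTriang D) (y : H.obj (op T.obj₂))
    (hy : pull H T.mor₁ y = 0) : ∃ z : H.obj (op T.obj₃), pull H T.mor₂ z = y := by
  have h := H.map_distinguished_op_exact T hT
  rw [ShortComplex.ab_exact_iff] at h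
  exact h y hy

lemma pull_zero {X Y : D} (y : H.obj (op Y)) : pull H (0 : X ⟶ Y) y = 0 := by
  simp [pull]

lemma pull_sub {X Y : D} (f g : X ⟶ Y) (y : H.obj (op Y)) :
    pull H (f - g) y = pull H f y - pull H g y := by
  simp [pull, Functor.map_sub]

lemma pull_add {X Y : D} (f g : X ⟶ Y) (y : H.obj (op Y)) :
    pull H (f + g) y = pull H f y + pull H g y := by
  simp [pull, Functor.map_add]

end Exact

end Groth.Agent.H5.Brown
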