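import Groth.Agent.H5.BrownTower

set_option autoImplicit false
set_option linter.unusedSectionVars false

universe v u

open CategoryTheory CategoryTheory.Limits Opposite Pretriangulated Pretriangulated.Opposite

namespace Groth.Agent.H5.Brown

variable {D : Type u} [Category.{v} D] [Preadditive D] [HasZeroObject D] [HasShift D ℤ]
  [∀ n : ℤ, (shiftFunctor D n).Additive] [Pretriangulated D]
  [HasCoproductsOfShape ℕ D] [HasCoproducts.{v} D]
  {ι : Type v} (E : ι → D) (H : Dᵒᵖ ⥤ AddCommGrpCat.{v})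
  [H.IsHomological] [PreservesLimitsOfShape (Discrete ℕ) H]
  [∀ κ : Type v, PreservesLimitsOfShape (Discrete κ) H]

structure Stage where
  X : D
  ξ : H.obj (op X)

variable {H} in
structure Next (P : Stage H) where
  Q : Stage H
  Kι : Type v
  Ka : Kι → ι
  κ : (∐ fun k => E (Ka k)) ⟶ P.X
  t : P.X ⟶ Q.X
  δ : Q.X ⟶ (∐ fun k => E (Ka k))⟦(1 : ℤ)⟧
  dist : Triangle.mk κ t δ ∈ distTriang D
  hξ : pull H t Q.ξ = P.ξ
  factor : ∀ i (f : E i ⟶ P.X), pull H f P.ξ = 0 →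
    ∃ c : E i ⟶ (∐ fun k => E (Ka k)), c ≫ κ = f

lemma nonempty_next (P : Stage H) : Nonempty (Next E P) := by
  let Kι : Type v := {p : Σ i, (E i ⟶ P.X) // pull H p.2 P.ξ = 0}
  let Ka : Kι → ι := fun p => p.1.1
  let κ : (∐ fun k => E (Ka k)) ⟶ P.X := Sigma.desc (fun p : Kι => p.1.2)
  have hκ : pull H κ P.ξ = 0 := by
    apply sigma_ext H (fun k => E (Ka k))
    intro p
    rw [← pull_comp]
    simp only [κ, colimit.ι_desc, Cofan.mk_ι_app]
    rw [p.2]
    simp [pull]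
  obtain ⟨Z, t, δ, hd⟩ := Pretriangulated.distinguished_cocone_triangle κ
  obtain ⟨ξ', hξ'⟩ := exact_of_dist H _ hd P.ξ hκ
  exact ⟨{ Q := ⟨Z, ξ'⟩, Kι := Kι, Ka := Ka, κ := κ, t := t, δ := δ, dist := hd, hξ := hξ',
           factor := fun i f hf => ⟨Sigma.ι (fun k : Kι => E (Ka k)) ⟨⟨i, f⟩, hf⟩, by simp [κ]⟩ }⟩

variable {H} in
noncomputable def next (P : Stage H) : Next E P := Classical.choice (nonempty_next E H P)

variable {H} in
noncomputable def stage (P₀ : Stage H) : ℕ → Stage H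
  | 0 => P₀
  | n + 1 => (next E (stage P₀ n)).Q

variable {H} in
noncomputable def towerOf (P₀ : Stage H)
    (hsur : ∀ i (a : H.obj (op (E i))), ∃ f : E i ⟶ P₀.X, pull H f P₀.ξ = a) : Tower E H where
  X n := (stage E P₀ n).X
  t n := (next E (stage E P₀ n)).t
  ξ n := (stage E P₀ n).ξ
  hξ n := (next E (stage E P₀ n)).hξ
  Kι n := (next E (stage E P₀ n)).Kι
  Ka n := (next E (stage E P₀ n)).Ka
  κ n := (next E (stage E P₀ n)).κ
  δ n := (next E (stage E P₀ n)).δ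
  dist n := (next E (stage E P₀ n)).dist
  factor n := (next E (stage E P₀ n)).factor
  sur := hsur

section Base

variable {J : Type v} (Y : J → D) (η : ∀ a, H.obj (op (Y a)))

/-- the family defining the base object -/
def baseFam : (J ⊕ Σ i, H.obj (op (E i))) → D := Sum.elim Y (fun p => E p.1)

variable {Y} in
def baseElt : ∀ a, H.obj (op (baseFam E H Y a))
  | Sum.inl a => η a
  | Sum.inr p => p.2

lemma exists_base : ∃ ξ₀ : H.obj (op (∐ baseFam E H Y)),
    ∀ a, pull H (Sigma.ι (baseFam E H Y) a) ξ₀ = baseElt E H η a :=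
  sigma_exists H (baseFam E H Y) (baseElt E H η)

variable {Y} in
noncomputable def baseStage : Stage H := ⟨∐ baseFam E H Y, (exists_base E H Y η).choose⟩

lemma baseStage_sur (i : ι) (a : H.obj (op (E i))) :
    ∃ f : E i ⟶ (baseStage E H η).X, pull H f (baseStage E H η).ξ = a :=
  ⟨Sigma.ι (baseFam E H Y) (Sum.inr ⟨i, a⟩),
    (exists_base E H Y η).choose_spec (Sum.inr ⟨i, a⟩)⟩

/-- the main construction -/
theorem exists_ebij (h2 : Factors E) (h3 : Desusp E) :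
    ∃ (L : D) (ξL : H.obj (op L)) (m : ∀ a, Y a ⟶ L),
      (∀ a, pull H (m a) ξL = η a) ∧ EBij E H L ξL := by
  let T : Tower E H := towerOf E (baseStage E H η) (baseStage_sur E H Y η)
  obtain ⟨L, q, d, hd⟩ := Pretriangulated.distinguished_cocone_triangle (𝟙 _ - T.s)
  have h0 : pull H (𝟙 _ - T.s) T.ξs = 0 := by
    apply sigma_ext H T.X
    intro n
    rw [← pull_comp, Preadditive.comp_sub, Category.comp_id, T.ι_s, pull_sub, pull_comp,
      T.pull_ι_ξs, T.pull_ι_ξs, T.hξ, sub_self]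
    simp [pull]
  obtain ⟨ξL, hξL⟩ : ∃ ξL : H.obj (op L), pull H q ξL = T.ξs :=
    exact_of_dist H _ hd T.ξs h0
  have key : pull H (Sigma.ι T.X 0 ≫ q) ξL = T.ξ 0 := by
    rw [pull_comp, hξL, T.pull_ι_ξs]
  refine ⟨L, ξL, fun a => (show Y a ⟶ T.X 0 from Sigma.ι (baseFam E H Y) (Sum.inl a)) ≫
    (Sigma.ι T.X 0 ≫ q), ?_, T.ebij_of_hocolim h2 h3 q d hd ξL hξL⟩
  intro a
  rw [pull_comp, key]
  exact (exists_base E H Y η).choose_spec (Sum.inl a)

include η in
/-- the main construction, exposing the tower -/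
theorem exists_tower_hocolim (h2 : Factors E) (h3 : Desusp E) :
    ∃ (T : Tower E H) (_ : T.X 0 = ∐ baseFam E H Y) (L : D) (q : (∐ T.X) ⟶ L)
      (d : L ⟶ (∐ T.X)⟦(1 : ℤ)⟧) (ξL : H.obj (op L)),
      Triangle.mk (𝟙 _ - T.s) q d ∈ distTriang D ∧ pull H q ξL = T.ξs ∧ EBij E H L ξL := by
  let T : Tower E H := towerOf E (baseStage E H η) (baseStage_sur E H Y η)
  obtain ⟨L, q, d, hd⟩ := Pretriangulated.distinguished_cocone_triangle (𝟙 _ - T.s)
  have h0 : pull H (𝟙 _ - T.s) T.ξs = 0 := by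
    apply sigma_ext H T.X
    intro n
    rw [← pull_comp, Preadditive.comp_sub, Category.comp_id, T.ι_s, pull_sub, pull_comp,
      T.pull_ι_ξs, T.pull_ι_ξs, T.hξ, sub_self]
    simp [pull]
  obtain ⟨ξL, hξL⟩ : ∃ ξL : H.obj (op L), pull H q ξL = T.ξs :=
    exact_of_dist H _ hd T.ξs h0
  exact ⟨T, rfl, L, q, d, ξL, hd, hξL, T.ebij_of_hocolim h2 h3 q d hd ξL hξL⟩

end Base

variable {E H} in
lemma isIso_of_ebij (h1 : ∀ X : D, ¬ IsZero X → ∃ (i : ι) (f : E i ⟶ X), f ≠ 0)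
    (h3 : Desusp E) {L L' : D} {ξL : H.obj (op L)} {ξL' : H.obj (op L')}
    (hL : EBij E H L ξL) (hL' : EBij E H L' ξL') (l : L ⟶ L') (hl : pull H l ξL' = ξL) :
    IsIso l := by
  obtain ⟨C, a, b, hT⟩ := Pretriangulated.distinguished_cocone_triangle l
  refine (Triangle.isZero₃_iff_isIso₁ _ hT).mp ?_
  change IsZero C
  by_contra hC
  obtain ⟨i, g, hg⟩ := h1 C hC
  apply hg
  have hgb : g ≫ b = 0 := by
    obtain ⟨i', ⟨e⟩⟩ := h3 i
    obtain ⟨ε, hε⟩ := (shiftFunctor D (1 : ℤ)).map_surjective (e.hom ≫ g ≫ b)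
    have hεl : ε ≫ l = 0 := by
      apply (shiftFunctor D (1 : ℤ)).map_injective
      have h31 : b ≫ l⟦(1 : ℤ)⟧' = 0 := comp_distTriang_mor_zero₃₁ _ hT
      rw [Functor.map_comp, hε, Functor.map_zero, Category.assoc, Category.assoc, h31,
        comp_zero, comp_zero]
    have hε0 : ε = 0 := by
      apply (hL i').1
      change pull H ε ξL = pull H 0 ξL
      rw [← hl, ← pull_comp, hεl, ← pull_comp, zero_comp]
    rw [hε0, Functor.map_zero] at hε
    have h0 : e.hom ≫ g ≫ b = e.hom ≫ 0 := by rw [← hε, comp_zero]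
    exact (cancel_epi e.hom).mp h0
  obtain ⟨g1, hg1⟩ : ∃ g1 : E i ⟶ L', g = g1 ≫ a := Triangle.coyoneda_exact₃ _ hT g hgb
  obtain ⟨g2, hg2⟩ := (hL i).2 (pull H g1 ξL')
  have hg3 : g2 ≫ l = g1 := by
    apply (hL' i).1
    change pull H (g2 ≫ l) ξL' = pull H g1 ξL'
    rw [pull_comp, hl]
    exact hg2
  have hla : l ≫ a = 0 := comp_distTriang_mor_zero₁₂ _ hT
  rw [hg1, ← hg3, Category.assoc, hla, comp_zero]

/-- Brown representability for a family closed under desuspension -/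
theorem exists_representing (h1 : ∀ X : D, ¬ IsZero X → ∃ (i : ι) (f : E i ⟶ X), f ≠ 0)
    (h2 : Factors E) (h3 : Desusp E) :
    ∃ (L : D) (ξL : H.obj (op L)), ∀ Y : D, Function.Bijective (fun f : Y ⟶ L => pull H f ξL) := by
  obtain ⟨L, ξL, -, -, hL⟩ := exists_ebij E H (fun a : PEmpty.{v + 1} => a.elim)
    (fun a => a.elim) h2 h3
  refine ⟨L, ξL, fun Y => ⟨?_, ?_⟩⟩
  · intro f f' hff'
    rw [← sub_eq_zero]
    obtain ⟨g, hg⟩ : ∃ g, g = f - f' := ⟨_, rfl⟩
    rw [← hg]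
    have hg0 : pull H g ξL = 0 := by
      rw [hg, pull_sub]
      exact sub_eq_zero.mpr hff'
    obtain ⟨C, h, k, hT⟩ := Pretriangulated.distinguished_cocone_triangle g
    obtain ⟨ζ, hζ⟩ : ∃ ζ : H.obj (op C), pull H h ζ = ξL := exact_of_dist H _ hT ξL hg0
    obtain ⟨L', ξL', m, hm, hL'⟩ := exists_ebij E H (fun _ : PUnit.{v + 1} => C)
      (fun _ => ζ) h2 h3
    have hl : pull H (h ≫ m PUnit.unit) ξL' = ξL := by
      rw [pull_comp, hm]
      exact hζ
    have := isIso_of_ebij h1 h3 hL hL' _ hl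
    have hgh : g ≫ h = 0 := comp_distTriang_mor_zero₁₂ _ hT
    rw [← cancel_mono (h ≫ m PUnit.unit), zero_comp, reassoc_of% hgh, zero_comp]
  · intro η
    let Y2 : PUnit.{v + 1} ⊕ PUnit.{v + 1} → D := Sum.elim (fun _ => L) (fun _ => Y)
    let η2 : ∀ a, H.obj (op (Y2 a)) := fun a =>
      match a with
      | Sum.inl _ => ξL
      | Sum.inr _ => η
    obtain ⟨L', ξL', m, hm, hL'⟩ := exists_ebij E H Y2 η2 h2 h3
    obtain ⟨lam, hlam⟩ : ∃ lam : L ⟶ L', lam = m (Sum.inl PUnit.unit) := ⟨_, rfl⟩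
    obtain ⟨mu, hmu⟩ : ∃ mu : Y ⟶ L', mu = m (Sum.inr PUnit.unit) := ⟨_, rfl⟩
    have hl : pull H lam ξL' = ξL := by rw [hlam]; exact hm (Sum.inl PUnit.unit)
    have hμ : pull H mu ξL' = η := by rw [hmu]; exact hm (Sum.inr PUnit.unit)
    have := isIso_of_ebij h1 h3 hL hL' lam hl
    refine ⟨mu ≫ inv lam, ?_⟩
    change pull H (mu ≫ inv lam) ξL = η
    rw [pull_comp]
    have : pull H (inv lam) ξL = ξL' := by
      rw [← hl, ← pull_comp, IsIso.inv_hom_id, pull_id]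
    rw [this, hμ]

end Groth.Agent.H5.Brown
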