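import Groth.Agent.H5.BrownRep
import Mathlib.CategoryTheory.Limits.Preserves.Shapes.Products
import Mathlib.CategoryTheory.Adjunction.Limits

set_option autoImplicit false
set_option linter.unusedSectionVars false

universe v u

open CategoryTheory CategoryTheory.Limits Opposite Pretriangulated Pretriangulated.Opposite

namespace Groth.Agent.H5.Brown

variable {D : Type u} [Category.{v} D] [Preadditive D] [HasZeroObject D] [HasShift D ℤ]
  [∀ n : ℤ, (shiftFunctor D n).Additive] [Pretriangulated D]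
  [HasCoproductsOfShape ℕ D] [HasCoproducts.{v} D]
  {ι : Type v} (E : ι → D)

/-- the family of all shifts -/
def shiftFam : ι × ℤ → D := fun p => (E p.1)⟦p.2⟧

lemma shiftFam_detect (h1 : ∀ X : D, ¬ IsZero X → ∃ (i : ι) (f : E i ⟶ X), f ≠ 0) :
    ∀ X : D, ¬ IsZero X → ∃ (p : ι × ℤ) (f : shiftFam E p ⟶ X), f ≠ 0 := by
  intro X hX
  obtain ⟨i, f, hf⟩ := h1 X hX
  refine ⟨(i, 0), (shiftFunctorZero D ℤ).hom.app (E i) ≫ f, ?_⟩
  intro h
  apply hf
  have h0 : (shiftFunctorZero D ℤ).hom.app (E i) ≫ f = (shiftFunctorZero D ℤ).hom.app (E i) ≫ 0 :=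
    h.trans comp_zero.symm
  exact (cancel_epi _).mp h0

lemma shiftFam_desusp : Desusp (shiftFam E) := by
  rintro ⟨i, m⟩
  exact ⟨(i, m - 1), ⟨((shiftFunctorAdd' D (m - 1) 1 m (by omega)).app (E i)).symm⟩⟩

lemma shift_factor (h2 : Factors E) (X : ℕ → D) (i : ι) (m : ℤ) (α : (E i)⟦m⟧ ⟶ ∐ X) :
    ∃ (j : ℕ → ι) (β : ∀ n, (E (j n))⟦m⟧ ⟶ X n) (γ : (E i)⟦m⟧ ⟶ ∐ (fun n => (E (j n))⟦m⟧)),
      α = γ ≫ Limits.Sigma.map β := by
  let adj : shiftFunctor D m ⊣ shiftFunctor D (-m) := (shiftEquiv D m).toAdjunction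
  let c := PreservesCoproduct.iso (shiftFunctor D (-m)) X
  obtain ⟨j, β, γ, h⟩ := h2 (fun n => (X n)⟦-m⟧) i (adj.homEquiv _ _ α ≫ c.hom)
  let cE := PreservesCoproduct.iso (shiftFunctor D m) (fun n => E (j n))
  refine ⟨j, fun n => (adj.homEquiv _ _).symm (β n), γ⟦m⟧' ≫ cE.hom, ?_⟩
  apply (adj.homEquiv _ _).injective
  have h' : adj.homEquiv _ _ α = γ ≫ Limits.Sigma.map β ≫ c.inv := by
    rw [← Category.assoc, ← h, Category.assoc, c.hom_inv_id, Category.comp_id]
  rw [h', Category.assoc, adj.homEquiv_naturality_left]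
  congr 1
  apply Sigma.hom_ext
  intro n
  rw [Sigma.ι_map_assoc, PreservesCoproduct.inv_hom, ι_comp_sigmaComparison,
    ← adj.homEquiv_naturality_left]
  have e1 : (shiftFunctor D m).map (Sigma.ι (fun n => E (j n)) n) ≫ cE.hom =
      Sigma.ι (fun n => (shiftFunctor D m).obj (E (j n))) n := by
    rw [← ι_comp_sigmaComparison, ← PreservesCoproduct.inv_hom, Category.assoc, cE.inv_hom_id,
      Category.comp_id]
  rw [reassoc_of% e1, Sigma.ι_map, adj.homEquiv_naturality_right, Equiv.apply_symm_apply]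

lemma shiftFam_factors (h2 : Factors E) : Factors (shiftFam E) := by
  rintro X ⟨i, m⟩ α
  obtain ⟨j, β, γ, h⟩ := shift_factor E h2 X i m α
  exact ⟨fun n => (j n, m), β, γ, h⟩

end Groth.Agent.H5.Brown
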