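import Groth.Agent.H5.BrownBasic

set_option autoImplicit false
set_option linter.unusedSectionVars false

universe v u

open CategoryTheory CategoryTheory.Limits Opposite Pretriangulated Pretriangulated.Opposite

namespace Groth.Agent.H5.Brown

section NatPower

variable {D : Type u} [Category.{v} D] [Preadditive D] [HasCoproductsOfShape ℕ D] (Y : D)

/-- countable copower -/
noncomputable abbrev npow : D := ∐ (fun _ : ℕ => Y)

noncomputable def nι (n : ℕ) : Y ⟶ npow Y := Sigma.ι (fun _ : ℕ => Y) n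

noncomputable def nshift : npow Y ⟶ npow Y := Sigma.desc (fun n => nι Y (n + 1))

noncomputable def nfold : npow Y ⟶ Y := Sigma.desc (fun _ => 𝟙 Y)

noncomputable def nrho : npow Y ⟶ npow Y :=
  Sigma.desc (fun n => - ∑ m ∈ Finset.range n, nι Y m)

@[reassoc (attr := simp)]
lemma nι_nshift (n : ℕ) : nι Y n ≫ nshift Y = nι Y (n + 1) := by
  simp [nι, nshift]

@[reassoc (attr := simp)]
lemma nι_nfold (n : ℕ) : nι Y n ≫ nfold Y = 𝟙 Y := by
  simp [nι, nfold]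

@[reassoc (attr := simp)]
lemma nι_nrho (n : ℕ) : nι Y n ≫ nrho Y = - ∑ m ∈ Finset.range n, nι Y m := by
  simp [nι, nrho]

lemma npow_hom_ext {Z : D} (f g : npow Y ⟶ Z) (h : ∀ n, nι Y n ≫ f = nι Y n ≫ g) : f = g :=
  Sigma.hom_ext _ _ h

lemma one_sub_nshift_nrho : (𝟙 _ - nshift Y) ≫ nrho Y = 𝟙 _ := by
  apply npow_hom_ext
  intro n
  simp only [Preadditive.sub_comp, Preadditive.comp_sub, Category.id_comp, Category.comp_id,
    nι_nshift_assoc, nι_nrho, Finset.sum_range_succ]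
  abel

lemma nrho_one_sub_nshift : nrho Y ≫ (𝟙 _ - nshift Y) = 𝟙 _ - nfold Y ≫ nι Y 0 := by
  apply npow_hom_ext
  intro n
  simp only [Preadditive.comp_sub, Category.comp_id, nι_nrho_assoc, nι_nrho, Preadditive.neg_comp,
    Preadditive.sum_comp, nι_nshift, nι_nfold_assoc]
  rw [← neg_sub', neg_sub, ← Finset.sum_sub_distrib]
  exact Finset.sum_range_sub (fun m => nι Y m) n

end NatPower

section Tower

variable {D : Type u} [Category.{v} D] [Preadditive D] [HasZeroObject D] [HasShift D ℤ]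
  [∀ n : ℤ, (shiftFunctor D n).Additive] [Pretriangulated D]
  [HasCoproductsOfShape ℕ D] [HasCoproducts.{v} D]
  {ι : Type v} (E : ι → D) (H : Dᵒᵖ ⥤ AddCommGrpCat.{v})

/-- hypothesis (2) -/
def Factors : Prop :=
  ∀ (X : ℕ → D) (i : ι) (α : E i ⟶ ∐ X), ∃ (j : ℕ → ι) (β : ∀ n, E (j n) ⟶ X n)
    (γ : E i ⟶ ∐ (fun n => E (j n))), α = γ ≫ Limits.Sigma.map β

/-- hypothesis (3): closure under desuspension -/
def Desusp : Prop := ∀ i, ∃ i', Nonempty ((E i')⟦(1 : ℤ)⟧ ≅ E i)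

/-- `(L, ξL)` represents `H` on the family `E` -/
def EBij (L : D) (ξL : H.obj (op L)) : Prop :=
  ∀ i, Function.Bijective (fun f : E i ⟶ L => pull H f ξL)

structure Tower where
  X : ℕ → D
  t : ∀ n, X n ⟶ X (n + 1)
  ξ : ∀ n, H.obj (op (X n))
  hξ : ∀ n, pull H (t n) (ξ (n + 1)) = ξ n
  Kι : ℕ → Type v
  Ka : ∀ n, Kι n → ι
  κ : ∀ n, (∐ fun k => E (Ka n k)) ⟶ X n
  δ : ∀ n, X (n + 1) ⟶ (∐ fun k => E (Ka n k))⟦(1 : ℤ)⟧
  dist : ∀ n, Triangle.mk (κ n) (t n) (δ n) ∈ distTriang D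
  factor : ∀ n i (f : E i ⟶ X n), pull H f (ξ n) = 0 →
    ∃ c : E i ⟶ (∐ fun k => E (Ka n k)), c ≫ κ n = f
  sur : ∀ i (a : H.obj (op (E i))), ∃ f : E i ⟶ X 0, pull H f (ξ 0) = a

namespace Tower

variable {E H} (T : Tower E H)

noncomputable abbrev K (n : ℕ) : D := ∐ fun k => E (T.Ka n k)

@[reassoc (attr := simp)]
lemma κ_t (n : ℕ) : T.κ n ≫ T.t n = 0 :=
  comp_distTriang_mor_zero₁₂ _ (T.dist n)

/-- the composite `X 0 ⟶ X n` -/
noncomputable def u : ∀ n, T.X 0 ⟶ T.X n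
  | 0 => 𝟙 _
  | n + 1 => u n ≫ T.t n

@[simp] lemma u_zero : T.u 0 = 𝟙 _ := rfl
lemma u_succ (n : ℕ) : T.u (n + 1) = T.u n ≫ T.t n := rfl

lemma pull_u (n : ℕ) : pull H (T.u n) (T.ξ n) = T.ξ 0 := by
  induction n with
  | zero => simp [pull]
  | succ n ih => rw [u_succ, pull_comp, T.hξ, ih]

@[reassoc]
lemma κ_zero_u_succ (n : ℕ) : T.κ 0 ≫ T.u (n + 1) = 0 := by
  induction n with
  | zero => simp [u_succ]
  | succ n ih => rw [u_succ, reassoc_of% ih, zero_comp]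

/-- the shift endomorphism of `∐ X` -/
noncomputable def s : (∐ T.X) ⟶ ∐ T.X := Sigma.desc (fun n => T.t n ≫ Sigma.ι T.X (n + 1))

@[reassoc (attr := simp)]
lemma ι_s (n : ℕ) : Sigma.ι T.X n ≫ T.s = T.t n ≫ Sigma.ι T.X (n + 1) := by
  simp [s]

/-- `U' : X_0^{(ℕ)} ⟶ ∐ X` -/
noncomputable def U : npow (T.X 0) ⟶ ∐ T.X := Sigma.desc (fun n => T.u n ≫ Sigma.ι T.X n)

@[reassoc (attr := simp)]
lemma nι_U (n : ℕ) : nι (T.X 0) n ≫ T.U = T.u n ≫ Sigma.ι T.X n := by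
  simp [U, nι]

@[reassoc]
lemma U_s : T.U ≫ T.s = nshift (T.X 0) ≫ T.U := by
  apply npow_hom_ext
  intro n
  simp [u_succ]

noncomputable def κs : (∐ T.K) ⟶ ∐ T.X := Limits.Sigma.map T.κ

@[reassoc (attr := simp)]
lemma ι_κs (n : ℕ) : Sigma.ι T.K n ≫ T.κs = T.κ n ≫ Sigma.ι T.X n := by
  simp [κs]

@[reassoc (attr := simp)]
lemma κs_s : T.κs ≫ T.s = 0 := by
  apply Sigma.hom_ext
  intro n
  simp

section Claims

variable [H.IsHomological] [PreservesLimitsOfShape (Discrete ℕ) H]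

/-- the element `ξ_•` of `H (∐ X)` -/
noncomputable def ξs : H.obj (op (∐ T.X)) := (sigma_exists H T.X T.ξ).choose

lemma pull_ι_ξs (n : ℕ) : pull H (Sigma.ι T.X n) T.ξs = T.ξ n :=
  (sigma_exists H T.X T.ξ).choose_spec n

lemma pull_κ_ξ (n : ℕ) : pull H (T.κ n) (T.ξ n) = 0 := by
  rw [← T.hξ n, ← pull_comp, κ_t, pull_zero]

lemma pull_κs_ξs : pull H T.κs T.ξs = 0 := by
  apply sigma_ext H T.K
  intro n
  rw [← pull_comp, ι_κs, pull_comp, pull_ι_ξs, pull_κ_ξ]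
  simp [pull]

lemma pull_U_ξs : pull H T.U T.ξs = pull H (nfold (T.X 0)) (T.ξ 0) := by
  apply sigma_ext H (fun _ : ℕ => T.X 0)
  intro n
  change pull H (nι (T.X 0) n) _ = pull H (nι (T.X 0) n) _
  rw [← pull_comp, ← pull_comp, nι_U, nι_nfold, pull_comp, pull_ι_ξs, pull_u, pull_id]

/-- if `f` kills `ξ 0` then `f ≫ t 0 = 0` -/
lemma comp_t_eq_zero {n : ℕ} {i : ι} (f : E i ⟶ T.X n) (hf : pull H f (T.ξ n) = 0) :
    f ≫ T.t n = 0 := by
  obtain ⟨c, rfl⟩ := T.factor n i f hf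
  simp

/-- Lemma K -/
lemma lemmaK (h2 : Factors E) (i : ι) (ε : E i ⟶ ∐ T.X) :
    ∃ (y : E i ⟶ npow (T.X 0)) (k : E i ⟶ ∐ T.K), ε = y ≫ T.U + k ≫ T.κs := by
  obtain ⟨j, β, γ, rfl⟩ := h2 T.X i ε
  have hb : ∀ n, ∃ b : E (j n) ⟶ T.X 0, pull H b (T.ξ 0) = pull H (β n) (T.ξ n) :=
    fun n => T.sur (j n) _
  choose b hb using hb
  have hc : ∀ n, ∃ c : E (j n) ⟶ T.K n, c ≫ T.κ n = β n - b n ≫ T.u n := by
    intro n
    apply T.factor
    rw [pull_sub, pull_comp, pull_u, hb, sub_self]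
  choose c hc using hc
  refine ⟨γ ≫ Limits.Sigma.map b, γ ≫ Limits.Sigma.map c, ?_⟩
  rw [Category.assoc, Category.assoc, ← Preadditive.comp_add]
  congr 1
  apply Sigma.hom_ext
  intro n
  rw [Sigma.ι_map, Preadditive.comp_add, Sigma.ι_map_assoc, Sigma.ι_map_assoc]
  erw [nι_U, ι_κs]
  rw [← Category.assoc, ← Category.assoc, ← Preadditive.add_comp, hc]
  simp

lemma nrho_U_one_sub_s :
    nrho (T.X 0) ≫ T.U ≫ (𝟙 _ - T.s) = T.U - nfold (T.X 0) ≫ Sigma.ι T.X 0 := by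
  have h1 : T.U ≫ (𝟙 _ - T.s) = (𝟙 _ - nshift (T.X 0)) ≫ T.U := by
    rw [Preadditive.comp_sub, Category.comp_id, U_s, Preadditive.sub_comp, Category.id_comp]
  rw [h1, ← Category.assoc, nrho_one_sub_nshift, Preadditive.sub_comp, Category.id_comp,
    Category.assoc, nι_U, u_zero, Category.id_comp]

/-- Claim C -/
lemma claimC (h2 : Factors E) (i : ι) (α : E i ⟶ ∐ T.X) (hα : pull H α T.ξs = 0) :
    ∃ α' : E i ⟶ ∐ T.X, α = α' ≫ (𝟙 _ - T.s) := by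
  obtain ⟨y, k, rfl⟩ := T.lemmaK h2 i α
  have h1 : pull H (y ≫ nfold (T.X 0)) (T.ξ 0) = 0 := by
    rw [pull_add, pull_comp, pull_comp (H := H) k, pull_κs_ξs, pull_U_ξs] at hα
    rw [pull_comp]
    simpa [pull] using hα
  have hθ := T.comp_t_eq_zero _ h1
  obtain ⟨θ, hθdef⟩ : ∃ θ, θ = y ≫ nfold (T.X 0) := ⟨_, rfl⟩
  rw [← hθdef] at hθ
  refine ⟨y ≫ nrho (T.X 0) ≫ T.U + θ ≫ Sigma.ι T.X 0 + k ≫ T.κs, ?_⟩
  have e2 : (θ ≫ Sigma.ι T.X 0) ≫ (𝟙 _ - T.s) = θ ≫ Sigma.ι T.X 0 := by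
    rw [Preadditive.comp_sub, Category.comp_id, Category.assoc, ι_s,
      reassoc_of% hθ, zero_comp, sub_zero]
  have e3 : (k ≫ T.κs) ≫ (𝟙 _ - T.s) = k ≫ T.κs := by
    rw [Preadditive.comp_sub, Category.comp_id, Category.assoc, κs_s, comp_zero, sub_zero]
  rw [Preadditive.add_comp, Preadditive.add_comp, e2, e3, Category.assoc, Category.assoc,
    nrho_U_one_sub_s, Preadditive.comp_sub, ← Category.assoc y, ← hθdef]
  abel

lemma factor_through_K0 (h2 : Factors E) (i : ι) (z : E i ⟶ npow (T.X 0))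
    (hz : z ≫ nshift (T.X 0) ≫ T.U = 0) :
    ∃ z' : E i ⟶ npow (T.K 0), z = z' ≫ Limits.Sigma.map (fun _ : ℕ => T.κ 0) := by
  have hW : ∀ n, ∃ (W : D) (ω : W ⟶ T.X 0) (h : T.X (n + 1) ⟶ W⟦(1 : ℤ)⟧),
      Triangle.mk ω (T.u (n + 1)) h ∈ distTriang D :=
    fun n => distinguished_cocone_triangle₁ (T.u (n + 1))
  choose W ω hh hW using hW
  obtain ⟨C, g, h', hC⟩ := distinguished_cocone_triangle
    (Limits.Sigma.map ω : (∐ W) ⟶ npow (T.X 0))
  have hc : ∀ n, ∃ c : T.X (n + 1) ⟶ C, nι (T.X 0) n ≫ g = T.u (n + 1) ≫ c := by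
    intro n
    refine Triangle.yoneda_exact₂ _ (hW n) (nι (T.X 0) n ≫ g) ?_
    have h0 : Limits.Sigma.map ω ≫ g = 0 := comp_distTriang_mor_zero₁₂ _ hC
    have : ω n ≫ nι (T.X 0) n = Sigma.ι W n ≫ Limits.Sigma.map ω := by
      rw [Sigma.ι_map]; rfl
    change ω n ≫ nι (T.X 0) n ≫ g = 0
    rw [reassoc_of% this, h0, comp_zero]
  choose c hc using hc
  let c' : (∐ T.X) ⟶ C := Sigma.desc (fun m =>
    Nat.rec (motive := fun m => T.X m ⟶ C) 0 (fun n _ => c n) m)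
  have hc' : nshift (T.X 0) ≫ T.U ≫ c' = g := by
    apply npow_hom_ext
    intro n
    rw [nι_nshift_assoc, nι_U_assoc, hc]
    simp [c']
  have hzg : z ≫ g = 0 := by
    rw [← hc', ← Category.assoc, ← Category.assoc, Category.assoc z, hz, zero_comp]
  obtain ⟨w, hw⟩ : ∃ w : E i ⟶ ∐ W, z = w ≫ Limits.Sigma.map ω :=
    Triangle.coyoneda_exact₂ _ hC z hzg
  obtain ⟨j, β, γ, hγ⟩ := h2 W i w
  have hf : ∀ n, ∃ d : E (j n) ⟶ T.K 0, d ≫ T.κ 0 = β n ≫ ω n := by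
    intro n
    apply T.factor 0
    have h0 : ω n ≫ T.u (n + 1) = 0 := comp_distTriang_mor_zero₁₂ _ (hW n)
    rw [← pull_u T (n + 1), ← pull_comp, Category.assoc, h0, comp_zero, pull_zero]
  choose d hd using hf
  refine ⟨γ ≫ Limits.Sigma.map d, ?_⟩
  rw [hw, hγ]
  rw [Category.assoc, Category.assoc, Sigma.map_comp_map, Sigma.map_comp_map]
  congr 2
  funext n
  exact (hd n).symm

lemma κ0_nrho_nshift_U :
    Limits.Sigma.map (fun _ : ℕ => T.κ 0) ≫ nrho (T.X 0) ≫ nshift (T.X 0) ≫ T.U = 0 := by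
  apply Sigma.hom_ext
  intro n
  rw [Sigma.ι_map_assoc]
  erw [nι_nrho_assoc]
  rw [Preadditive.neg_comp, Preadditive.sum_comp, Preadditive.comp_neg, Preadditive.comp_sum,
    comp_zero, neg_eq_zero]
  apply Finset.sum_eq_zero
  intro m _
  rw [nι_nshift_assoc, nι_U, κ_zero_u_succ_assoc, zero_comp]

/-- Claim M -/
lemma claimM (h2 : Factors E) (i : ι) (ε : E i ⟶ ∐ T.X) (hε : ε ≫ (𝟙 _ - T.s) = 0) :
    ε = 0 := by
  have hε' : ε = ε ≫ T.s := by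
    rw [Preadditive.comp_sub, Category.comp_id, sub_eq_zero] at hε
    exact hε
  obtain ⟨y, k, h⟩ := T.lemmaK h2 i ε
  have h1 : ε ≫ T.s = y ≫ nshift (T.X 0) ≫ T.U := by
    rw [h, Preadditive.add_comp, Category.assoc, Category.assoc, κs_s, comp_zero, add_zero, U_s]
  have h2' : ε ≫ T.s = y ≫ nshift (T.X 0) ≫ nshift (T.X 0) ≫ T.U := by
    conv_lhs => rw [hε', Category.assoc]
    rw [← Category.assoc, h1, Category.assoc, Category.assoc, U_s]
  have hzV : (y ≫ (𝟙 _ - nshift (T.X 0))) ≫ nshift (T.X 0) ≫ T.U = 0 := by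
    rw [Preadditive.comp_sub, Category.comp_id, Preadditive.sub_comp, Category.assoc, ← h1,
      ← h2', sub_self]
  have hy : y = (y ≫ (𝟙 _ - nshift (T.X 0))) ≫ nrho (T.X 0) := by
    rw [Category.assoc, one_sub_nshift_nrho, Category.comp_id]
  obtain ⟨z', hz'⟩ := T.factor_through_K0 h2 i _ hzV
  rw [hε', h1, hy, hz', Category.assoc, Category.assoc, κ0_nrho_nshift_U, comp_zero]

theorem ebij_of_hocolim (h2 : Factors E) (h3 : Desusp E) {L : D} (q : (∐ T.X) ⟶ L)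
    (d : L ⟶ (∐ T.X)⟦(1 : ℤ)⟧) (hd : Triangle.mk (𝟙 _ - T.s) q d ∈ distTriang D)
    (ξL : H.obj (op L)) (hξL : pull H q ξL = T.ξs) : EBij E H L ξL := by
  intro i
  constructor
  · intro f f' hff'
    rw [← sub_eq_zero]
    obtain ⟨g, hg⟩ : ∃ g, g = f - f' := ⟨_, rfl⟩
    rw [← hg]
    have hg0 : pull H g ξL = 0 := by
      rw [hg, pull_sub]
      exact sub_eq_zero.mpr hff'
    have hgd : g ≫ d = 0 := by
      obtain ⟨i', ⟨e⟩⟩ := h3 i
      obtain ⟨ε, hε⟩ := (shiftFunctor D (1 : ℤ)).map_surjective (e.hom ≫ g ≫ d)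
      have hε0 : ε = 0 := by
        apply T.claimM h2
        apply (shiftFunctor D (1 : ℤ)).map_injective
        rw [Functor.map_comp, hε, Functor.map_zero, Category.assoc, Category.assoc]
        have h31 : d ≫ (𝟙 _ - T.s)⟦(1 : ℤ)⟧' = 0 := comp_distTriang_mor_zero₃₁ _ hd
        rw [h31, comp_zero, comp_zero]
      rw [hε0, Functor.map_zero] at hε
      have h0 : e.hom ≫ g ≫ d = e.hom ≫ 0 := by rw [← hε, comp_zero]
      exact (cancel_epi e.hom).mp h0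
    obtain ⟨g', hg'⟩ : ∃ g' : E i ⟶ ∐ T.X, g = g' ≫ q :=
      Triangle.coyoneda_exact₃ _ hd g hgd
    have hg'0 : pull H g' T.ξs = 0 := by
      rw [← hξL, ← pull_comp, ← hg', hg0]
    obtain ⟨α', hα'⟩ := T.claimC h2 i g' hg'0
    have h0 : (𝟙 _ - T.s) ≫ q = 0 := comp_distTriang_mor_zero₁₂ _ hd
    rw [hg', hα', Category.assoc, h0, comp_zero]
  · intro a
    obtain ⟨f, hf⟩ := T.sur i a
    refine ⟨f ≫ Sigma.ι T.X 0 ≫ q, ?_⟩
    change pull H (f ≫ Sigma.ι T.X 0 ≫ q) ξL = a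
    rw [pull_comp, pull_comp, hξL, pull_ι_ξs, hf]

end Claims

end Tower

end Tower

end Groth.Agent.H5.Brown
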