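import Groth.Agent.H5.CoExtra
import Mathlib.CategoryTheory.Sites.SheafCohomology.Cech
import Mathlib.CategoryTheory.Limits.FormalCoproducts.Cech

/-!
# Contractibility of the Čech complex of a family containing a "largest" member (thin categories)
-/

set_option autoImplicit false
set_option backward.isDefEq.respectTransparency false
universe w v u v' u'
open CategoryTheory CategoryTheory.Limits Simplicial AlgebraicTopology Opposite

namespace Groth.Agent.H5.CechContract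

variable {C : Type u} [Category.{v} C] [Quiver.IsThin C] [HasFiniteProducts C]
  {ι : Type w} (U : ι → C) (T : C) (t : ∀ a, U a ⟶ T) (i : ι) (r : T ⟶ U i)

lemma fc_hom_ext {X Y : FormalCoproduct.{w} C} {f g : X ⟶ Y} (h : ∀ x, f.f x = g.f x) : f = g :=
  FormalCoproduct.hom_ext (funext h) (fun _ => Subsingleton.elim _ _)

/-- the Čech object -/
noncomputable abbrev E : SimplicialObject (FormalCoproduct.{w} C) := (FormalCoproduct.mk ι U).cech

/-- the augmentation -/
noncomputable def ε0 : (E U).obj (op ⦋0⦌) ⟶ (FormalCoproduct.incl C).obj T where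
  f _ := PUnit.unit
  φ x := Pi.π _ (0 : Fin 1) ≫ t (x 0)

/-- the section of the augmentation -/
noncomputable def σ' : (FormalCoproduct.incl C).obj T ⟶ (E U).obj (op ⦋0⦌) where
  f _ := fun _ => i
  φ _ := Pi.lift (fun _ => r)

/-- the extra degeneracy -/
noncomputable def σ (n : ℕ) : (E U).obj (op ⦋n⦌) ⟶ (E U).obj (op ⦋n + 1⦌) where
  f x := (Fin.cons i x : Fin (n + 2) → ι)
  φ x := Pi.lift (fun a : Fin (n + 2) =>
    Fin.cases (motive := fun a => (∏ᶜ (U ∘ x) : C) ⟶ U ((Fin.cons i x : Fin (n + 2) → ι) a))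
      (Pi.π (U ∘ x) 0 ≫ t (x 0) ≫ r) (fun a => Pi.π (U ∘ x) a) a)

lemma σ'_ε0 : σ' U T i r ≫ ε0 U T t = 𝟙 _ := fc_hom_ext (fun _ => rfl)

lemma δ_ε0 : (E U).δ (0 : Fin 2) ≫ ε0 U T t = (E U).δ (1 : Fin 2) ≫ ε0 U T t :=
  fc_hom_ext (fun _ => rfl)

lemma σ₀_δ₁ : σ U T t i r 0 ≫ (E U).δ (1 : Fin 2) = ε0 U T t ≫ σ' U T i r := by
  refine fc_hom_ext (fun x => ?_)
  funext a
  fin_cases a
  rfl

lemma σ_δ₀ (n : ℕ) : σ U T t i r n ≫ (E U).δ (0 : Fin (n + 2)) = 𝟙 _ := by
  refine fc_hom_ext (fun x => ?_)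
  funext a
  rfl

lemma σ_δ (n : ℕ) (j : Fin (n + 2)) :
    σ U T t i r (n + 1) ≫ (E U).δ j.succ = (E U).δ j ≫ σ U T t i r n := by
  refine fc_hom_ext (fun x => ?_)
  funext a
  change (Fin.cons i x : Fin (n + 3) → ι) (j.succ.succAbove a) =
    (Fin.cons i (fun b => x (j.succAbove b)) : Fin (n + 2) → ι) a
  refine Fin.cases ?_ (fun b => ?_) a
  · rw [Fin.succ_succAbove_zero]
    rfl
  · rw [Fin.succ_succAbove_succ]
    rfl

variable {A : Type u'} [Category.{v'} A] [Preadditive A] [HasZeroObject A]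
  (P : (FormalCoproduct.{w} C)ᵒᵖ ⥤ A)

/-- the cosimplicial object obtained by evaluating `P` on the Čech object -/
noncomputable abbrev Ycos : CosimplicialObject A := (E U).rightOp ⋙ P

lemma Ycos_δ {n : ℕ} (j : Fin (n + 2)) : (Ycos U P).δ j = P.map ((E U).δ j).op := rfl

/-- the extra codegeneracy on the evaluated Čech object -/
noncomputable def coExtra : CoExtra (Ycos U P) (P.obj (op ((FormalCoproduct.incl C).obj T))) where
  ε := P.map (ε0 U T t).op
  s' := P.map (σ' U T i r).op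
  s n := P.map (σ U T t i r n).op
  ε_s' := by rw [← P.map_comp, ← op_comp, σ'_ε0, op_id, P.map_id]
  ε_δ := by rw [Ycos_δ, Ycos_δ, ← P.map_comp, ← P.map_comp, ← op_comp, ← op_comp, δ_ε0]
  δ₁_s₀ := by rw [Ycos_δ, ← P.map_comp, ← P.map_comp, ← op_comp, ← op_comp, σ₀_δ₁]
  δ₀_s n := by
    rw [Ycos_δ, ← P.map_comp, ← op_comp, σ_δ₀, op_id, P.map_id]
    rfl
  δ_s n j := by rw [Ycos_δ, Ycos_δ, ← P.map_comp, ← P.map_comp, ← op_comp, ← op_comp, σ_δ]

end Groth.Agent.H5.CechContract
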