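import Mathlib.AlgebraicTopology.AlternatingFaceMapComplex
import Mathlib.AlgebraicTopology.ExtraDegeneracy
import Mathlib.Algebra.Homology.Single
import Mathlib.Algebra.Homology.Homotopy

/-!
# Extra codegeneracies for cosimplicial objects

An augmented cosimplicial object with an extra codegeneracy gives a homotopy equivalence between
the alternating coface map complex and the augmentation object placed in degree `0`.
-/

set_option autoImplicit false
set_option backward.isDefEq.respectTransparency false
universe v u
open CategoryTheory CategoryTheory.Limits Simplicial AlgebraicTopology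

namespace Groth.Agent.H5

variable {A : Type u} [Category.{v} A] [Preadditive A] [HasZeroObject A]

/-- an augmentation `Z ⟶ Y⁰` of a cosimplicial object together with an extra codegeneracy. -/
structure CoExtra (Y : CosimplicialObject A) (Z : A) where
  /-- the coaugmentation -/
  ε : Z ⟶ Y.obj ⦋0⦌
  /-- the retraction of the coaugmentation -/
  s' : Y.obj ⦋0⦌ ⟶ Z
  /-- the extra codegeneracies -/
  s : ∀ n : ℕ, Y.obj ⦋n + 1⦌ ⟶ Y.obj ⦋n⦌
  ε_s' : ε ≫ s' = 𝟙 Z
  ε_δ : ε ≫ Y.δ 0 = ε ≫ Y.δ 1
  δ₁_s₀ : Y.δ 1 ≫ s 0 = s' ≫ ε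
  δ₀_s : ∀ n, Y.δ 0 ≫ s n = 𝟙 _
  δ_s : ∀ (n : ℕ) (j : Fin (n + 2)), Y.δ j.succ ≫ s (n + 1) = s n ≫ Y.δ j

namespace CoExtra

variable {Y : CosimplicialObject A} {Z : A} (e : CoExtra Y Z)

lemma d_eq (n : ℕ) : (AlternatingCofaceMapComplex.obj Y).d n (n + 1) =
    AlternatingCofaceMapComplex.objD Y n :=
  by
  dsimp only [AlternatingCofaceMapComplex.obj, CochainComplex.of]
  exact CochainComplex.of_d _ _ n

lemma objD_zero : AlternatingCofaceMapComplex.objD Y 0 = Y.δ 0 - Y.δ 1 := by
  simp [AlternatingCofaceMapComplex.objD, Fin.sum_univ_succ, sub_eq_add_neg]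

lemma ε_d : e.ε ≫ (AlternatingCofaceMapComplex.obj Y).d 0 1 = 0 := by
  rw [d_eq, objD_zero, Preadditive.comp_sub, e.ε_δ, sub_self]

/-- the map from the augmentation object -/
noncomputable def hom : (CochainComplex.single₀ A).obj Z ⟶ AlternatingCofaceMapComplex.obj Y :=
  (CochainComplex.fromSingle₀Equiv _ _).symm ⟨e.ε, e.ε_d⟩

/-- the map to the augmentation object -/
noncomputable def inv : AlternatingCofaceMapComplex.obj Y ⟶ (CochainComplex.single₀ A).obj Z :=
  (CochainComplex.toSingle₀Equiv _ _).symm e.s'

lemma hom_f_zero : e.hom.f 0 = e.ε :=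
  CochainComplex.fromSingle₀Equiv_symm_apply_f_zero _ _

lemma inv_f_zero : e.inv.f 0 = e.s' :=
  CochainComplex.toSingle₀Equiv_symm_apply_f_zero _

lemma objD_succ_s (n : ℕ) :
    AlternatingCofaceMapComplex.objD Y (n + 1) ≫ e.s (n + 1) =
      𝟙 _ - e.s n ≫ AlternatingCofaceMapComplex.objD Y n := by
  simp only [AlternatingCofaceMapComplex.objD]
  rw [Fin.sum_univ_succ, Preadditive.add_comp, Preadditive.sum_comp, Preadditive.comp_sum]
  simp only [Fin.val_zero, pow_zero, one_smul, Fin.val_succ, pow_succ, mul_neg, mul_one, neg_smul,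
    Preadditive.neg_comp, Preadditive.zsmul_comp, Preadditive.comp_zsmul, Finset.sum_neg_distrib,
    e.δ₀_s, e.δ_s]
  rw [sub_eq_add_neg]

/-- the homotopy equivalence given by an extra codegeneracy -/
noncomputable def homotopyEquiv :
    HomotopyEquiv ((CochainComplex.single₀ A).obj Z) (AlternatingCofaceMapComplex.obj Y) where
  hom := e.hom
  inv := e.inv
  homotopyHomInvId := Homotopy.ofEq (by
    apply HomologicalComplex.from_single_hom_ext
    rw [HomologicalComplex.comp_f, hom_f_zero, inv_f_zero, e.ε_s']
    rfl)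
  homotopyInvHomId :=
    { hom := fun i j => match i with
        | 0 => 0
        | k + 1 => (Pi.single k (-e.s k) :
            ∀ j, (AlternatingCofaceMapComplex.obj Y).X (k + 1) ⟶
              (AlternatingCofaceMapComplex.obj Y).X j) j
      zero := fun i j hij => by
        cases i with
        | zero => rfl
        | succ k =>
          refine Pi.single_eq_of_ne ?_ _
          rintro rfl
          exact hij rfl
      comm := fun i => by
        cases i with
        | zero =>
          rw [Homotopy.dNext_cochainComplex, Homotopy.prevD_zero_cochainComplex,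
            HomologicalComplex.comp_f, hom_f_zero, inv_f_zero, d_eq, objD_zero]
          simp only [Pi.single_eq_same, Preadditive.comp_neg, Preadditive.sub_comp, e.δ₀_s,
            e.δ₁_s₀, HomologicalComplex.id_f]
          rw [show 𝟙 ((AlternatingCofaceMapComplex.obj Y).X 0) = 𝟙 (Y ^⦋0⦌) from rfl]
          abel
        | succ k =>
          rw [Homotopy.dNext_cochainComplex, Homotopy.prevD_succ_cochainComplex, d_eq, d_eq]
          simp only [Pi.single_eq_same, Preadditive.comp_neg, Preadditive.neg_comp,
            e.objD_succ_s, HomologicalComplex.id_f]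
          have : (e.inv ≫ e.hom).f (k + 1) = 0 := by
            rw [HomologicalComplex.comp_f]
            have : IsZero (((CochainComplex.single₀ A).obj Z).X (k + 1)) :=
              HomologicalComplex.isZero_single_obj_X _ _ _ _ (by simp)
            rw [this.eq_of_tgt (e.inv.f (k + 1)) 0, zero_comp]
          rw [this, show 𝟙 ((AlternatingCofaceMapComplex.obj Y).X (k + 1)) = 𝟙 (Y ^⦋k + 1⦌) from rfl]
          abel }

end CoExtra

end Groth.Agent.H5
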