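import Groth.Prelude.Def_CohDer
import Mathlib.CategoryTheory.Triangulated.Subcategory
import Mathlib.CategoryTheory.ObjectProperty.Retract
import Mathlib.CategoryTheory.Limits.Preserves.Shapes.Products
import Mathlib.CategoryTheory.Adjunction.Limits

set_option autoImplicit false
set_option linter.unusedSectionVars false

universe v u

open CategoryTheory CategoryTheory.Limits Pretriangulated ZeroObject

namespace Groth.Agent.H5.Compact

section Basic

variable {D : Type u} [Category.{v} D] [Preadditive D] [HasCoproducts.{v} D]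

/-- a morphism into a coproduct is a finite sum of morphisms into the summands -/
def FinDecomp {K : D} {ι : Type v} {X : ι → D} (f : K ⟶ ∐ X) : Prop :=
  ∃ (s : Finset ι) (g : ∀ i, K ⟶ X i), f = ∑ i ∈ s, g i ≫ Sigma.ι X i

lemma homSum_of (K : D) {ι : Type v} (X : ι → D) [DecidableEq ι] (i : ι) (y : K ⟶ X i) :
    CohDer.homSumToHomCoprod K X (DirectSum.of _ i y) = y ≫ Sigma.ι X i := by
  unfold CohDer.homSumToHomCoprod
  erw [DirectSum.toAddMonoid_of]
  rfl

lemma homSum_π (K : D) {ι : Type v} (X : ι → D) [DecidableEq ι]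
    (x : DirectSum ι (fun i => K ⟶ X i)) (i : ι) :
    CohDer.homSumToHomCoprod K X x ≫ Sigma.π X i = x i := by
  induction x using DirectSum.induction_on with
  | zero => simp
  | of j y =>
    rw [homSum_of, Category.assoc]
    by_cases h : j = i
    · subst h
      rw [Sigma.ι_π_eq_id, Category.comp_id, DirectSum.of_eq_same]
    · rw [Sigma.ι_π_of_ne _ h, comp_zero, DirectSum.of_eq_of_ne _ _ _ (Ne.symm h)]
  | add x y hx hy =>
    rw [map_add, Preadditive.add_comp, hx, hy]
    rfl

lemma isCompact_iff (K : D) :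
    CohDer.IsCompactObject K ↔ ∀ (ι : Type v) (X : ι → D) (f : K ⟶ ∐ X), FinDecomp f := by
  classical
  constructor
  · intro h ι X f
    obtain ⟨x, hx⟩ := (h ι X).2 f
    refine ⟨DFinsupp.support x, fun i => x i, ?_⟩
    rw [← hx]
    conv_lhs => rw [← DirectSum.sum_support_of x]
    rw [map_sum]
    apply Finset.sum_congr rfl
    intro i _
    rw [homSum_of]
  · intro h ι X
    constructor
    · rw [injective_iff_map_eq_zero]
      intro x hx
      ext i
      rw [← homSum_π K X x i, hx, zero_comp]
      rfl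
    · intro f
      obtain ⟨s, g, rfl⟩ := h ι X f
      refine ⟨∑ i ∈ s, DirectSum.of _ i (g i), ?_⟩
      rw [map_sum]
      apply Finset.sum_congr rfl
      intro i _
      rw [homSum_of]

lemma finDecomp_of_compact {K : D} (hK : CohDer.IsCompactObject K) {ι : Type v} {X : ι → D}
    (f : K ⟶ ∐ X) : FinDecomp f :=
  (isCompact_iff K).1 hK ι X f

/-- uniqueness of the components -/
lemma comp_eq_zero_of_sum_eq_zero {K : D} {ι : Type v} {X : ι → D} (s : Finset ι)
    (g : ∀ i, K ⟶ X i) (h : ∑ i ∈ s, g i ≫ Sigma.ι X i = 0) (i : ι) (hi : i ∈ s) : g i = 0 := by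
  classical
  have := congrArg (· ≫ Sigma.π X i) h
  simp only [Preadditive.sum_comp, Category.assoc, zero_comp] at this
  rw [Finset.sum_eq_single i] at this
  · simpa using this
  · intro j _ hj
    rw [Sigma.ι_π_of_ne _ hj, comp_zero]
  · intro h'
    exact absurd hi h'

lemma compact_of_retract {K K' : D} (r : Retract K K') (hK' : CohDer.IsCompactObject K') :
    CohDer.IsCompactObject K := by
  rw [isCompact_iff]
  intro ι X f
  obtain ⟨s, g, hg⟩ := finDecomp_of_compact hK' (r.r ≫ f)
  refine ⟨s, fun i => r.i ≫ g i, ?_⟩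
  have : f = r.i ≫ r.r ≫ f := by rw [← Category.assoc, r.retract, Category.id_comp]
  rw [this, hg, Preadditive.comp_sum]
  apply Finset.sum_congr rfl
  intro i _
  rw [Category.assoc]

lemma compact_of_isZero {K : D} (hK : IsZero K) : CohDer.IsCompactObject K := by
  rw [isCompact_iff]
  intro ι X f
  exact ⟨∅, fun i => 0, by rw [Finset.sum_empty]; exact hK.eq_of_src _ _⟩

end Basic

section Triangulated

variable {D : Type u} [Category.{v} D] [Preadditive D] [HasZeroObject D] [HasShift D ℤ]
  [∀ n : ℤ, (shiftFunctor D n).Additive] [Pretriangulated D] [HasCoproducts.{v} D]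

lemma compact_shift {K : D} (hK : CohDer.IsCompactObject K) (n : ℤ) :
    CohDer.IsCompactObject (K⟦n⟧) := by
  rw [isCompact_iff]
  intro ι X f
  let adj : shiftFunctor D n ⊣ shiftFunctor D (-n) := (shiftEquiv D n).toAdjunction
  let c := PreservesCoproduct.iso (shiftFunctor D (-n)) X
  obtain ⟨s, g, hg⟩ := finDecomp_of_compact hK (adj.homEquiv _ _ f ≫ c.hom)
  refine ⟨s, fun i => (adj.homEquiv _ _).symm (g i), ?_⟩
  apply (adj.homEquiv _ _).injective
  have h1 : adj.homEquiv _ _ f = ∑ i ∈ s, g i ≫ (Sigma.ι X i)⟦-n⟧' := by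
    have : adj.homEquiv _ _ f = (adj.homEquiv _ _ f ≫ c.hom) ≫ c.inv := by
      rw [Category.assoc, c.hom_inv_id, Category.comp_id]
    rw [this, hg, Preadditive.sum_comp]
    apply Finset.sum_congr rfl
    intro i _
    rw [Category.assoc, PreservesCoproduct.inv_hom, ι_comp_sigmaComparison]
  rw [h1, adj.homEquiv_unit, Functor.map_sum, Preadditive.comp_sum]
  apply Finset.sum_congr rfl
  intro i _
  rw [← adj.homEquiv_unit, adj.homEquiv_naturality_right, Equiv.apply_symm_apply]

lemma exists_extend (T : Triangle D) (hT : T ∈ distTriang D) :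
    ∃ (W : D) (w : W ⟶ T.obj₁), w ≫ T.mor₁ = 0 ∧
      ∀ {Y : D} (a : T.obj₁ ⟶ Y), w ≫ a = 0 → ∃ b : T.obj₂ ⟶ Y, a = T.mor₁ ≫ b :=
  ⟨T.invRotate.obj₁, T.invRotate.mor₁,
    comp_distTriang_mor_zero₁₂ _ (inv_rot_of_distTriang _ hT),
    fun a ha => Triangle.yoneda_exact₂ _ (inv_rot_of_distTriang _ hT) a ha⟩

lemma compact_ext₂ (T : Triangle D) (hT : T ∈ distTriang D)
    (h₁ : CohDer.IsCompactObject T.obj₁) (h₃ : CohDer.IsCompactObject T.obj₃) :
    CohDer.IsCompactObject T.obj₂ := by
  rw [isCompact_iff]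
  intro ι X f
  obtain ⟨s, a, ha⟩ := finDecomp_of_compact h₁ (T.mor₁ ≫ f)
  obtain ⟨W, w, hw, hex⟩ := exists_extend T hT
  have hb : ∀ i, ∃ b : T.obj₂ ⟶ X i, i ∈ s → a i = T.mor₁ ≫ b := by
    intro i
    by_cases hi : i ∈ s
    · have h0 : w ≫ a i = 0 := by
        apply comp_eq_zero_of_sum_eq_zero s (fun i => w ≫ a i) _ i hi
        have : ∑ i ∈ s, (w ≫ a i) ≫ Sigma.ι X i = w ≫ T.mor₁ ≫ f := by
          rw [ha, Preadditive.comp_sum]
          apply Finset.sum_congr rfl
          intro i _
          rw [Category.assoc]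
        rw [this, reassoc_of% hw, zero_comp]
      obtain ⟨b, hb⟩ := hex (a i) h0
      exact ⟨b, fun _ => hb⟩
    · exact ⟨0, fun h => absurd h hi⟩
  choose b hb using hb
  have h0 : T.mor₁ ≫ (f - ∑ i ∈ s, b i ≫ Sigma.ι X i) = 0 := by
    rw [Preadditive.comp_sub, ha, sub_eq_zero, Preadditive.comp_sum]
    apply Finset.sum_congr rfl
    intro i hi
    rw [hb i hi, Category.assoc]
  obtain ⟨e, he⟩ := Triangle.yoneda_exact₂ _ hT _ h0
  obtain ⟨s', e', he'⟩ := finDecomp_of_compact h₃ e
  classical
  refine ⟨s ∪ s', fun i => (if i ∈ s then b i else 0) + (if i ∈ s' then T.mor₂ ≫ e' i else 0), ?_⟩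
  have hf : f = ∑ i ∈ s, b i ≫ Sigma.ι X i + T.mor₂ ≫ e := by
    rw [← he]; abel
  rw [hf, he', Preadditive.comp_sum]
  simp only [Preadditive.add_comp, Finset.sum_add_distrib]
  congr 1
  · rw [← Finset.sum_subset (Finset.subset_union_left (s₂ := s'))]
    · apply Finset.sum_congr rfl
      intro i hi
      rw [if_pos hi]
    · intro i _ hi
      rw [if_neg hi, zero_comp]
  · rw [← Finset.sum_subset (Finset.subset_union_right (s₁ := s))]
    · apply Finset.sum_congr rfl
      intro i hi
      rw [if_pos hi, Category.assoc]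
    · intro i _ hi
      rw [if_neg hi, zero_comp]

/-- compact objects as an object property -/
abbrev compactProp : ObjectProperty D := fun K => CohDer.IsCompactObject K

instance : (compactProp (D := D)).IsClosedUnderIsomorphisms where
  of_iso e h := compact_of_retract ⟨e.inv, e.hom, e.inv_hom_id⟩ h

instance : (compactProp (D := D)).IsStableUnderRetracts where
  of_retract r h := compact_of_retract r h

instance : (compactProp (D := D)).ContainsZero where
  exists_zero := ⟨0, isZero_zero D, compact_of_isZero (isZero_zero D)⟩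

instance : (compactProp (D := D)).IsStableUnderShift ℤ where
  isStableUnderShiftBy n := ⟨fun _ hK => compact_shift hK n⟩

instance : (compactProp (D := D)).IsTriangulatedClosed₂ :=
  ObjectProperty.IsTriangulatedClosed₂.mk' (fun T hT h₁ h₃ => compact_ext₂ T hT h₁ h₃)

instance : (compactProp (D := D)).IsTriangulated where

end Triangulated

end Groth.Agent.H5.Compact
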