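import Groth.Agent.H5.PerfAmp

/-!
# Uniform perfect amplitude on quasi-compact schemes; global flat amplitude is local
-/

set_option autoImplicit false
set_option linter.style.haveILetI false
universe u
open CategoryTheory CategoryTheory.Limits AlgebraicGeometry ZeroObject HomologicalComplex

attribute [local instance] HasDerivedCategory.standard

namespace Groth.Agent.H5.TildePerfect

open CochainComplex Scheme.Modules Groth.Agent.H5.Approx Groth.Agent.H5.PerfectTriangle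
  Groth.Agent.H5.PCAlong Groth.Agent.H5.PCTriangle Groth.Agent.H5.PerfAmp

variable {X : Scheme.{u}}

lemma isPAAlong_mono {m n m' n' : ℤ} (hm : m' ≤ m) (hn : n ≤ n') {W : Scheme.{u}} (j : W ⟶ X)
    [IsOpenImmersion j] (F : CochainComplex X.Modules ℤ) (h : IsPAAlong m n j F) :
    IsPAAlong m' n' j F := by
  obtain ⟨E, hE, hfl, hi⟩ := h
  exact ⟨E, fun i hi' => hE i (by omega), hfl, hi⟩

/-- on a quasi-compact scheme a perfect object has perfect amplitude in some interval -/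
theorem exists_hasPerfectAmplitudeIn [CompactSpace X] (E : DCoh.D X) (hE : DCoh.IsPerfect E) :
    ∃ a b : ℤ, a ≤ b ∧ KSix.HasPerfectAmplitudeIn a b E := by
  let M := DerivedCategory.Q.objPreimage E
  let e : DerivedCategory.Q.obj M ≅ E := DerivedCategory.Q.objObjPreimageIso E
  have h : ∀ x : X, ∃ (V : X.Opens) (a b : ℤ), x ∈ V ∧ IsPAAlong a b V.ι M := by
    intro x
    obtain ⟨V, hxV, hV⟩ := hE x
    obtain ⟨E', ⟨⟨a, b, hab⟩, hfl⟩, ⟨i⟩⟩ := hV M ⟨e⟩
    exact ⟨V, a, b, hxV, E', hab, hfl, ⟨i⟩⟩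
  choose V a b hxV hV using h
  obtain ⟨t, ht⟩ := isCompact_univ.elim_finite_subcover (fun x => (V x : Set X))
    (fun x => (V x).2) (fun x _ => Set.mem_iUnion.2 ⟨x, hxV x⟩)
  obtain ⟨a₁, ha₁⟩ := (t.image (fun x => -a x)).exists_le
  obtain ⟨a₀, ha₀⟩ : ∃ a₀ : ℤ, ∀ y ∈ t, a₀ ≤ a y :=
    ⟨-a₁, fun y hy => by
      have := ha₁ _ (Finset.mem_image_of_mem (fun x => -a x) hy)
      omega⟩
  obtain ⟨b₀, hb₀⟩ := (t.image b).exists_le
  refine ⟨min a₀ b₀, max a₀ b₀, le_trans (min_le_left _ _) (le_max_left _ _), ?_⟩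
  refine hasPerfectAmplitudeIn_of_isPAAlong e (fun x => ?_)
  have hx : x ∈ ⋃ i ∈ t, (V i : Set X) := ht (Set.mem_univ x)
  simp only [Set.mem_iUnion] at hx
  obtain ⟨y, hyt, hxy⟩ := hx
  refine ⟨V y, (V y).ι, inferInstance, ?_, ?_⟩
  · rw [Scheme.Opens.range_ι]
    exact hxy
  · refine isPAAlong_mono ?_ ?_ _ _ (hV y)
    · exact le_trans (min_le_left _ _) (ha₀ _ hyt)
    · exact le_trans (hb₀ _ (Finset.mem_image_of_mem b hyt)) (le_max_right _ _)

/-- global flat amplitude gives locally finite tor dimension -/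
theorem locHasFiniteTorDim_of_hasFlatAmplitudeIn (E : DCoh.D X) (a b : ℤ)
    (h : DCoh.HasFlatAmplitudeIn a b E) : DCoh.LocHasFiniteTorDim E := by
  obtain ⟨G, hG, hGfl, ⟨eG⟩⟩ := h
  intro x
  refine ⟨⊤, a, b, trivial, fun F' ⟨eF'⟩ => ?_⟩
  refine ⟨(DCoh.restrictCx ⊤).obj G, fun i hi => (restrictFunctor _).map_isZero (hG i hi),
    fun i => PerfectOfFlatPC.flatMod_restrict _ _ (hGfl i), ⟨?_⟩⟩
  exact mapQIso (restrictFunctor (⊤ : X.Opens).ι) (eG ≪≫ eF'.symm)

end Groth.Agent.H5.TildePerfect
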