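import Groth.Agent.H5.PerfectPull
import Groth.Agent.H5.PerfectTriangle

/-!
# The derived pullback along a morphism factoring through an open on which the object is
strictly perfect
-/

set_option autoImplicit false
universe u
open CategoryTheory CategoryTheory.Limits AlgebraicGeometry ZeroObject

attribute [local instance] HasDerivedCategory.standard

namespace Groth.Agent.H5.LpullPoint

open Lpull

variable {X : Scheme.{u}}

/-- `Lf^*` only depends on `f` -/
noncomputable def LpullCongr {S : Scheme.{u}} {f f' : S ⟶ X} (h : f = f') [DCoh.HasLpull f]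
    [DCoh.HasLpull f'] : DCoh.Lpull f ≅ DCoh.Lpull f' := by
  subst h
  exact Iso.refl _

/-- the derived pullback along an open immersion is the restriction -/
theorem nonempty_Lpull_open_iso (V : X.Opens) [DCoh.HasLpull V.ι]
    (G : CochainComplex X.Modules ℤ) :
    Nonempty ((DCoh.Lpull V.ι).obj (DerivedCategory.Q.obj G) ≅
      DerivedCategory.Q.obj ((DCoh.restrictCx V).obj G)) := by
  obtain ⟨P, q, hq, hP, hP'⟩ := LpullComp.exists_resolution V.ι G
  have h1 : IsIso (DerivedCategory.Q.map q) := by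
    rw [DerivedCategory.isIso_Q_map_iff_quasiIso]
    exact hq
  have h2 : IsIso (DerivedCategory.Q.map ((DCoh.restrictCx V).map q)) := by
    rw [DerivedCategory.isIso_Q_map_iff_quasiIso]
    infer_instance
  exact ⟨(DCoh.Lpull V.ι).mapIso (asIso (DerivedCategory.Q.map q)).symm ≪≫
    LpullIso V.ι P hP ≪≫
    DerivedCategory.Q.mapIso ((NatIso.mapHomologicalComplex
      (Scheme.Modules.restrictFunctorIsoPullback V.ι) (ComplexShape.up ℤ)).app P).symm ≪≫
    asIso (DerivedCategory.Q.map ((DCoh.restrictCx V).map q))⟩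

/-- If `E₀|_V` is represented by the strictly perfect complex `P₀` and `f` factors through `V` via
`k`, then `Lf^* E₀` is represented by `k^* P₀`. -/
theorem nonempty_Lpull_iso_of_factor {S : Scheme.{u}} (f : S ⟶ X) [DCoh.HasLpull f]
    (V : X.Opens) (k : S ⟶ (V : Scheme.{u})) (hk : k ≫ V.ι = f) (E₀ : DCoh.D X)
    (M : CochainComplex X.Modules ℤ) (eM : DerivedCategory.Q.obj M ≅ E₀)
    (P₀ : CochainComplex (V : Scheme.{u}).Modules ℤ) (hP₀ : DCoh.IsStrictlyPerfect P₀)
    (e : DerivedCategory.Q.obj ((DCoh.restrictCx V).obj M) ≅ DerivedCategory.Q.obj P₀) :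
    Nonempty ((DCoh.Lpull f).obj E₀ ≅ DerivedCategory.Q.obj
      (((Scheme.Modules.pullback k).mapHomologicalComplex (ComplexShape.up ℤ)).obj P₀)) := by
  haveI := hasLpull k
  haveI := hasLpull V.ι
  haveI : DCoh.HasLpull (k ≫ V.ι) := hasLpull _
  obtain ⟨c⟩ := LpullComp.nonempty_Lpull_comp_iso k V.ι
  obtain ⟨o⟩ := nonempty_Lpull_open_iso V M
  exact ⟨(LpullCongr hk).symm.app E₀ ≪≫ (c.app E₀).symm ≪≫
    (DCoh.Lpull k).mapIso ((DCoh.Lpull V.ι).mapIso eM.symm ≪≫ o ≪≫ e) ≪≫
    LpullIso k P₀ (PerfectPull.kfl_of_isStrictlyPerfect P₀ hP₀)⟩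

end Groth.Agent.H5.LpullPoint
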