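import Groth.Agent.H5.ApproxTri
import Groth.Agent.H5.StupidGE
import Groth.Agent.H5.PerfectTriangle

/-!
# Pseudo-coherence along open immersions: chain level and derived level data
-/

set_option autoImplicit false
universe u
open CategoryTheory CategoryTheory.Limits AlgebraicGeometry ZeroObject HomologicalComplex
  Pretriangulated

attribute [local instance] HasDerivedCategory.standard

namespace Groth.Agent.H5.PCAlong

open CochainComplex Scheme.Modules Groth.Agent.H5.Approx Groth.Agent.H5.PerfectTriangle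

variable {X : Scheme.{u}}

/-- restriction of complexes along an open immersion -/
noncomputable abbrev resCx {W : Scheme.{u}} (j : W ⟶ X) [IsOpenImmersion j] :
    CochainComplex X.Modules ℤ ⥤ CochainComplex W.Modules ℤ :=
  (restrictFunctor j).mapHomologicalComplex (ComplexShape.up ℤ)

/-- restriction in two steps -/
noncomputable def resCxCompIso {W W' : Scheme.{u}} (k : W' ⟶ W) (j : W ⟶ X)
    [IsOpenImmersion k] [IsOpenImmersion j] (F : CochainComplex X.Modules ℤ) :
    (resCx (k ≫ j)).obj F ≅ (resCx k).obj ((resCx j).obj F) :=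
  (NatIso.mapHomologicalComplex (restrictFunctorComp k j) (ComplexShape.up ℤ)).app F

/-- `Q` of the image of a chain map under an exact functor -/
lemma Q_map_map {A B : Type*} [Category A] [Abelian A] [Category B] [Abelian B]
    [HasDerivedCategory A] [HasDerivedCategory B]
    (R : A ⥤ B) [R.Additive] [PreservesFiniteLimits R] [PreservesFiniteColimits R]
    {K L : CochainComplex A ℤ} (f : K ⟶ L) :
    DerivedCategory.Q.map ((R.mapHomologicalComplex (ComplexShape.up ℤ)).map f) =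
      R.mapDerivedCategoryFactors.inv.app K ≫ R.mapDerivedCategory.map (DerivedCategory.Q.map f) ≫
        R.mapDerivedCategoryFactors.hom.app L := by
  have n := R.mapDerivedCategoryFactors.hom.naturality f
  simp only [Functor.comp_map] at n
  rw [n, Iso.inv_hom_id_app_assoc]

lemma isApprox_Q_map_map {A B : Type*} [Category A] [Abelian A] [Category B] [Abelian B]
    [HasDerivedCategory A] [HasDerivedCategory B]
    (R : A ⥤ B) [R.Additive] [PreservesFiniteLimits R] [PreservesFiniteColimits R]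
    {K L : CochainComplex A ℤ} (f : K ⟶ L) {m : ℤ} (h : IsApprox m (DerivedCategory.Q.map f)) :
    IsApprox m (DerivedCategory.Q.map ((R.mapHomologicalComplex (ComplexShape.up ℤ)).map f)) := by
  rw [Q_map_map]
  exact ((h.map R).comp_iso _).iso_comp _

/-! ### Chain level data -/

/-- `j^*F` receives a chain map from a strictly perfect complex which is an isomorphism on `H^i`,
`i > m`, and an epimorphism on `H^m` -/
def IsPCChainAlong (m : ℤ) {W : Scheme.{u}} (j : W ⟶ X) [IsOpenImmersion j]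
    (F : CochainComplex X.Modules ℤ) : Prop :=
  ∃ (E : CochainComplex W.Modules ℤ) (β : E ⟶ (resCx j).obj F),
    DCoh.IsStrictlyPerfect E ∧ IsApprox m (DerivedCategory.Q.map β)

lemma isPCChainAlong_comp {m : ℤ} {W W' : Scheme.{u}} (k : W' ⟶ W) (j : W ⟶ X)
    [IsOpenImmersion k] [IsOpenImmersion j] (F : CochainComplex X.Modules ℤ)
    (h : IsPCChainAlong m j F) : IsPCChainAlong m (k ≫ j) F := by
  obtain ⟨E, β, hE, hβ⟩ := h
  refine ⟨(resCx k).obj E, (resCx k).map β ≫ (resCxCompIso k j F).inv,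
    isStrictlyPerfect_restrict k E hE, ?_⟩
  rw [Functor.map_comp]
  exact (isApprox_Q_map_map (restrictFunctor k) β hβ).comp_iso _

lemma isPCChainAlong_congr {m : ℤ} {W : Scheme.{u}} {j j' : W ⟶ X} [IsOpenImmersion j]
    [IsOpenImmersion j'] (hj : j = j') (F : CochainComplex X.Modules ℤ)
    (h : IsPCChainAlong m j F) : IsPCChainAlong m j' F := by
  subst hj
  exact h

lemma isPCChainAlong_of_le {m m' : ℤ} (hm : m ≤ m') {W : Scheme.{u}} (j : W ⟶ X)
    [IsOpenImmersion j] (F : CochainComplex X.Modules ℤ) (h : IsPCChainAlong m j F) :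
    IsPCChainAlong m' j F := by
  obtain ⟨E, β, hE, hβ⟩ := h
  exact ⟨E, β, hE, hβ.of_le hm⟩

/-- zero objects are finite locally free -/
lemma isFinLocFree_of_isZero {Y : Scheme.{u}} (M : Y.Modules) (h : IsZero M) :
    FlatMod.IsFinLocFree M := by
  intro y
  refine ⟨⊤, 0, trivial, ⟨IsZero.iso ?_ FinLocFreeOps.isZero_freeMod_zero⟩⟩
  exact (restrictFunctor (⊤ : Y.Opens).ι).map_isZero h

/-- the stupid truncation of a strictly perfect complex is strictly perfect -/
lemma isStrictlyPerfect_sigmaGE {Y : Scheme.{u}} (E : CochainComplex Y.Modules ℤ) (p : ℤ)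
    (hE : DCoh.IsStrictlyPerfect E) : DCoh.IsStrictlyPerfect (StupidGE.sigmaGE E p) := by
  obtain ⟨⟨a, b, hab⟩, hfl⟩ := hE
  refine ⟨⟨a, b, fun i hi => ?_⟩, fun i => ?_⟩
  · by_cases hp : p ≤ i
    · exact (hab i hi).of_iso (StupidGE.XIso E p i hp)
    · exact StupidGE.isZero_X E p i (by lia)
  · by_cases hp : p ≤ i
    · exact FinLocFreeOps.isFinLocFree_of_iso (StupidGE.XIso E p i hp).symm (hfl i)
    · exact isFinLocFree_of_isZero _ (StupidGE.isZero_X E p i (by lia))

/-- the inclusion of the stupid truncation is an approximation -/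
lemma isApprox_ι {A : Type*} [Category A] [Abelian A] [HasDerivedCategory A]
    (E : CochainComplex A ℤ) (p : ℤ) :
    IsApprox p (DerivedCategory.Q.map (StupidGE.ι E p)) := by
  rw [isApprox_Q_map_iff]
  exact ⟨fun i hi => StupidGE.isIso_homologyMap_ι E p i hi, StupidGE.epi_homologyMap_ι E p⟩

/-- the approximating complex can be taken to vanish in degrees `< m` -/
lemma IsPCChainAlong.exists_truncated {m : ℤ} {W : Scheme.{u}} {j : W ⟶ X} [IsOpenImmersion j]
    {F : CochainComplex X.Modules ℤ} (h : IsPCChainAlong m j F) :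
    ∃ (E : CochainComplex W.Modules ℤ) (β : E ⟶ (resCx j).obj F),
      DCoh.IsStrictlyPerfect E ∧ (∀ i : ℤ, i < m → IsZero (E.X i)) ∧
        IsApprox m (DerivedCategory.Q.map β) := by
  obtain ⟨E, β, hE, hβ⟩ := h
  refine ⟨StupidGE.sigmaGE E m, StupidGE.ι E m ≫ β, isStrictlyPerfect_sigmaGE E m hE,
    fun i hi => StupidGE.isZero_X E m i hi, ?_⟩
  rw [Functor.map_comp]
  exact (isApprox_ι E m).comp hβ

/-! ### Derived level data -/

/-- `j^*F` receives, in the derived category, a map from a strictly perfect complex which is an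
isomorphism on `H^i`, `i > m`, and an epimorphism on `H^m` -/
def IsPCAlong (m : ℤ) {W : Scheme.{u}} (j : W ⟶ X) [IsOpenImmersion j]
    (F : CochainComplex X.Modules ℤ) : Prop :=
  ∃ (E : CochainComplex W.Modules ℤ)
    (α : DerivedCategory.Q.obj E ⟶ DerivedCategory.Q.obj ((resCx j).obj F)),
    DCoh.IsStrictlyPerfect E ∧ IsApprox m α

lemma IsPCChainAlong.toPCAlong {m : ℤ} {W : Scheme.{u}} {j : W ⟶ X} [IsOpenImmersion j]
    {F : CochainComplex X.Modules ℤ} (h : IsPCChainAlong m j F) : IsPCAlong m j F := by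
  obtain ⟨E, β, hE, hβ⟩ := h
  exact ⟨E, DerivedCategory.Q.map β, hE, hβ⟩

lemma IsPCAlong.of_iso {m : ℤ} {W : Scheme.{u}} {j : W ⟶ X} [IsOpenImmersion j]
    {F F' : CochainComplex X.Modules ℤ}
    (e : DerivedCategory.Q.obj F ≅ DerivedCategory.Q.obj F') (h : IsPCAlong m j F) :
    IsPCAlong m j F' := by
  obtain ⟨E, α, hE, hα⟩ := h
  exact ⟨E, α ≫ (mapQIso (restrictFunctor j) e).hom, hE, hα.comp_iso _⟩

/-- locally, derived level data is chain level data -/
lemma IsPCAlong.exists_chain {m : ℤ} {W : Scheme.{u}} {j : W ⟶ X} [IsOpenImmersion j]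
    {F : CochainComplex X.Modules ℤ} (h : IsPCAlong m j F) (y : W) :
    ∃ V : W.Opens, y ∈ V ∧ IsPCChainAlong m (V.ι ≫ j) F := by
  obtain ⟨E, α, hE, hα⟩ := h
  obtain ⟨V, hyV, hV⟩ := LocalChainRep.locally_represented hE α y
  obtain ⟨β, hβ⟩ := hV
  refine ⟨V, hyV, (resCx V.ι).obj E, β ≫ (resCxCompIso V.ι j F).inv,
    isStrictlyPerfect_restrict V.ι E hE, ?_⟩
  rw [Functor.map_comp]
  refine IsApprox.comp_iso ?_ _
  have key : DerivedCategory.Q.map β =
      (restrictFunctor V.ι).mapDerivedCategoryFactors.inv.app E ≫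
        (DCoh.restrictD V.ι).map α ≫
          (restrictFunctor V.ι).mapDerivedCategoryFactors.hom.app ((resCx j).obj F) := by
    rw [hβ]
    simp
  rw [key]
  exact ((hα.map _).comp_iso _).iso_comp _

/-! ### The pointwise condition -/

/-- `F` is `m`-pseudo-coherent at `x` -/
def IsPCAt (m : ℤ) (F : CochainComplex X.Modules ℤ) (x : X) : Prop :=
  ∃ (W : Scheme.{u}) (j : W ⟶ X) (_ : IsOpenImmersion j), x ∈ Set.range j ∧ IsPCChainAlong m j F

lemma isPCChainAlong_opensRange {m : ℤ} {W : Scheme.{u}} (j : W ⟶ X) [IsOpenImmersion j]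
    (F : CochainComplex X.Modules ℤ) (h : IsPCChainAlong m j F) :
    IsPCChainAlong m j.opensRange.ι F :=
  isPCChainAlong_congr j.isoOpensRange_inv_comp F (isPCChainAlong_comp j.isoOpensRange.inv j F h)

theorem isPseudoCoherentD_iff {K : DCoh.D X} {M : CochainComplex X.Modules ℤ}
    (e : DerivedCategory.Q.obj M ≅ K) (m : ℤ) :
    DCoh.IsPseudoCoherentD m K ↔ ∀ x : X, IsPCAt m M x := by
  constructor
  · intro h x
    obtain ⟨V, hxV, hV⟩ := h x
    obtain ⟨E, α, hE, hα⟩ := hV M ⟨e⟩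
    have h' : IsPCAlong m V.ι M := ⟨E, α, hE, hα⟩
    obtain ⟨V', hxV', hV'⟩ := h'.exists_chain ⟨x, hxV⟩
    exact ⟨V', V'.ι ≫ V.ι, inferInstance, ⟨⟨⟨x, hxV⟩, hxV'⟩, rfl⟩, hV'⟩
  · intro h x
    obtain ⟨W, j, _, hx, hj⟩ := h x
    refine ⟨j.opensRange, hx, fun F ⟨eF⟩ => ?_⟩
    obtain ⟨E, α, hE, hα⟩ :=
      ((isPCChainAlong_opensRange j M hj).toPCAlong).of_iso (e ≪≫ eF.symm)
    exact ⟨E, α, hE, hα⟩

lemma isPCAt_of_le {m m' : ℤ} (hm : m ≤ m') (F : CochainComplex X.Modules ℤ) (x : X)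
    (h : IsPCAt m F x) : IsPCAt m' F x := by
  obtain ⟨W, j, _, hx, hj⟩ := h
  exact ⟨W, j, inferInstance, hx, isPCChainAlong_of_le hm j F hj⟩

/-- the pointwise condition only depends on the object of the derived category -/
lemma isPCAt_of_iso {m : ℤ} {F F' : CochainComplex X.Modules ℤ}
    (e : DerivedCategory.Q.obj F ≅ DerivedCategory.Q.obj F') (x : X) (h : IsPCAt m F x) :
    IsPCAt m F' x := by
  obtain ⟨W, j, _, ⟨y, rfl⟩, hj⟩ := h
  obtain ⟨V, hyV, hV⟩ := (hj.toPCAlong.of_iso e).exists_chain y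
  exact ⟨V, V.ι ≫ j, inferInstance, ⟨⟨y, hyV⟩, rfl⟩, hV⟩

/-- common refinement of two open immersions -/
lemma exists_common {m₁ m₂ : ℤ} {F₁ F₂ : CochainComplex X.Modules ℤ} (x : X)
    (h₁ : IsPCAt m₁ F₁ x) (h₂ : IsPCAt m₂ F₂ x) :
    ∃ (W : Scheme.{u}) (j : W ⟶ X) (_ : IsOpenImmersion j), x ∈ Set.range j ∧
      IsPCChainAlong m₁ j F₁ ∧ IsPCChainAlong m₂ j F₂ := by
  obtain ⟨W₁, j₁, _, hx₁, hj₁⟩ := h₁
  obtain ⟨W₂, j₂, _, hx₂, hj₂⟩ := h₂
  refine ⟨pullback j₁ j₂, pullback.fst j₁ j₂ ≫ j₁, inferInstance, ?_,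
    isPCChainAlong_comp _ j₁ F₁ hj₁,
    isPCChainAlong_congr pullback.condition.symm F₂ (isPCChainAlong_comp (pullback.snd j₁ j₂) j₂ F₂ hj₂)⟩
  rw [IsOpenImmersion.range_pullback_to_base_of_left]
  exact ⟨hx₁, hx₂⟩

end Groth.Agent.H5.PCAlong
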