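import Groth.Agent.H5.PCAlong

/-!
# Pseudo-coherence of the cone
-/

set_option autoImplicit false
universe u
open CategoryTheory CategoryTheory.Limits AlgebraicGeometry ZeroObject HomologicalComplex
  Pretriangulated

attribute [local instance] HasDerivedCategory.standard

namespace Groth.Agent.H5.PCTriangle

open CochainComplex Scheme.Modules Groth.Agent.H5.Approx Groth.Agent.H5.PerfectTriangle
  Groth.Agent.H5.PCAlong

lemma isApprox_Qh_iff {A : Type*} [Category A] [Abelian A] [HasDerivedCategory A]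
    {K L : CochainComplex A ℤ} (f : K ⟶ L) (m : ℤ) :
    IsApprox m (DerivedCategory.Qh.map ((HomotopyCategory.quotient _ _).map f)) ↔
      IsApprox m (DerivedCategory.Q.map f) := by
  have key : DerivedCategory.Qh.map ((HomotopyCategory.quotient _ _).map f) =
      (DerivedCategory.quotientCompQhIso A).hom.app K ≫ DerivedCategory.Q.map f ≫
        (DerivedCategory.quotientCompQhIso A).inv.app L := by
    rw [← DerivedCategory.quotientCompQhIso_hom_naturality_assoc, Iso.hom_inv_id_app]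
    exact (Category.comp_id _).symm
  rw [key]
  constructor
  · intro h
    exact (h.of_iso_comp _).of_comp_iso _
  · intro h
    exact (h.comp_iso _).iso_comp _

/-- the cone of a homotopy commutative square of approximations is an approximation -/
theorem isApprox_mapOfHomotopy {A : Type*} [Category A] [Abelian A] [HasDerivedCategory A]
    {E₁ E₂ F₁ F₂ : CochainComplex A ℤ} {γ : E₁ ⟶ E₂} {ψ : F₁ ⟶ F₂} {a : E₁ ⟶ F₁} {b : E₂ ⟶ F₂}
    (H : Homotopy (γ ≫ b) (a ≫ ψ)) (m : ℤ) (ha : IsApprox (m + 1) (DerivedCategory.Q.map a))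
    (hb : IsApprox m (DerivedCategory.Q.map b)) :
    IsApprox m (DerivedCategory.Q.map (mappingCone.mapOfHomotopy H)) := by
  rw [← isApprox_Qh_iff]
  exact isApprox_hom₃
    (DerivedCategory.Qh.map_distinguished _ (HomotopyCategory.mappingCone_triangleh_distinguished γ))
    (DerivedCategory.Qh.map_distinguished _ (HomotopyCategory.mappingCone_triangleh_distinguished ψ))
    (DerivedCategory.Qh.mapTriangle.map (mappingCone.trianglehMapOfHomotopy H))
    ((isApprox_Qh_iff a (m + 1)).2 ha) ((isApprox_Qh_iff b m).2 hb)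

variable {X : Scheme.{u}}

/-- the cone restricted in two steps -/
noncomputable def coneIso {W V : Scheme.{u}} (k : V ⟶ W) (j : W ⟶ X) [IsOpenImmersion k]
    [IsOpenImmersion j] {M₁ M₂ : CochainComplex X.Modules ℤ} (φ : M₁ ⟶ M₂) :
    mappingCone ((resCx k).map ((resCx j).map φ)) ≅ (resCx (k ≫ j)).obj (mappingCone φ) :=
  (mappingCone.mapHomologicalComplexIso ((resCx j).map φ) (restrictFunctor k)).symm ≪≫
    (resCx k).mapIso (mappingCone.mapHomologicalComplexIso φ (restrictFunctor j)).symm ≪≫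
    (resCxCompIso k j (mappingCone φ)).symm

theorem isPCAt_mappingCone {M₁ M₂ : CochainComplex X.Modules ℤ} (φ : M₁ ⟶ M₂) (m : ℤ) (x : X)
    (h₁ : IsPCAt (m + 1) M₁ x) (h₂ : IsPCAt m M₂ x) : IsPCAt m (mappingCone φ) x := by
  obtain ⟨W, j, _, ⟨y, rfl⟩, hj₁, hj₂⟩ := exists_common x h₁ h₂
  obtain ⟨E₁, β₁, hE₁, hz₁, hβ₁⟩ := hj₁.exists_truncated
  obtain ⟨E₂, β₂, hE₂, hβ₂⟩ := hj₂
  have hβ₂' := (isApprox_Q_map_iff β₂).1 hβ₂
  obtain ⟨V, γ, hyV, ⟨H⟩⟩ := LocalLiftQis.locally_lift (β₁ ≫ (resCx j).map φ) β₂ hE₁ m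
    (fun i hi => hz₁ i (by lia)) hβ₂'.1 hβ₂'.2 y
  have H' : Homotopy (γ ≫ (resCx V.ι).map β₂)
      ((resCx V.ι).map β₁ ≫ (resCx V.ι).map ((resCx j).map φ)) :=
    H.trans (Homotopy.ofEq ((resCx V.ι).map_comp _ _))
  refine ⟨V, V.ι ≫ j, inferInstance, ⟨⟨y, hyV⟩, rfl⟩, mappingCone γ,
    mappingCone.mapOfHomotopy H' ≫ (coneIso V.ι j φ).hom,
    isStrictlyPerfect_mappingCone γ (isStrictlyPerfect_restrict V.ι E₁ hE₁)
      (isStrictlyPerfect_restrict V.ι E₂ hE₂), ?_⟩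
  rw [Functor.map_comp]
  exact (isApprox_mapOfHomotopy H' m (isApprox_Q_map_map (restrictFunctor V.ι) β₁ hβ₁)
    (isApprox_Q_map_map (restrictFunctor V.ι) β₂ hβ₂)).comp_iso _

/-! ### Shifts -/

lemma Q_map_shift {A : Type*} [Category A] [Abelian A] [HasDerivedCategory A]
    {K L : CochainComplex A ℤ} (f : K ⟶ L) (n : ℤ) :
    DerivedCategory.Q.map (f⟦n⟧') = (DerivedCategory.Q.commShiftIso n).hom.app K ≫
      (DerivedCategory.Q.map f)⟦n⟧' ≫ (DerivedCategory.Q.commShiftIso n).inv.app L := by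
  have nat := (DerivedCategory.Q.commShiftIso n).hom.naturality f
  simp only [Functor.comp_map] at nat
  rw [← reassoc_of% nat, Iso.hom_inv_id_app]
  exact (Category.comp_id _).symm

lemma isPCChainAlong_shift {m : ℤ} {W : Scheme.{u}} (j : W ⟶ X) [IsOpenImmersion j]
    (F : CochainComplex X.Modules ℤ) (n m' : ℤ) (hm' : n + m' = m) (h : IsPCChainAlong m j F) :
    IsPCChainAlong m' j (F⟦n⟧) := by
  obtain ⟨E, β, hE, hβ⟩ := h
  refine ⟨E⟦n⟧, β⟦n⟧' ≫ (((resCx j).commShiftIso n).app F).inv, isStrictlyPerfect_shift E n hE, ?_⟩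
  rw [Functor.map_comp, Q_map_shift]
  exact (((hβ.shift n m' hm').comp_iso _).iso_comp _).comp_iso _

lemma isPCAt_shift {m : ℤ} (F : CochainComplex X.Modules ℤ) (n m' : ℤ) (hm' : n + m' = m) (x : X)
    (h : IsPCAt m F x) : IsPCAt m' (F⟦n⟧) x := by
  obtain ⟨W, j, _, hx, hj⟩ := h
  exact ⟨W, j, inferInstance, hx, isPCChainAlong_shift j F n m' hm' hj⟩

theorem isPseudoCoherentD_shift {m : ℤ} (K : DCoh.D X) (n m' : ℤ) (hm' : n + m' = m)
    (h : DCoh.IsPseudoCoherentD m K) : DCoh.IsPseudoCoherentD m' (K⟦n⟧) := by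
  obtain ⟨M, ⟨e⟩⟩ : ∃ M : CochainComplex X.Modules ℤ, Nonempty (DerivedCategory.Q.obj M ≅ K) :=
    ⟨_, ⟨DerivedCategory.Q.objObjPreimageIso K⟩⟩
  have e' : DerivedCategory.Q.obj (M⟦n⟧) ≅ K⟦n⟧ :=
    (DerivedCategory.Q.commShiftIso n).app M ≪≫ (CategoryTheory.shiftFunctor _ n).mapIso e
  rw [isPseudoCoherentD_iff e' m']
  intro x
  exact isPCAt_shift M n m' hm' x ((isPseudoCoherentD_iff e m).1 h x)

theorem isPseudoCoherentD_of_iso {m : ℤ} {K L : DCoh.D X} (e : K ≅ L)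
    (h : DCoh.IsPseudoCoherentD m K) : DCoh.IsPseudoCoherentD m L := by
  intro x
  obtain ⟨V, hxV, hV⟩ := h x
  exact ⟨V, hxV, fun F ⟨eF⟩ => hV F ⟨eF ≪≫ e.symm⟩⟩

/-! ### Distinguished triangles -/

theorem isPseudoCoherentD_obj₃ (m : ℤ) (T : Triangle (DCoh.D X)) (hT : T ∈ distTriang (DCoh.D X))
    (h₁ : DCoh.IsPseudoCoherentD (m + 1) T.obj₁) (h₂ : DCoh.IsPseudoCoherentD m T.obj₂) :
    DCoh.IsPseudoCoherentD m T.obj₃ := by
  obtain ⟨M₁, M₂, φ, ⟨eT⟩⟩ := (DerivedCategory.mem_distTriang_iff T).1 hT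
  have e₁ : DerivedCategory.Q.obj M₁ ≅ T.obj₁ := (Triangle.π₁.mapIso eT).symm
  have e₂ : DerivedCategory.Q.obj M₂ ≅ T.obj₂ := (Triangle.π₂.mapIso eT).symm
  have e₃ : DerivedCategory.Q.obj (mappingCone φ) ≅ T.obj₃ := (Triangle.π₃.mapIso eT).symm
  rw [isPseudoCoherentD_iff e₃ m]
  intro x
  exact isPCAt_mappingCone φ m x ((isPseudoCoherentD_iff e₁ (m + 1)).1 h₁ x)
    ((isPseudoCoherentD_iff e₂ m).1 h₂ x)

theorem triangle (m : ℤ) (T : Triangle (DCoh.D X)) (hT : T ∈ distTriang (DCoh.D X)) :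
    (DCoh.IsPseudoCoherentD (m + 1) T.obj₁ → DCoh.IsPseudoCoherentD m T.obj₂ →
      DCoh.IsPseudoCoherentD m T.obj₃) ∧
    (DCoh.IsPseudoCoherentD m T.obj₁ → DCoh.IsPseudoCoherentD m T.obj₃ →
      DCoh.IsPseudoCoherentD m T.obj₂) ∧
    (DCoh.IsPseudoCoherentD (m + 1) T.obj₂ → DCoh.IsPseudoCoherentD m T.obj₃ →
      DCoh.IsPseudoCoherentD (m + 1) T.obj₁) := by
  refine ⟨isPseudoCoherentD_obj₃ m T hT, fun h₁ h₃ => ?_, fun h₂ h₃ => ?_⟩
  · exact isPseudoCoherentD_obj₃ m T.invRotate (inv_rot_of_distTriang T hT)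
      (isPseudoCoherentD_shift T.obj₃ (-1) (m + 1) (by lia) h₃) h₁
  · exact isPseudoCoherentD_obj₃ (m + 1) T.invRotate.invRotate
      (inv_rot_of_distTriang _ (inv_rot_of_distTriang T hT))
      (isPseudoCoherentD_shift T.obj₂ (-1) (m + 1 + 1) (by lia) h₂)
      (isPseudoCoherentD_shift T.obj₃ (-1) (m + 1) (by lia) h₃)

end Groth.Agent.H5.PCTriangle
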