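import Groth.Agent.H5.FlatCycles
import Groth.Agent.H5.PCTriangle
import Groth.Agent.H33.PC.FP
import Groth.Agent.H33.PC.KerEpi
import Groth.Agent.H67.FlatLocFree

/-!
# Flat amplitude in `[a, b]` and `(a-1)`-pseudo-coherence imply perfection
-/

set_option autoImplicit false
universe u
open CategoryTheory CategoryTheory.Limits AlgebraicGeometry ZeroObject HomologicalComplex
  Pretriangulated

attribute [local instance] HasDerivedCategory.standard

namespace Groth.Agent.H5.PerfectOfFlatPC

open CochainComplex Scheme.Modules Groth.Agent.H5.Approx Groth.Agent.H5.PerfectTriangle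
  Groth.Agent.H5.PCAlong Groth.Agent.H5.PCTriangle

variable {W : Scheme.{u}}

section Cone

variable {P G : CochainComplex W.Modules ℤ} (β : P ⟶ G)

/-- the first projection of the cone is an isomorphism in degrees where `G` vanishes -/
noncomputable def fstIso (p q : ℤ) (hpq : p + 1 = q) (hG : IsZero (G.X p)) :
    (mappingCone β).X p ≅ P.X q where
  hom := (mappingCone.fst β).1.v p q hpq
  inv := (mappingCone.inl β).v q p (by lia)
  hom_inv_id := by
    have h := mappingCone.id_X β p q hpq
    rw [hG.eq_of_tgt ((mappingCone.snd β).v p p (add_zero p)) 0, zero_comp, add_zero] at h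
    exact h
  inv_hom_id := mappingCone.inl_v_fst_v β q p hpq

/-- the opcycles of the cone in a degree where `G` vanishes -/
noncomputable def opcyclesIso (n m : ℤ) (hnm : n + 1 = m) (hG : IsZero (G.X n))
    (hG' : IsZero (G.X (n - 1))) : (mappingCone β).opcycles n ≅ P.opcycles m := by
  have h1 : (ComplexShape.up ℤ).prev n = n - 1 := by simp
  have h2 : (ComplexShape.up ℤ).prev m = n := by simp [← hnm]
  let e₁ : (mappingCone β).opcycles n ≅ cokernel ((mappingCone β).d (n - 1) n) :=
    ((mappingCone β).opcyclesIsCokernel (n - 1) n h1).coconePointUniqueUpToIso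
      (colimit.isColimit _)
  let e₂ : P.opcycles m ≅ cokernel (P.d n m) :=
    (P.opcyclesIsCokernel n m h2).coconePointUniqueUpToIso (colimit.isColimit _)
  let u : (mappingCone β).X (n - 1) ≅ P.X n := fstIso β (n - 1) n (by lia) hG'
  let u' : (mappingCone β).X (n - 1) ≅ P.X n :=
    { hom := -u.hom
      inv := -u.inv
      hom_inv_id := by simp
      inv_hom_id := by simp }
  let v : (mappingCone β).X n ≅ P.X m := fstIso β n m hnm hG
  have w : (mappingCone β).d (n - 1) n ≫ v.hom = u'.hom ≫ P.d n m := by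
    change (mappingCone β).d (n - 1) n ≫ (mappingCone.fst β).1.v n m hnm =
      (-(mappingCone.fst β).1.v (n - 1) n (by lia)) ≫ P.d n m
    rw [mappingCone.d_fst_v β (n - 1) n m (by lia) hnm, Preadditive.neg_comp]
  exact e₁ ≪≫ cokernel.mapIso _ _ u' v w ≪≫ e₂.symm

end Cone

/-- the key flatness statement -/
theorem flat_opcycles {P G : CochainComplex W.Modules ℤ} (β : P ⟶ G) (a b N : ℤ)
    (hPfl : ∀ i, FlatMod.IsFlat (P.X i)) (hGfl : ∀ i, FlatMod.IsFlat (G.X i))
    (hPb : ∀ i, N < i → IsZero (P.X i)) (hG : DCoh.VanishesOutside G a b)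
    (hβ : IsApprox (a - 1) (DerivedCategory.Q.map β)) : FlatMod.IsFlat (P.opcycles a) := by
  have hβ' := (isApprox_Q_map_iff β).1 hβ
  have iso : ∀ i : ℤ, (mappingCone β).X i ≅ (P.X (i + 1)) ⊞ (G.X i) := fun i =>
    homotopyCofiber.XIsoBiprod β i (i + 1) rfl
  have hCfl : ∀ i, FlatMod.IsFlat ((mappingCone β).X i) := fun i =>
    FlatTor.flatMod_of_iso (iso i).symm (LpullComp.flatMod_biprod (hPfl _) (hGfl _))
  have hCb : ∀ i, max N b < i → IsZero ((mappingCone β).X i) := by
    intro i hi
    refine IsZero.of_iso ?_ (iso i)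
    have z₁ : IsZero (P.X (i + 1)) := hPb _ (by have := le_max_left N b; lia)
    have z₂ : IsZero (G.X i) := hG _ (Or.inr (by have := le_max_right N b; lia))
    rw [IsZero.iff_id_eq_zero]
    apply biprod.hom_ext
    · exact z₁.eq_of_tgt _ _
    · exact z₂.eq_of_tgt _ _
  have hCex : ∀ i, a - 1 ≤ i → IsZero ((mappingCone β).homology i) := fun i hi =>
    LocalLiftQis.isZero_homology_mappingCone β (a - 1) hβ'.1 hβ'.2 i hi
  have h := FlatCycles.flat_opcycles (mappingCone β) hCfl (max N b) hCb (a - 1) hCex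
  exact FlatTor.flatMod_of_iso
    (opcyclesIso β (a - 1) a (by lia) (hG _ (Or.inl (by lia))) (hG _ (Or.inl (by lia)))) h

/-- a finitely presented flat module is finite locally free -/
theorem isFinLocFree_of_flat_of_isFP (M : W.Modules) (hflat : FlatMod.IsFlat M)
    (hFP : CohB1.IsFP M) : FlatMod.IsFinLocFree M := by
  refine Groth.Agent.H33.PC.isFinLocFree_of_locally M (fun y => ?_)
  obtain ⟨U, hyU, hU⟩ := (Groth.Agent.H67.FlatLocFree.isFlatAt_iff M hFP y).1 (hflat y)
  exact ⟨U, hyU, FinLocFreeOps.isFinLocFree_of_iso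
    ((restrictFunctorIsoPullback U.ι).app M).symm hU⟩

/-- the opcycles of a strictly perfect complex are finite locally free when flat -/
theorem isFinLocFree_opcycles (P : CochainComplex W.Modules ℤ) (hP : DCoh.IsStrictlyPerfect P)
    (a : ℤ) (hflat : FlatMod.IsFlat (P.opcycles a)) : FlatMod.IsFinLocFree (P.opcycles a) := by
  refine isFinLocFree_of_flat_of_isFP _ hflat ?_
  have h2 : (ComplexShape.up ℤ).prev a = a - 1 := by simp
  let e₂ : cokernel (P.d (a - 1) a) ≅ P.opcycles a :=
    ((P.opcyclesIsCokernel (a - 1) a h2).coconePointUniqueUpToIso (colimit.isColimit _)).symm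
  exact Groth.Agent.H33.PC.isFP_of_locFinPres _
    (Groth.Agent.H33.PC.locFinPres_of_cokernel (P.d (a - 1) a) e₂ (hP.2 _) (hP.2 _))

/-- the canonical truncation of a strictly perfect complex with finite locally free opcycles is
strictly perfect -/
theorem isStrictlyPerfect_truncGE (P : CochainComplex W.Modules ℤ)
    (hP : DCoh.IsStrictlyPerfect P) (a : ℤ) (hQ : FlatMod.IsFinLocFree (P.opcycles a)) :
    DCoh.IsStrictlyPerfect (P.truncGE a) := by
  obtain ⟨⟨a₀, b₀, hab⟩, hfl⟩ := hP
  refine ⟨⟨a, max a b₀, fun i hi => ?_⟩, fun i => ?_⟩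
  · rcases hi with hi | hi
    · exact (P.truncGE a).isZero_of_isStrictlyGE a i hi
    · have h1 : a < i := lt_of_le_of_lt (le_max_left _ _) hi
      exact (hab i (Or.inr (lt_of_le_of_lt (le_max_right _ _) hi))).of_iso (P.truncGEXIso a i h1)
  · rcases lt_trichotomy i a with hi | rfl | hi
    · exact isFinLocFree_of_isZero _ ((P.truncGE a).isZero_of_isStrictlyGE a i hi)
    · exact FinLocFreeOps.isFinLocFree_of_iso (P.truncGEXIsoOpcycles i).symm hQ
    · exact FinLocFreeOps.isFinLocFree_of_iso (P.truncGEXIso a i hi).symm (hfl i)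

/-- the factorisation of a map to a complex concentrated in degrees `≥ a` through the canonical
truncation -/
theorem exists_factor {A : Type*} [Category A] [Abelian A] {P G : CochainComplex A ℤ} (β : P ⟶ G)
    (a : ℤ) [G.IsStrictlyGE a] : ∃ β' : P.truncGE a ⟶ G, P.πTruncGE a ≫ β' = β := by
  refine ⟨CochainComplex.truncGEMap β a ≫ inv (G.πTruncGE a), ?_⟩
  rw [← Category.assoc, CochainComplex.πTruncGE_naturality, Category.assoc, IsIso.hom_inv_id,
    Category.comp_id]

/-- the main local statement: `G` is quasi-isomorphic to a strictly perfect complex -/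
theorem exists_strictlyPerfect {P G : CochainComplex W.Modules ℤ} (β : P ⟶ G) (a b : ℤ)
    (hP : DCoh.IsStrictlyPerfect P) (hGfl : ∀ i, FlatMod.IsFlat (G.X i))
    (hG : DCoh.VanishesOutside G a b)
    (hβ : IsApprox (a - 1) (DerivedCategory.Q.map β)) :
    ∃ E : CochainComplex W.Modules ℤ, DCoh.IsStrictlyPerfect E ∧
      Nonempty (DerivedCategory.Q.obj G ≅ DerivedCategory.Q.obj E) := by
  obtain ⟨⟨a₀, b₀, hab⟩, hfl⟩ := hP
  have hflat : FlatMod.IsFlat (P.opcycles a) :=
    flat_opcycles β a b b₀ (fun i => PerfectPull.flatMod_of_isFinLocFree _ (hfl i))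
      hGfl (fun i hi => hab i (Or.inr hi)) hG hβ
  have hQ := isFinLocFree_opcycles P ⟨⟨a₀, b₀, hab⟩, hfl⟩ a hflat
  have hGa : G.IsStrictlyGE a := by
    rw [CochainComplex.isStrictlyGE_iff]
    exact fun i hi => hG i (Or.inl hi)
  obtain ⟨β', hβ'⟩ := exists_factor β a
  refine ⟨P.truncGE a, isStrictlyPerfect_truncGE P ⟨⟨a₀, b₀, hab⟩, hfl⟩ a hQ, ⟨?_⟩⟩
  have hqi : QuasiIso β' := by
    rw [quasiIso_iff]
    intro i
    by_cases hi : a ≤ i
    · have h1 : QuasiIsoAt (P.πTruncGE a) i := P.quasiIsoAt_πTruncGE a i hi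
      have h2 : QuasiIsoAt β i := by
        rw [quasiIsoAt_iff_isIso_homologyMap]
        exact ((isApprox_Q_map_iff β).1 hβ).1 i (by lia)
      rw [← hβ'] at h2
      exact quasiIsoAt_of_comp_left (P.πTruncGE a) β' i
    · rw [quasiIsoAt_iff_exactAt]
      · exact ExactAt.of_isZero (hG i (Or.inl (by lia)))
      · exact ExactAt.of_isZero ((P.truncGE a).isZero_of_isStrictlyGE a i (by lia))
  have : IsIso (DerivedCategory.Q.map β') := by
    rw [DerivedCategory.isIso_Q_map_iff_quasiIso]
    exact hqi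
  exact (asIso (DerivedCategory.Q.map β')).symm

/-- restriction to an open preserves flatness -/
lemma flatMod_restrict {X : Scheme.{u}} (j : W ⟶ X) [IsOpenImmersion j] (M : X.Modules)
    (hM : FlatMod.IsFlat M) : FlatMod.IsFlat ((restrictFunctor j).obj M) :=
  FlatTor.flatMod_of_iso ((restrictFunctorIsoPullback j).app M).symm
    (Stalk.flatMod_pullback j M hM)

/-- local form: a flat complex in `[a, b]` which is `(a-1)`-pseudo-coherent at `x` is perfect
near `x` -/
theorem exists_isSPAlong {X : Scheme.{u}} (F : CochainComplex X.Modules ℤ) (a b : ℤ)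
    (hF : DCoh.VanishesOutside F a b) (hFfl : ∀ i, FlatMod.IsFlat (F.X i)) (x : X)
    (h : IsPCAt (a - 1) F x) :
    ∃ (W : Scheme.{u}) (j : W ⟶ X) (_ : IsOpenImmersion j), x ∈ Set.range j ∧ IsSPAlong j F := by
  obtain ⟨W, j, _, hx, P, β, hP, hβ⟩ := h
  obtain ⟨E', hE', hiso⟩ := exists_strictlyPerfect β a b hP
    (fun i => flatMod_restrict j _ (hFfl i))
    (fun i hi => (restrictFunctor j).map_isZero (hF i hi)) hβ
  exact ⟨W, j, inferInstance, hx, E', hE', hiso⟩

theorem isPerfect_of_flatAmplitude_of_pseudoCoherent {X : Scheme.{u}} (E : DCoh.D X) (a b : ℤ)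
    (h1 : DCoh.HasFlatAmplitudeIn a b E) (h2 : DCoh.IsPseudoCoherentD (a - 1) E) :
    DCoh.IsPerfect E := by
  obtain ⟨F, hF, hFfl, ⟨e⟩⟩ := h1
  exact isPerfect_of_isSPAlong e (fun x =>
    exists_isSPAlong F a b hF hFfl x ((isPseudoCoherentD_iff e (a - 1)).1 h2 x))

end Groth.Agent.H5.PerfectOfFlatPC
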