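import Groth.Agent.H5.SplitNear
import Groth.Agent.H5.PCAlong
import Groth.Agent.H5.PerfectOfFlatPC
import Groth.Agent.H5.LpullPoint
import Groth.Agent.H33.PC.Cycles

/-!
# Structure of a strictly perfect complex near a field point at which its derived fibre is
concentrated in one degree
-/

set_option autoImplicit false
set_option linter.style.haveILetI false
universe u
open CategoryTheory CategoryTheory.Limits AlgebraicGeometry TopologicalSpace Opposite

attribute [local instance] HasDerivedCategory.standard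

namespace Groth.Agent.H5.PointSplit

open Groth.Agent.H5.RankOpen Groth.Agent.H5.PCAlong Groth.Agent.H5.PerfectTriangle Lpull
  Scheme.Modules

attribute [local instance] Lpull.hasLpull

section OpenImm

variable {X W : Scheme.{u}} (j : W ⟶ X) [IsOpenImmersion j]

/-- the derived pullback along an open immersion is the restriction -/
theorem nonempty_Lpull_openImm_iso (G : CochainComplex X.Modules ℤ) :
    Nonempty ((DCoh.Lpull j).obj (DerivedCategory.Q.obj G) ≅
      DerivedCategory.Q.obj ((resCx j).obj G)) := by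
  obtain ⟨P, q, hq, hP, hP'⟩ := LpullComp.exists_resolution j G
  have h1 : IsIso (DerivedCategory.Q.map q) := by
    rw [DerivedCategory.isIso_Q_map_iff_quasiIso]
    exact hq
  have h2 : IsIso (DerivedCategory.Q.map ((resCx j).map q)) := by
    rw [DerivedCategory.isIso_Q_map_iff_quasiIso]
    infer_instance
  exact ⟨(DCoh.Lpull j).mapIso (asIso (DerivedCategory.Q.map q)).symm ≪≫
    LpullIso j P hP ≪≫
    DerivedCategory.Q.mapIso ((NatIso.mapHomologicalComplex
      (Scheme.Modules.restrictFunctorIsoPullback j) (ComplexShape.up ℤ)).app P).symm ≪≫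
    asIso (DerivedCategory.Q.map ((resCx j).map q))⟩

end OpenImm

section Transfer

variable {T W W₁ : Scheme.{u}}

/-- `L k₁^* (L j₁^* K) ≅ L k^* K` when `k = k₁ ≫ j₁` -/
theorem nonempty_Lpull_factor_iso (j₁ : W₁ ⟶ W) (k : T ⟶ W) (k₁ : T ⟶ W₁) (hk : k₁ ≫ j₁ = k)
    (K : DCoh.D W) :
    Nonempty ((DCoh.Lpull k₁).obj ((DCoh.Lpull j₁).obj K) ≅ (DCoh.Lpull k).obj K) := by
  obtain ⟨c⟩ := LpullComp.nonempty_Lpull_comp_iso k₁ j₁
  exact ⟨c.app K ≪≫ (LpullPoint.LpullCongr hk).app K⟩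

end Transfer

section Steps

variable {T : Scheme.{u}} {z : T} (hT : IsFieldPoint T z) {W : Scheme.{u}}

/-- the cohomology of the derived fibre of a strictly perfect complex is computed termwise -/
noncomputable def HDLpullIso (k : T ⟶ W) (P : CochainComplex W.Modules ℤ)
    (hP : DCoh.IsStrictlyPerfect P) (n : ℤ) :
    DCoh.HD ((DCoh.Lpull k).obj (DerivedCategory.Q.obj P)) n ≅
      (((Scheme.Modules.pullback k).mapHomologicalComplex (ComplexShape.up ℤ)).obj P).homology n :=
  (DerivedCategory.homologyFunctor _ n).mapIso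
      (LpullIso k P (PerfectPull.kfl_of_isStrictlyPerfect P hP)) ≪≫
    (DerivedCategory.homologyFunctorFactors _ n).app _

include hT in
lemma range_subset_of_mem {W₁ : Scheme.{u}} (j₁ : W₁ ⟶ W) [IsOpenImmersion j₁] (k : T ⟶ W)
    (h : k z ∈ Set.range j₁.base) : Set.range k.base ⊆ Set.range j₁.base := by
  rintro _ ⟨t, rfl⟩
  have h1 : k ⁻¹ᵁ j₁.opensRange = ⊤ := hT.top _ h
  have : t ∈ k ⁻¹ᵁ j₁.opensRange := by rw [h1]; trivial
  exact this

include hT in
/-- splitting off the top term -/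
theorem top_step (P : CochainComplex W.Modules ℤ) (hP : DCoh.IsStrictlyPerfect P) (a b : ℤ)
    (hab : DCoh.VanishesOutside P a b) (k : T ⟶ W)
    (hb : IsZero (DCoh.HD ((DCoh.Lpull k).obj (DerivedCategory.Q.obj P)) b)) :
    ∃ (W₁ : Scheme.{u}) (j₁ : W₁ ⟶ W) (_ : IsOpenImmersion j₁), k z ∈ Set.range j₁.base ∧
      ∃ P₁ : CochainComplex W₁.Modules ℤ, DCoh.IsStrictlyPerfect P₁ ∧
        DCoh.VanishesOutside P₁ a (b - 1) ∧
        Nonempty (DerivedCategory.Q.obj P₁ ≅ DerivedCategory.Q.obj ((resCx j₁).obj P)) := by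
  let kP := ((Scheme.Modules.pullback k).mapHomologicalComplex (ComplexShape.up ℤ)).obj P
  have hz : IsZero (kP.homology b) := hb.of_iso (HDLpullIso k P hP b).symm
  have hex : (kP.sc' (b - 1) b (b + 1)).Exact :=
    (kP.exactAt_iff' (b - 1) b (b + 1) (by simp) (by simp)).1
      ((HomologicalComplex.exactAt_iff_isZero_homology _ _).2 hz)
  have hg : (kP.sc' (b - 1) b (b + 1)).g = 0 :=
    ((Scheme.Modules.pullback k).map_isZero (hab (b + 1) (Or.inr (by omega)))).eq_of_tgt _ _
  have hepi : Epi ((Scheme.Modules.pullback k).map (P.d (b - 1) b)) :=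
    (ShortComplex.exact_iff_epi _ hg).1 hex
  obtain ⟨W₁, j₁, hj₁, hmem, hsplit⟩ :=
    SplitNear.exists_isSplitEpi hT k (hP.2 (b - 1)) (hP.2 b) (P.d (b - 1) b) hepi
  refine ⟨W₁, j₁, hj₁, hmem, ?_⟩
  let P' := (resCx j₁).obj P
  have hP' : DCoh.IsStrictlyPerfect P' := isStrictlyPerfect_restrict j₁ P hP
  have hab' : DCoh.VanishesOutside P' a b := fun n hn =>
    (restrictFunctor j₁).map_isZero (hab n hn)
  have hepi' : Epi (P'.d (b - 1) b) := by
    change Epi ((restrictFunctor j₁).map (P.d (b - 1) b))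
    infer_instance
  have hexact : ∀ n : ℤ, b - 1 < n → P'.ExactAt n := by
    intro n hn
    by_cases hnb : n = b
    · subst hnb
      rw [P'.exactAt_iff' (n - 1) n (n + 1) (by simp) (by simp)]
      have hg' : (P'.sc' (n - 1) n (n + 1)).g = 0 :=
        (hab' (n + 1) (Or.inr (by omega))).eq_of_tgt _ _
      exact (ShortComplex.exact_iff_epi _ hg').2 hepi'
    · exact HomologicalComplex.ExactAt.of_isZero (hab' n (Or.inr (by omega)))
  haveI : P'.IsLE (b - 1) := (P'.isLE_iff (b - 1)).2 hexact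
  have hcyc : FlatMod.IsFinLocFree (P'.cycles (b - 1)) :=
    Groth.Agent.H33.PC.isFinLocFree_cycles P' hP' (b - 1)
      (fun n hn => (HomologicalComplex.exactAt_iff_isZero_homology _ _).1 (hexact n hn))
      (b - 1) le_rfl
  have hvan : DCoh.VanishesOutside (P'.truncLE (b - 1)) a (b - 1) := by
    intro n hn
    rcases lt_trichotomy n (b - 1) with h | h | h
    · exact (hab' n (Or.inl (by omega))).of_iso (P'.truncLEXIso (b - 1) n h)
    · subst h
      exact (IsZero.of_mono (P'.iCycles (b - 1)) (hab' (b - 1) (Or.inl (by omega)))).of_iso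
        (P'.truncLEXIsoCycles (b - 1))
    · exact (P'.truncLE (b - 1)).isZero_of_isStrictlyLE (b - 1) n h
  refine ⟨P'.truncLE (b - 1), ⟨⟨a, b - 1, hvan⟩, ?_⟩, hvan, ?_⟩
  · intro n
    rcases lt_trichotomy n (b - 1) with h | h | h
    · exact FinLocFreeOps.isFinLocFree_of_iso (P'.truncLEXIso (b - 1) n h).symm (hP'.2 n)
    · subst h
      exact FinLocFreeOps.isFinLocFree_of_iso (P'.truncLEXIsoCycles (b - 1)).symm hcyc
    · exact isFinLocFree_of_isZero _ ((P'.truncLE (b - 1)).isZero_of_isStrictlyLE (b - 1) n h)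
  · have : IsIso (DerivedCategory.Q.map (P'.ιTruncLE (b - 1))) := by
      rw [DerivedCategory.isIso_Q_map_iff_quasiIso]
      infer_instance
    exact ⟨asIso (DerivedCategory.Q.map (P'.ιTruncLE (b - 1)))⟩

/-- the cokernel of a split monomorphism into a finite locally free module is finite locally
free -/
lemma isFinLocFree_cokernel_of_isSplitMono {M N : W.Modules} (φ : M ⟶ N) [IsSplitMono φ]
    (hN : FlatMod.IsFinLocFree N) : FlatMod.IsFinLocFree (cokernel φ) := by
  let r := retraction φ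
  have hr : φ ≫ r = 𝟙 _ := IsSplitMono.id φ
  let s : cokernel φ ⟶ N := cokernel.desc φ (𝟙 N - r ≫ φ) (by
    rw [Preadditive.comp_sub, Category.comp_id, ← Category.assoc, hr, Category.id_comp, sub_self])
  have hs : s ≫ cokernel.π φ = 𝟙 _ := by
    rw [← cancel_epi (cokernel.π φ), ← Category.assoc, cokernel.π_desc, Preadditive.sub_comp,
      Category.id_comp, Category.assoc, cokernel.condition, comp_zero, sub_zero, Category.comp_id]
  exact Groth.Agent.H33.PC.isFinLocFree_of_retract hN s (cokernel.π φ) hs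

include hT in
/-- splitting off the bottom term -/
theorem bottom_step (P : CochainComplex W.Modules ℤ) (hP : DCoh.IsStrictlyPerfect P) (a b : ℤ)
    (hab : DCoh.VanishesOutside P a b) (k : T ⟶ W)
    (ha : IsZero (DCoh.HD ((DCoh.Lpull k).obj (DerivedCategory.Q.obj P)) a)) :
    ∃ (W₁ : Scheme.{u}) (j₁ : W₁ ⟶ W) (_ : IsOpenImmersion j₁), k z ∈ Set.range j₁.base ∧
      ∃ P₁ : CochainComplex W₁.Modules ℤ, DCoh.IsStrictlyPerfect P₁ ∧
        DCoh.VanishesOutside P₁ (a + 1) b ∧
        Nonempty (DerivedCategory.Q.obj P₁ ≅ DerivedCategory.Q.obj ((resCx j₁).obj P)) := by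
  let kP := ((Scheme.Modules.pullback k).mapHomologicalComplex (ComplexShape.up ℤ)).obj P
  have hz : IsZero (kP.homology a) := ha.of_iso (HDLpullIso k P hP a).symm
  have hex : (kP.sc' (a - 1) a (a + 1)).Exact :=
    (kP.exactAt_iff' (a - 1) a (a + 1) (by simp) (by simp)).1
      ((HomologicalComplex.exactAt_iff_isZero_homology _ _).2 hz)
  have hf : (kP.sc' (a - 1) a (a + 1)).f = 0 :=
    ((Scheme.Modules.pullback k).map_isZero (hab (a - 1) (Or.inl (by omega)))).eq_of_src _ _
  have hmono : Mono ((Scheme.Modules.pullback k).map (P.d a (a + 1))) :=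
    (ShortComplex.exact_iff_mono _ hf).1 hex
  obtain ⟨W₁, j₁, hj₁, hmem, hsplit⟩ :=
    SplitNear.exists_isSplitMono hT k (hP.2 a) (hP.2 (a + 1)) (P.d a (a + 1)) hmono
  refine ⟨W₁, j₁, hj₁, hmem, ?_⟩
  let P' := (resCx j₁).obj P
  have hP' : DCoh.IsStrictlyPerfect P' := isStrictlyPerfect_restrict j₁ P hP
  have hab' : DCoh.VanishesOutside P' a b := fun n hn =>
    (restrictFunctor j₁).map_isZero (hab n hn)
  haveI hsplit' : IsSplitMono (P'.d a (a + 1)) := hsplit
  have hexact : ∀ n : ℤ, n < a + 1 → P'.ExactAt n := by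
    intro n hn
    by_cases hna : n = a
    · subst hna
      rw [P'.exactAt_iff' (n - 1) n (n + 1) (by simp) (by simp)]
      have hf' : (P'.sc' (n - 1) n (n + 1)).f = 0 :=
        (hab' (n - 1) (Or.inl (by omega))).eq_of_src _ _
      exact (ShortComplex.exact_iff_mono _ hf').2 (inferInstanceAs (Mono (P'.d n (n + 1))))
    · exact HomologicalComplex.ExactAt.of_isZero (hab' n (Or.inl (by omega)))
  haveI : P'.IsGE (a + 1) := (P'.isGE_iff (a + 1)).2 hexact
  have h2 : (ComplexShape.up ℤ).prev (a + 1) = a := by simp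
  let e₂ : cokernel (P'.d a (a + 1)) ≅ P'.opcycles (a + 1) :=
    ((P'.opcyclesIsCokernel a (a + 1) h2).coconePointUniqueUpToIso (colimit.isColimit _)).symm
  have hQ : FlatMod.IsFinLocFree (P'.opcycles (a + 1)) :=
    FinLocFreeOps.isFinLocFree_of_iso e₂
      (isFinLocFree_cokernel_of_isSplitMono (P'.d a (a + 1)) (hP'.2 (a + 1)))
  have hvan : DCoh.VanishesOutside (P'.truncGE (a + 1)) (a + 1) b := by
    intro n hn
    rcases lt_trichotomy n (a + 1) with h | h | h
    · exact (P'.truncGE (a + 1)).isZero_of_isStrictlyGE (a + 1) n h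
    · subst h
      exact (IsZero.of_epi (P'.pOpcycles (a + 1)) (hab' (a + 1) (Or.inr (by omega)))).of_iso
        (P'.truncGEXIsoOpcycles (a + 1))
    · exact (hab' n (Or.inr (by omega))).of_iso (P'.truncGEXIso (a + 1) n h)
  refine ⟨P'.truncGE (a + 1), PerfectOfFlatPC.isStrictlyPerfect_truncGE P' hP' (a + 1) hQ,
    hvan, ?_⟩
  have : IsIso (DerivedCategory.Q.map (P'.πTruncGE (a + 1))) := by
    rw [DerivedCategory.isIso_Q_map_iff_quasiIso]
    infer_instance
  exact ⟨(asIso (DerivedCategory.Q.map (P'.πTruncGE (a + 1)))).symm⟩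

end Steps

section Main

variable {T : Scheme.{u}} {z : T} (hT : IsFieldPoint T z)

/-- the conclusion of the structure theorem: near the image of the field point, `K` is a finite
locally free module placed in degree `i` -/
def Splits (i : ℤ) {W : Scheme.{u}} (K : DCoh.D W) (k : T ⟶ W) (z : T) : Prop :=
  ∃ (W' : Scheme.{u}) (j : W' ⟶ W) (_ : IsOpenImmersion j), k z ∈ Set.range j.base ∧
    ∃ F : W'.Modules, FlatMod.IsFinLocFree F ∧
      Nonempty ((DCoh.Lpull j).obj K ≅ (DerivedCategory.singleFunctor W'.Modules i).obj F)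

lemma splits_single (i : ℤ) {W : Scheme.{u}} (P : CochainComplex W.Modules ℤ)
    (hP : DCoh.IsStrictlyPerfect P) (hab : DCoh.VanishesOutside P i i) (k : T ⟶ W) :
    Splits i (DerivedCategory.Q.obj P) k z := by
  refine ⟨W, 𝟙 W, inferInstance, ⟨k z, rfl⟩, ?_⟩
  let P' := (resCx (𝟙 W)).obj P
  have hP' : DCoh.IsStrictlyPerfect P' := isStrictlyPerfect_restrict (𝟙 W) P hP
  have hab' : DCoh.VanishesOutside P' i i := fun n hn =>
    (restrictFunctor (𝟙 W)).map_isZero (hab n hn)
  haveI : P'.IsStrictlyGE i := (P'.isStrictlyGE_iff i).2 (fun n hn => hab' n (Or.inl hn))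
  haveI : P'.IsStrictlyLE i := (P'.isStrictlyLE_iff i).2 (fun n hn => hab' n (Or.inr hn))
  obtain ⟨M, ⟨e⟩⟩ := P'.exists_iso_single i
  have hM : FlatMod.IsFinLocFree M :=
    FinLocFreeOps.isFinLocFree_of_iso
      ((HomologicalComplex.eval _ _ i).mapIso e ≪≫
        HomologicalComplex.singleObjXSelf (ComplexShape.up ℤ) i M) (hP'.2 i)
  obtain ⟨o⟩ := nonempty_Lpull_openImm_iso (𝟙 W) P
  exact ⟨M, hM, ⟨o ≪≫ DerivedCategory.Q.mapIso e ≪≫
    (DerivedCategory.singleFunctorIsoCompQ W.Modules i).symm.app M⟩⟩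

lemma splits_of_iso {i : ℤ} {W W₁ : Scheme.{u}} (K : DCoh.D W) (K₁ : DCoh.D W₁) (j₁ : W₁ ⟶ W)
    [IsOpenImmersion j₁] (k : T ⟶ W) (k₁ : T ⟶ W₁) (hk : k₁ ≫ j₁ = k)
    (e : K₁ ≅ (DCoh.Lpull j₁).obj K) (h : Splits i K₁ k₁ z) : Splits i K k z := by
  obtain ⟨W', j₂, hj₂, ⟨w, hw⟩, F, hF, ⟨e'⟩⟩ := h
  refine ⟨W', j₂ ≫ j₁, inferInstance, ⟨w, ?_⟩, F, hF, ?_⟩
  · change j₁.base (j₂.base w) = k.base z
    rw [hw, ← hk]
    rfl
  · obtain ⟨c⟩ := LpullComp.nonempty_Lpull_comp_iso j₂ j₁
    exact ⟨(c.app K).symm ≪≫ (DCoh.Lpull j₂).mapIso e.symm ≪≫ e'⟩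

include hT in
/-- **Structure theorem.** A strictly perfect complex whose derived fibre at a field point has
cohomology only in degree `i` is, near the image of that point, a finite locally free module
placed in degree `i`. -/
theorem splits (i : ℤ) : ∀ (N : ℕ) {W : Scheme.{u}} (P : CochainComplex W.Modules ℤ) (a b : ℤ),
    DCoh.IsStrictlyPerfect P → DCoh.VanishesOutside P a b → b - a < N → ∀ (k : T ⟶ W),
    (∀ n : ℤ, n ≠ i →
      IsZero (DCoh.HD ((DCoh.Lpull k).obj (DerivedCategory.Q.obj P)) n)) →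
    Splits i (DerivedCategory.Q.obj P) k z := by
  intro N
  induction N with
  | zero =>
    intro W P a b hP hab hN k _
    exact splits_single i P hP (fun n _ => hab n (by omega)) k
  | succ N ih =>
    intro W P a b hP hab hN k hzero
    by_cases hba : b < a
    · exact splits_single i P hP (fun n _ => hab n (by omega)) k
    by_cases h1 : i < b
    · obtain ⟨W₁, j₁, hj₁, hmem, P₁, hP₁, hab₁, ⟨e₁⟩⟩ :=
        top_step hT P hP a b hab k (hzero b (ne_of_gt h1))
      let k₁ : T ⟶ W₁ := IsOpenImmersion.lift j₁ k (range_subset_of_mem hT j₁ k hmem)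
      have hk₁ : k₁ ≫ j₁ = k := IsOpenImmersion.lift_fac _ _ _
      obtain ⟨o⟩ := nonempty_Lpull_openImm_iso j₁ P
      let e : DerivedCategory.Q.obj P₁ ≅ (DCoh.Lpull j₁).obj (DerivedCategory.Q.obj P) :=
        e₁ ≪≫ o.symm
      obtain ⟨f⟩ := nonempty_Lpull_factor_iso j₁ k k₁ hk₁ (DerivedCategory.Q.obj P)
      have hyp : ∀ n : ℤ, n ≠ i →
          IsZero (DCoh.HD ((DCoh.Lpull k₁).obj (DerivedCategory.Q.obj P₁)) n) := fun n hn =>
        (hzero n hn).of_iso ((DerivedCategory.homologyFunctor _ n).mapIso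
          ((DCoh.Lpull k₁).mapIso e ≪≫ f))
      exact splits_of_iso _ _ j₁ k k₁ hk₁ e (ih P₁ a (b - 1) hP₁ hab₁ (by omega) k₁ hyp)
    by_cases h2 : a < i
    · obtain ⟨W₁, j₁, hj₁, hmem, P₁, hP₁, hab₁, ⟨e₁⟩⟩ :=
        bottom_step hT P hP a b hab k (hzero a (ne_of_lt h2))
      let k₁ : T ⟶ W₁ := IsOpenImmersion.lift j₁ k (range_subset_of_mem hT j₁ k hmem)
      have hk₁ : k₁ ≫ j₁ = k := IsOpenImmersion.lift_fac _ _ _
      obtain ⟨o⟩ := nonempty_Lpull_openImm_iso j₁ P
      let e : DerivedCategory.Q.obj P₁ ≅ (DCoh.Lpull j₁).obj (DerivedCategory.Q.obj P) :=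
        e₁ ≪≫ o.symm
      obtain ⟨f⟩ := nonempty_Lpull_factor_iso j₁ k k₁ hk₁ (DerivedCategory.Q.obj P)
      have hyp : ∀ n : ℤ, n ≠ i →
          IsZero (DCoh.HD ((DCoh.Lpull k₁).obj (DerivedCategory.Q.obj P₁)) n) := fun n hn =>
        (hzero n hn).of_iso ((DerivedCategory.homologyFunctor _ n).mapIso
          ((DCoh.Lpull k₁).mapIso e ≪≫ f))
      exact splits_of_iso _ _ j₁ k k₁ hk₁ e (ih P₁ (a + 1) b hP₁ hab₁ (by omega) k₁ hyp)
    · have ha : a = i := by omega
      have hb : b = i := by omega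
      rw [ha, hb] at hab
      exact splits_single i P hP hab k

end Main

end Groth.Agent.H5.PointSplit
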