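import Groth.Agent.H5.TildeFlat
import Groth.Agent.H44.PullbackTilde
import Mathlib.Algebra.Homology.DerivedCategory.ExactFunctor

/-!
# `Lf^* ∘ ~ ≅ ~ ∘ (- ⊗^L_R S)` for `f = Spec (R → S)`
-/

set_option autoImplicit false
universe u
open CategoryTheory CategoryTheory.Limits AlgebraicGeometry ZeroObject

attribute [local instance] HasDerivedCategory.standard

namespace Groth.Agent.H5.TildeLpull

open Lpull FlatTor KFlatScheme LeftDerivCrit

variable {R S : CommRingCat.{u}} (ψ : R ⟶ S)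

/-- the functor `M ↦ f^* (M^~)` -/
noncomputable abbrev F : ModuleCat.{u} R ⥤ (Spec S).Modules :=
  tilde.functor R ⋙ Scheme.Modules.pullback (Spec.map ψ)

/-- the induced functor `K(R) ⥤ D(Spec S)` -/
noncomputable abbrev GF : HomotopyCategory (ModuleCat.{u} R) (ComplexShape.up ℤ) ⥤
    DCoh.D (Spec S) :=
  (F ψ).mapHomotopyCategory (ComplexShape.up ℤ) ⋙ DerivedCategory.Qh

/-- `(- ⊗ S)_K ⋙ (~)_K ≅ (f^* ∘ ~)_K` -/
noncomputable def compIso₂ :
    (ModuleCat.extendScalars.{u, u, u} ψ.hom).mapHomotopyCategory (ComplexShape.up ℤ) ⋙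
      (tilde.functor S).mapHomotopyCategory (ComplexShape.up ℤ) ≅
    (F ψ).mapHomotopyCategory (ComplexShape.up ℤ) :=
  haveI : Functor.Additive (C := ModuleCat.{u} R) (D := (Spec S).Modules)
      (ModuleCat.extendScalars.{u, u, u} ψ.hom ⋙ tilde.functor S) :=
    Functor.instAdditiveComp (ModuleCat.extendScalars.{u, u, u} ψ.hom) (tilde.functor S)
  (mapHomotopyCategoryCompIso (ComplexShape.up ℤ)
      (ModuleCat.extendScalars.{u, u, u} ψ.hom) (tilde.functor S)) ≪≫
  (mapHomotopyCategoryIso (ComplexShape.up ℤ)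
        (Groth.Agent.H44.pullbackTildeIso ψ)).symm

variable [PreservesFiniteLimits (tilde.functor R)] [PreservesFiniteLimits (tilde.functor S)]

section

variable [DCoh.HasLpull (Spec.map ψ)]

/-- the candidate counit for `~ ⋙ Lf^*` -/
noncomputable def β₁ :
    DerivedCategory.Qh ⋙ (DCoh.tildeD R ⋙ DCoh.Lpull (Spec.map ψ)) ⟶ GF ψ :=
  (Functor.associator _ _ _).inv ≫
    Functor.whiskerRight (tilde.functor R).mapDerivedCategoryFactorsh.hom _ ≫
    (Functor.associator _ _ _).hom ≫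
    Functor.whiskerLeft ((tilde.functor R).mapHomotopyCategory (ComplexShape.up ℤ))
      (LpullComp.counit (Spec.map ψ)) ≫
    (Functor.associator _ _ _).inv ≫
    Functor.whiskerRight (mapHomotopyCategoryCompIso (ComplexShape.up ℤ) (tilde.functor R)
      (Scheme.Modules.pullback (Spec.map ψ))).hom DerivedCategory.Qh

lemma isIso_β₁_app (K : CochainComplex (ModuleCat.{u} R) ℤ)
    (hK : kfl (((tilde.functor R).mapHomologicalComplex (ComplexShape.up ℤ)).obj K)) :
    IsIso ((β₁ ψ).app ((HomotopyCategory.quotient _ _).obj K)) := by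
  have h2 : IsIso ((LpullComp.counit (Spec.map ψ)).app
      (((tilde.functor R).mapHomotopyCategory (ComplexShape.up ℤ)).obj
        ((HomotopyCategory.quotient _ _).obj K))) :=
    Lpull.isIso_counit (Spec.map ψ) _ hK
  simp only [β₁, NatTrans.comp_app, Functor.associator_inv_app, Functor.associator_hom_app,
    Functor.whiskerRight_app, Functor.whiskerLeft_app, Category.id_comp]
  infer_instance

end

section

variable [DRing.HasLBaseChange ψ.hom]

/-- the counit of derived base change -/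
noncomputable abbrev counitBC :
    DerivedCategory.Qh ⋙ DRing.LBaseChange ψ.hom ⟶ DRing.baseChangeKh ψ.hom :=
  (DRing.baseChangeKh ψ.hom).totalLeftDerivedCounit DerivedCategory.Qh
    (HomotopyCategory.quasiIso (ModuleCat.{u} R) (ComplexShape.up ℤ))

/-- the candidate counit for `(- ⊗^L S) ⋙ ~` -/
noncomputable def β₂ :
    DerivedCategory.Qh ⋙ (DRing.LBaseChange ψ.hom ⋙ DCoh.tildeD S) ⟶ GF ψ :=
  (Functor.associator _ _ _).inv ≫
    Functor.whiskerRight (counitBC ψ) (DCoh.tildeD S) ≫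
    (Functor.associator _ _ _).hom ≫
    Functor.whiskerLeft ((ModuleCat.extendScalars.{u, u, u} ψ.hom).mapHomotopyCategory
      (ComplexShape.up ℤ)) (tilde.functor S).mapDerivedCategoryFactorsh.hom ≫
    (Functor.associator _ _ _).inv ≫
    Functor.whiskerRight (compIso₂ ψ).hom DerivedCategory.Qh

lemma isIso_β₂_app (K : CochainComplex (ModuleCat.{u} R) ℤ)
    (hK : Groth.Agent.H35.KF.IsKFlat K) :
    IsIso ((β₂ ψ).app ((HomotopyCategory.quotient _ _).obj K)) := by
  have h2 : IsIso ((counitBC ψ).app ((HomotopyCategory.quotient _ _).obj K)) :=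
    Groth.Agent.H35.LT.isIso_counit (Groth.Agent.H35.LT.kfAcyclic_extendScalars ψ.hom) K hK
  simp only [β₂, NatTrans.comp_app, Functor.associator_inv_app, Functor.associator_hom_app,
    Functor.whiskerRight_app, Functor.whiskerLeft_app, Category.id_comp]
  infer_instance

end

/-- an exact functor preserves acyclic complexes -/
lemma exactAt_map_of_exact {𝒜 ℬ : Type*} [Category 𝒜] [Abelian 𝒜] [Category ℬ] [Abelian ℬ]
    (T : 𝒜 ⥤ ℬ) [T.Additive] [PreservesFiniteLimits T] [PreservesFiniteColimits T]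
    (K : CochainComplex 𝒜 ℤ) (hK : ∀ i, K.ExactAt i) (j : ℤ) :
    ((T.mapHomologicalComplex (ComplexShape.up ℤ)).obj K).ExactAt j :=
  AcyclicMap.exactAt_map K T
    (fun i j hij => (AcyclicMap.cyclesSC_shortExact K i j hij (hK j)).map_of_exact T) j

/-- `M ↦ f^*(M^~)` sends acyclic K-flat complexes to acyclic complexes -/
lemma kfAcyclic_F : Groth.Agent.H35.LT.KFAcyclic (F ψ) := by
  intro P hP hP' i
  have h1 := Groth.Agent.H35.LT.kfAcyclic_extendScalars ψ.hom P hP hP'
  have h2 := exactAt_map_of_exact (tilde.functor S) _ h1 i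
  rw [HomologicalComplex.exactAt_iff_isZero_homology] at h2 ⊢
  haveI : Functor.Additive (C := ModuleCat.{u} R) (D := (Spec S).Modules)
      (ModuleCat.extendScalars.{u, u, u} ψ.hom ⋙ tilde.functor S) :=
    Functor.instAdditiveComp (ModuleCat.extendScalars.{u, u, u} ψ.hom) (tilde.functor S)
  exact h2.of_iso ((HomologicalComplex.homologyFunctor _ _ i).mapIso
    ((NatIso.mapHomologicalComplex (Groth.Agent.H44.pullbackTildeIso ψ)
      (ComplexShape.up ℤ)).app P))

/-- `(- ⊗^L_R S) ⋙ ~ ≅ ~ ⋙ L(Spec ψ)^*`. -/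
theorem nonempty_iso [DRing.HasLBaseChange ψ.hom] [DCoh.HasLpull (Spec.map ψ)] :
    Nonempty (DRing.LBaseChange ψ.hom ⋙ DCoh.tildeD S ≅
      DCoh.tildeD R ⋙ DCoh.Lpull (Spec.map ψ)) := by
  have hF := kfAcyclic_F ψ
  haveI := Groth.Agent.H35.LT.hasLeftDerivedFunctor hF
  let P : HomotopyCategory (ModuleCat.{u} R) (ComplexShape.up ℤ) → Prop := fun K =>
    ∃ K₀ : CochainComplex (ModuleCat.{u} R) ℤ, Groth.Agent.H35.KF.IsKFlat K₀ ∧
      kfl (((tilde.functor R).mapHomologicalComplex (ComplexShape.up ℤ)).obj K₀) ∧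
      K = (HomotopyCategory.quotient _ _).obj K₀
  have hP : ∀ Y : DerivedCategory (ModuleCat.{u} R), ∃ X, P X ∧
      Nonempty (DerivedCategory.Qh.obj X ≅ Y) := by
    intro E
    obtain ⟨G, ⟨e⟩⟩ : ∃ G : CochainComplex (ModuleCat.{u} R) ℤ,
        Nonempty (DerivedCategory.Q.obj G ≅ E) := ⟨_, ⟨DerivedCategory.Q.objObjPreimageIso E⟩⟩
    obtain ⟨K, q, hq, hK, hK'⟩ := TildeFlat.exists_resolution R G
    have : IsIso (DerivedCategory.Q.map q) := by
      rw [DerivedCategory.isIso_Q_map_iff_quasiIso]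
      exact hq
    exact ⟨_, ⟨K, hK, hK', rfl⟩,
      ⟨(DerivedCategory.quotientCompQhIso (ModuleCat.{u} R)).app K ≪≫
        asIso (DerivedCategory.Q.map q) ≪≫ e⟩⟩
  have h₀ : ∀ X, P X → IsIso (((GF ψ).totalLeftDerivedCounit DerivedCategory.Qh
      (HomotopyCategory.quasiIso (ModuleCat.{u} R) (ComplexShape.up ℤ))).app X) := by
    rintro _ ⟨K₀, hK, -, rfl⟩
    exact Groth.Agent.H35.LT.isIso_counit hF K₀ hK
  obtain ⟨e₁⟩ := nonempty_iso_of_isIso_on DerivedCategory.Qh
    (HomotopyCategory.quasiIso (ModuleCat.{u} R) (ComplexShape.up ℤ))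
    ((GF ψ).totalLeftDerived DerivedCategory.Qh
      (HomotopyCategory.quasiIso (ModuleCat.{u} R) (ComplexShape.up ℤ)))
    ((GF ψ).totalLeftDerivedCounit DerivedCategory.Qh
      (HomotopyCategory.quasiIso (ModuleCat.{u} R) (ComplexShape.up ℤ)))
    _ (β₁ ψ) P hP h₀ (by
      rintro _ ⟨K₀, -, hK, rfl⟩
      exact isIso_β₁_app ψ K₀ hK)
  obtain ⟨e₂⟩ := nonempty_iso_of_isIso_on DerivedCategory.Qh
    (HomotopyCategory.quasiIso (ModuleCat.{u} R) (ComplexShape.up ℤ))
    ((GF ψ).totalLeftDerived DerivedCategory.Qh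
      (HomotopyCategory.quasiIso (ModuleCat.{u} R) (ComplexShape.up ℤ)))
    ((GF ψ).totalLeftDerivedCounit DerivedCategory.Qh
      (HomotopyCategory.quasiIso (ModuleCat.{u} R) (ComplexShape.up ℤ)))
    _ (β₂ ψ) P hP h₀ (by
      rintro _ ⟨K₀, hK, -, rfl⟩
      exact isIso_β₂_app ψ K₀ hK)
  exact ⟨e₂ ≪≫ e₁.symm⟩

end Groth.Agent.H5.TildeLpull
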