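import Mathlib
import Groth.Agent.H16.K0DerC
import Groth.Agent.S9514
import Groth.Agent.H12.CohOpen
import Groth.Agent.H33.PC.NoethCoh
import Groth.Agent.H5.PCAlong
import Groth.Agent.H5.PerfectPull
import Groth.Prelude.Def_DCoh2

/-!
# `K₀` of coherent modules and of the bounded derived category with coherent cohomology
-/

set_option autoImplicit false
set_option linter.style.haveILetI false
universe u
open CategoryTheory CategoryTheory.Limits AlgebraicGeometry ZeroObject

attribute [local instance] HasDerivedCategory.standard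

namespace Groth.Agent.H5.K0Coh

variable {X : Scheme.{u}}

theorem isCoh_iso {M N : X.Modules} (e : M ≅ N) (h : Coh.IsCoh M) : Coh.IsCoh N := by
  haveI : M.IsQuasicoherent := h.1
  haveI : N.IsQuasicoherent := Groth.Agent.H12.QCohAbelian.isQuasicoherent_of_iso e
  exact ⟨inferInstance, Groth.Agent.H12.CohOpen.isFiniteType_of_iso e.symm h.2⟩

theorem isCoh_of_isZero (M : X.Modules) (h : IsZero M) : Coh.IsCoh M :=
  ⟨PerfectPull.isQuasicoherent_of_isFinLocFree _ (PCAlong.isFinLocFree_of_isZero _ h),
    Groth.Agent.H33.PC.isFT_of_isFinLocFree _ (PCAlong.isFinLocFree_of_isZero _ h)⟩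

/-- the property of being coherent -/
def cohP (X : Scheme.{u}) : ObjectProperty X.Modules := fun M => Coh.IsCoh M

instance : (cohP X).IsClosedUnderIsomorphisms where
  of_iso e h := isCoh_iso e h

instance : (cohP X).ContainsZero where
  exists_zero := ⟨0, isZero_zero _, isCoh_of_isZero _ (isZero_zero _)⟩

instance [IsLocallyNoetherian X] : (cohP X).IsClosedUnderKernels where
  kernels_le := by
    rintro _ ⟨f, k, hk, hf⟩
    have h1 : Coh.IsCoh (kernel f) := (Groth.Agent.S9514.result X hf.1 hf.2 f).1
    exact isCoh_iso (IsLimit.conePointUniqueUpToIso (kernelIsKernel f) hk) h1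

end Groth.Agent.H5.K0Coh
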