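import Groth.Agent.H45.LDer.LTensorCx
import Groth.Agent.H45.KFlat.TensorKFlat
import Groth.Prelude.Def_DCoh4

/-!
# The derived tensor product with a K-flat complex on a scheme is computed termwise
-/

set_option autoImplicit false
universe u
open CategoryTheory CategoryTheory.Limits AlgebraicGeometry

attribute [local instance] HasDerivedCategory.standard

namespace Groth.Agent.H5.LTensorKFlat

variable {X : Scheme.{u}} (E : CochainComplex X.Modules ℤ)

theorem isInvertedBy_tensorCxQ (hE : DCoh.IsKFlat E) :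
    (HomologicalComplex.quasiIso X.Modules (ComplexShape.up ℤ)).IsInvertedBy
      (DCoh.tensorCxQ E) :=
  Groth.Agent.H45.LDer.isInvertedBy_tensorCxQ (O := X.sheaf) hE

theorem isIso_counit (hE : DCoh.IsKFlat E) [DCoh.HasLTensorCx E] :
    IsIso ((DCoh.tensorCxQ E).totalLeftDerivedCounit DerivedCategory.Q
      (HomologicalComplex.quasiIso X.Modules (ComplexShape.up ℤ))) :=
  Functor.isIso_of_isLeftDerivedFunctor_of_inverts _ _ (isInvertedBy_tensorCxQ E hE)

/-- for `E` K-flat, `M ⊗^L E` is `M ⊗ E` -/
noncomputable def LTensorCxIso (hE : DCoh.IsKFlat E) [DCoh.HasLTensorCx E]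
    (M : CochainComplex X.Modules ℤ) :
    (DCoh.LTensorCx E).obj (DerivedCategory.Q.obj M) ≅
      DerivedCategory.Q.obj ((DCoh.tensorCx.obj M).obj E) :=
  haveI := isIso_counit E hE
  (asIso ((DCoh.tensorCxQ E).totalLeftDerivedCounit DerivedCategory.Q
    (HomologicalComplex.quasiIso X.Modules (ComplexShape.up ℤ)))).app M

/-- the tensor product of two K-flat complexes is K-flat -/
theorem isKFlat_tensorCx {K L : CochainComplex X.Modules ℤ} (hK : DCoh.IsKFlat K)
    (hL : DCoh.IsKFlat L) : DCoh.IsKFlat ((DCoh.tensorCx.obj K).obj L) :=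
  Groth.Agent.H45.isKFlat_tensorCx (O := X.sheaf) hK hL

end Groth.Agent.H5.LTensorKFlat
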