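import Groth.Agent.H5.Lpull
import Groth.Agent.H5.KFlatScheme
import Groth.Agent.H5.Stalk.KFlat
import Groth.Agent.H5.Stalk.PullbackStalk
import Groth.Agent.H35.LTensorRing

/-!
# The derived pullback is computed termwise on all K-flat complexes
-/

set_option autoImplicit false
universe u
open CategoryTheory CategoryTheory.Limits AlgebraicGeometry
  Groth.Agent.H5.Stalk Groth.Agent.H5.Stalk.TensorCx

attribute [local instance] HasDerivedCategory.standard

namespace Groth.Agent.H5.LpullKFlat

variable {X Y : Scheme.{u}}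

/-- the stalk of the termwise pullback of a complex -/
noncomputable def stalkPullCxIso (f : X ⟶ Y) (x : X) (P : CochainComplex Y.Modules ℤ) :
    stalkCx x (((Scheme.Modules.pullback f).mapHomologicalComplex (ComplexShape.up ℤ)).obj P) ≅
      ((ModuleCat.extendScalars (f.stalkMap x).hom).mapHomologicalComplex (ComplexShape.up ℤ)).obj
        (stalkCx (f x) P) :=
  HomologicalComplex.Hom.isoOfComponents (fun n => (pullbackStalkIso f x).app (P.X n))
    (fun i j _ => ((pullbackStalkIso f x).hom.naturality (P.d i j)).symm)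

/-- The termwise pullback of an acyclic K-flat complex is acyclic. -/
theorem exactAt_pullback_of_isKFlat (f : X ⟶ Y) (P : CochainComplex Y.Modules ℤ)
    (hP : KFlatScheme.kf P) (hP' : ∀ i, P.ExactAt i) (i : ℤ) :
    (((Scheme.Modules.pullback f).mapHomologicalComplex (ComplexShape.up ℤ)).obj P).ExactAt i := by
  rw [exactAt_iff_stalk]
  intro x
  have h1 : ∀ j, (stalkCx (f x) P).ExactAt j := fun j => (exactAt_iff_stalk P j).1 (hP' j) (f x)
  have h2 := Groth.Agent.H35.LT.kfAcyclic_extendScalars (f.stalkMap x).hom (stalkCx (f x) P)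
    (Groth.Agent.H5.Stalk.KFlat.isKFlat_stalk P hP (f x)) h1 i
  rw [HomologicalComplex.exactAt_iff_isZero_homology] at h2 ⊢
  exact h2.of_iso ((HomologicalComplex.homologyFunctor _ _ i).mapIso (stalkPullCxIso f x P))

/-- The counit of the derived pullback is an isomorphism on K-flat complexes. -/
theorem isIso_counit (f : X ⟶ Y) [DCoh.HasLpull f] (K : CochainComplex Y.Modules ℤ)
    (hK : DCoh.IsKFlat K) :
    IsIso (((DCoh.pullKh f).totalLeftDerivedCounit DerivedCategory.Qh
      (HomotopyCategory.quasiIso Y.Modules (ComplexShape.up ℤ))).app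
        ((HomotopyCategory.quotient _ _).obj K)) :=
  ResDerivLeft.isIso_counit KFlatScheme.hyp (Scheme.Modules.pullback f)
    (exactAt_pullback_of_isKFlat f) DerivedCategory.Qh _ _ K hK

/-- On a K-flat complex, the derived pullback is computed termwise. -/
noncomputable def LpullIso (f : X ⟶ Y) [DCoh.HasLpull f]
    (K : CochainComplex Y.Modules ℤ) (hK : DCoh.IsKFlat K) :
    (DCoh.Lpull f).obj (DCoh.toD Y K) ≅
      DCoh.toD X (((Scheme.Modules.pullback f).mapHomologicalComplex (ComplexShape.up ℤ)).obj K) :=
  haveI := isIso_counit f K hK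
  (DCoh.Lpull f).mapIso ((DerivedCategory.quotientCompQhIso Y.Modules).app K).symm ≪≫
    asIso (((DCoh.pullKh f).totalLeftDerivedCounit DerivedCategory.Qh
      (HomotopyCategory.quasiIso Y.Modules (ComplexShape.up ℤ))).app
        ((HomotopyCategory.quotient _ _).obj K)) ≪≫
    DerivedCategory.Qh.mapIso
      (((Scheme.Modules.pullback f).mapHomotopyCategoryFactors (ComplexShape.up ℤ)).app K) ≪≫
    (DerivedCategory.quotientCompQhIso X.Modules).app _

end Groth.Agent.H5.LpullKFlat
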