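import Groth.Agent.H5.PullbackTensor
import Groth.Agent.H35.TotalMap
import Groth.Prelude.Def_DCoh4

/-!
# The pullback of complexes of modules commutes with the tensor product of complexes
-/

set_option autoImplicit false
universe u
open CategoryTheory CategoryTheory.Limits AlgebraicGeometry TopologicalSpace Opposite
  Groth.Agent.H35.TotalMap

namespace Groth.Agent.H5.PullbackTensor

variable {X Y : Scheme.{u}} (f : X ⟶ Y) (K L : CochainComplex Y.Modules ℤ)

/-- termwise pullback of a complex -/
noncomputable abbrev pullCx (K : CochainComplex Y.Modules ℤ) : CochainComplex X.Modules ℤ :=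
  ((Scheme.Modules.pullback f).mapHomologicalComplex (ComplexShape.up ℤ)).obj K

/-- the bicomplex `K^p ⊗ L^q` -/
noncomputable abbrev bic {Z : Scheme.{u}} (K L : CochainComplex Z.Modules ℤ) :
    HomologicalComplex₂ Z.Modules (ComplexShape.up ℤ) (ComplexShape.up ℤ) :=
  ((DCoh.tensorBi.mapBifunctorHomologicalComplex (ComplexShape.up ℤ) (ComplexShape.up ℤ)).obj
    K).obj L

/-- the comparison of bicomplexes -/
noncomputable def μc : mapBicomplex (bic K L) (Scheme.Modules.pullback f) ⟶
    bic (pullCx f K) (pullCx f L) :=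
  HomologicalComplex₂.homMk (fun ⟨p, q⟩ => μ f (K.X p) (L.X q))
    (fun p p' q _ => (μ_naturality_left f (K.d p p') (L.X q)).symm)
    (fun p q q' _ => (μ_naturality_right f (K.X p) (L.d q q')).symm)

instance isIso_μc : IsIso (μc f K L) := by
  have : ∀ p, IsIso ((μc f K L).f p) := fun p => by
    have : ∀ q, IsIso (((μc f K L).f p).f q) := fun q => by
      change IsIso (μ f (K.X p) (L.X q))
      infer_instance
    exact HomologicalComplex.Hom.isIso_of_components _
  exact HomologicalComplex.Hom.isIso_of_components _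

/-- `f^*(K ⊗ L) ≅ f^*K ⊗ f^*L` for complexes -/
noncomputable def pullbackTotIso :
    pullCx f ((DCoh.tensorCx.obj K).obj L) ≅ (DCoh.tensorCx.obj (pullCx f K)).obj (pullCx f L) :=
  totalMapIso (bic K L) (ComplexShape.up ℤ) (Scheme.Modules.pullback f) ≪≫
    HomologicalComplex₂.total.mapIso (asIso (μc f K L)) (ComplexShape.up ℤ)

end Groth.Agent.H5.PullbackTensor
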