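import Groth.Agent.H5.FinLocFreeOps
import Groth.Agent.H5.PerfectPull
import Groth.Agent.H5.LTensorKFlat
import Groth.Agent.H5.PullbackTensorCx
import Groth.Agent.H5.LpullKFlat
import Groth.Agent.S0952

/-!
# The derived tensor product of perfect complexes is perfect
-/

set_option autoImplicit false
universe u
open CategoryTheory CategoryTheory.Limits AlgebraicGeometry ZeroObject HomologicalComplex

attribute [local instance] HasDerivedCategory.standard

namespace Groth.Agent.H5.PerfectTensor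

variable {X : Scheme.{u}}

/-- The tensor product of two strictly perfect complexes is strictly perfect. -/
theorem isStrictlyPerfect_tensorCx (E₁ E₂ : CochainComplex X.Modules ℤ)
    (h₁ : DCoh.IsStrictlyPerfect E₁) (h₂ : DCoh.IsStrictlyPerfect E₂) :
    DCoh.IsStrictlyPerfect ((DCoh.tensorCx.obj E₁).obj E₂) := by
  obtain ⟨⟨a₁, b₁, hab₁⟩, hf₁⟩ := h₁
  obtain ⟨⟨a₂, b₂, hab₂⟩, hf₂⟩ := h₂
  refine ⟨⟨a₁ + a₂, b₁ + b₂, fun n hn => ?_⟩, fun n => ?_⟩
  · refine Groth.Agent.H45.LDer.isZero_mapBifunctor_X (O := X.sheaf) E₁ E₂ n (fun p q hpq => ?_)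
    by_cases hp : p < a₁ ∨ b₁ < p
    · exact Or.inl (hab₁ p hp)
    · refine Or.inr (hab₂ q ?_)
      push_neg at hp
      omega
  · let π := ComplexShape.π (ComplexShape.up ℤ) (ComplexShape.up ℤ) (ComplexShape.up ℤ)
    let G : GradedObject (ℤ × ℤ) X.Modules :=
      ((((DCoh.tensorBi (X := X)).mapBifunctorHomologicalComplex _ _).obj E₁).obj E₂).toGradedObject
    refine Groth.Agent.H5.FinLocFreeOps.isFinLocFree_of_isColimit_cofan (G.mapObjFun π n)
      (G.cofanMapObj π n) (G.isColimitCofanMapObj π n)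
      ((fun i : π ⁻¹' {n} => i.1.1) ⁻¹' (Set.Icc a₁ b₁)) ?_ ?_ ?_
    · refine Set.Finite.preimage ?_ (Set.finite_Icc a₁ b₁)
      rintro ⟨⟨p, q⟩, hpq⟩ - ⟨⟨p', q'⟩, hpq'⟩ - (h : p = p')
      subst h
      have h1 : p + q = n := hpq
      have h2 : p + q' = n := hpq'
      have : q = q' := by omega
      subst this
      rfl
    · rintro ⟨⟨p, q⟩, hpq⟩ hi
      have hp : p < a₁ ∨ b₁ < p := by
        by_contra hcon
        push_neg at hcon
        exact hi ⟨hcon.1, hcon.2⟩
      exact Groth.Agent.H45.LDer.isZero_tensorBi_obj_obj_left (O := X.sheaf) (hab₁ p hp) _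
    · rintro ⟨⟨p, q⟩, hpq⟩
      exact Groth.Agent.H5.FinLocFreeOps.isFinLocFree_tensor _ _ (hf₁ p) (hf₂ q)

/-- A functor inverting quasi-isomorphisms sends complexes which are isomorphic in the derived
category to isomorphic objects. -/
noncomputable def isoOfIsInvertedBy {A : Type*} [Category A] [Abelian A] [HasDerivedCategory A]
    {D' : Type*} [Category D'] (F : CochainComplex A ℤ ⥤ D')
    (hF : (HomologicalComplex.quasiIso A (ComplexShape.up ℤ)).IsInvertedBy F)
    {K L : CochainComplex A ℤ} (e : DerivedCategory.Q.obj K ≅ DerivedCategory.Q.obj L) :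
    F.obj K ≅ F.obj L :=
  ((Localization.fac F hF DerivedCategory.Q).app K).symm ≪≫
    (Localization.lift F hF DerivedCategory.Q).mapIso e ≪≫
    (Localization.fac F hF DerivedCategory.Q).app L

/-- tensoring (on the right) with a K-flat complex respects isomorphisms in the derived category -/
noncomputable def tensorRightIso (E : CochainComplex X.Modules ℤ) (hE : DCoh.IsKFlat E)
    {A B : CochainComplex X.Modules ℤ} (e : DerivedCategory.Q.obj A ≅ DerivedCategory.Q.obj B) :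
    DerivedCategory.Q.obj ((DCoh.tensorCx.obj A).obj E) ≅
      DerivedCategory.Q.obj ((DCoh.tensorCx.obj B).obj E) :=
  isoOfIsInvertedBy (DCoh.tensorCxQ E) (LTensorKFlat.isInvertedBy_tensorCxQ E hE) e

lemma isInvertedBy_tensorCx_obj (E : CochainComplex X.Modules ℤ) (hE : DCoh.IsKFlat E) :
    (HomologicalComplex.quasiIso X.Modules (ComplexShape.up ℤ)).IsInvertedBy
      (DCoh.tensorCx.obj E ⋙ DerivedCategory.Q) := by
  intro K L φ hφ
  have : QuasiIso φ := hφ
  have : QuasiIso ((DCoh.tensorCx.obj E).map φ) :=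
    @Groth.Agent.H45.quasiIso_mapBifunctorMap_right _ _ _ X.sheaf E
      (Groth.Agent.H45.isZero_homology_mapBifunctor_left_of_isKFlat (O := X.sheaf) hE) K L φ hφ
  exact inferInstanceAs (IsIso (DerivedCategory.Q.map ((DCoh.tensorCx.obj E).map φ)))

/-- tensoring (on the left) with a K-flat complex respects isomorphisms in the derived category -/
noncomputable def tensorLeftIso (E : CochainComplex X.Modules ℤ) (hE : DCoh.IsKFlat E)
    {A B : CochainComplex X.Modules ℤ} (e : DerivedCategory.Q.obj A ≅ DerivedCategory.Q.obj B) :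
    DerivedCategory.Q.obj ((DCoh.tensorCx.obj E).obj A) ≅
      DerivedCategory.Q.obj ((DCoh.tensorCx.obj E).obj B) :=
  isoOfIsInvertedBy (DCoh.tensorCx.obj E ⋙ DerivedCategory.Q) (isInvertedBy_tensorCx_obj E hE) e

/-- `F|_V` is represented by a strictly perfect complex -/
def IsSPOn (F : CochainComplex X.Modules ℤ) (V : X.Opens) : Prop :=
  ∃ E : CochainComplex (V : Scheme.{u}).Modules ℤ, DCoh.IsStrictlyPerfect E ∧
    Nonempty (DerivedCategory.Q.obj ((DCoh.restrictCx V).obj F) ≅ DerivedCategory.Q.obj E)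

/-- restriction in two steps -/
noncomputable def restrictCxLE {V' V : X.Opens} (h : V' ≤ V) (F : CochainComplex X.Modules ℤ) :
    (DCoh.restrictCx V').obj F ≅
      ((Scheme.Modules.restrictFunctor (X.homOfLE h)).mapHomologicalComplex
        (ComplexShape.up ℤ)).obj ((DCoh.restrictCx V).obj F) :=
  (NatIso.mapHomologicalComplex
    (Scheme.Modules.restrictFunctorCongr (X.homOfLE_ι h).symm ≪≫
      Scheme.Modules.restrictFunctorComp (X.homOfLE h) V.ι) (ComplexShape.up ℤ)).app F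

theorem isSPOn_of_le {V' V : X.Opens} (h : V' ≤ V) (F : CochainComplex X.Modules ℤ)
    (hF : IsSPOn F V) : IsSPOn F V' := by
  obtain ⟨E, hE, ⟨e⟩⟩ := hF
  let R := Scheme.Modules.restrictFunctor (X.homOfLE h)
  refine ⟨((Scheme.Modules.pullback (X.homOfLE h)).mapHomologicalComplex
    (ComplexShape.up ℤ)).obj E, PerfectPull.isStrictlyPerfect_pullback _ E hE, ⟨?_⟩⟩
  exact DerivedCategory.Q.mapIso (restrictCxLE h F) ≪≫
    (R.mapDerivedCategoryFactors.app _).symm ≪≫ R.mapDerivedCategory.mapIso e ≪≫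
    R.mapDerivedCategoryFactors.app E ≪≫
    DerivedCategory.Q.mapIso ((NatIso.mapHomologicalComplex
      (Scheme.Modules.restrictFunctorIsoPullback (X.homOfLE h)) (ComplexShape.up ℤ)).app E)

/-- restriction respects isomorphisms in the derived category -/
noncomputable def restrictQIso (V : X.Opens) {A B : CochainComplex X.Modules ℤ}
    (e : DerivedCategory.Q.obj A ≅ DerivedCategory.Q.obj B) :
    DerivedCategory.Q.obj ((DCoh.restrictCx V).obj A) ≅
      DerivedCategory.Q.obj ((DCoh.restrictCx V).obj B) :=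
  ((Scheme.Modules.restrictFunctor V.ι).mapDerivedCategoryFactors.app A).symm ≪≫
    (Scheme.Modules.restrictFunctor V.ι).mapDerivedCategory.mapIso e ≪≫
    (Scheme.Modules.restrictFunctor V.ι).mapDerivedCategoryFactors.app B

/-- restriction as pullback, for complexes -/
noncomputable def restrictCxIsoPull (V : X.Opens) (A : CochainComplex X.Modules ℤ) :
    (DCoh.restrictCx V).obj A ≅ PullbackTensor.pullCx V.ι A :=
  (NatIso.mapHomologicalComplex (Scheme.Modules.restrictFunctorIsoPullback V.ι)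
    (ComplexShape.up ℤ)).app A

theorem isPerfect_LTensor (L : CochainComplex X.Modules ℤ) (hL : DCoh.IsKFlat L)
    (hLp : DCoh.IsPerfect (DerivedCategory.Q.obj L)) [DCoh.HasLTensorCx L] (K : DCoh.D X)
    (hK : DCoh.IsPerfect K) : DCoh.IsPerfect ((DCoh.LTensorCx L).obj K) := by
  intro x
  obtain ⟨V₁, hx₁, hV₁⟩ := hK x
  obtain ⟨V₂, hx₂, hV₂⟩ := hLp x
  refine ⟨V₁ ⊓ V₂, ⟨hx₁, hx₂⟩, fun F ⟨eF⟩ => ?_⟩
  obtain ⟨M, ⟨eM⟩⟩ : ∃ M : CochainComplex X.Modules ℤ, Nonempty (DerivedCategory.Q.obj M ≅ K) :=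
    ⟨_, ⟨DerivedCategory.Q.objObjPreimageIso K⟩⟩
  obtain ⟨E₁, hE₁, ⟨e₁⟩⟩ := isSPOn_of_le (inf_le_left : V₁ ⊓ V₂ ≤ V₁) M (hV₁ M ⟨eM⟩)
  obtain ⟨E₂, hE₂, ⟨e₂⟩⟩ := isSPOn_of_le (inf_le_right : V₁ ⊓ V₂ ≤ V₂) L (hV₂ L ⟨Iso.refl _⟩)
  let V : X.Opens := V₁ ⊓ V₂
  let T := (DCoh.tensorCx.obj M).obj L
  let eT : DerivedCategory.Q.obj F ≅ DerivedCategory.Q.obj T :=
    eF ≪≫ (DCoh.LTensorCx L).mapIso eM.symm ≪≫ LTensorKFlat.LTensorCxIso L hL M
  have hjL : DCoh.IsKFlat (PullbackTensor.pullCx V.ι L) := Groth.Agent.S0952.result V.ι L hL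
  have hE₁k : DCoh.IsKFlat E₁ := (PerfectPull.kfl_of_isStrictlyPerfect E₁ hE₁).1
  refine ⟨(DCoh.tensorCx.obj E₁).obj E₂, isStrictlyPerfect_tensorCx E₁ E₂ hE₁ hE₂, ⟨?_⟩⟩
  exact restrictQIso V eT ≪≫ DerivedCategory.Q.mapIso (restrictCxIsoPull V T) ≪≫
    DerivedCategory.Q.mapIso (PullbackTensor.pullbackTotIso V.ι M L) ≪≫
    tensorRightIso _ hjL
      (DerivedCategory.Q.mapIso (restrictCxIsoPull V M).symm ≪≫ e₁) ≪≫
    tensorLeftIso E₁ hE₁k
      (DerivedCategory.Q.mapIso (restrictCxIsoPull V L).symm ≪≫ e₂)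

end Groth.Agent.H5.PerfectTensor
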