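import Groth.Agent.H5.FlatCoker
import Groth.Agent.H5.KFlatScheme
import Groth.Agent.H45.Scheme.FlatConverse

/-!
# Flatness of cokernels of differentials from tor-vanishing, on schemes
-/

set_option autoImplicit false
universe u
open CategoryTheory CategoryTheory.Limits AlgebraicGeometry ZeroObject

attribute [local instance] HasDerivedCategory.standard

namespace Groth.Agent.H5.FlatCokerScheme

open KFlatScheme

variable {X : Scheme.{u}}

/-- If `E` is a complex of modules with `E^k` flat such that `E ⊗ G` is exact in degree `j = k - 1`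
for every module `G`, then the cokernel of `E^j ⟶ E^k` is flat. -/
theorem isFlat_cokernel_d (E : CochainComplex X.Modules ℤ) (i j k : ℤ) (hij : i + 1 = j)
    (hjk : j + 1 = k) (hflat : FlatMod.IsFlat (E.X k))
    (h : ∀ G : X.Modules,
      (((DCoh.tensorRightMod G).mapHomologicalComplex (ComplexShape.up ℤ)).obj E).ExactAt j) :
    FlatMod.IsFlat (cokernel (E.d j k)) := by
  rw [Groth.Agent.H45.flatMod_iff_isFlat]
  have h' : ∀ G : X.Modules, ((E.sc' i j k).map (DCoh.tensorRightMod G)).Exact := by
    intro G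
    have := h G
    rw [HomologicalComplex.exactAt_iff' _ i j k (by simp; lia) (by simp; lia)] at this
    exact this
  exact @FlatCoker.isFlat_cokernel_of_forall_exact_of_iso _ _ _ X.sheaf (E.sc' i j k)
    (Groth.Agent.H45.isFlat_of_flatMod _ hflat) (fun G => DCoh.tensorRightMod G)
    (fun G => (inferInstance : (DCoh.tensorRightMod G).PreservesZeroMorphisms))
    (fun G => tensorRightModIso G) h'

/-- For a K-flat complex `E`, the cohomology of `E ⊗^L G` is the cohomology of `E ⊗ G`. -/
noncomputable def HDLTensorModIso (G : X.Modules) [DCoh.HasLTensorMod G]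
    (E : CochainComplex X.Modules ℤ) (hK : DCoh.IsKFlat E) (j : ℤ) :
    DCoh.HD ((DCoh.LTensorMod G).obj (DCoh.toD X E)) j ≅
      (((DCoh.tensorRightMod G).mapHomologicalComplex (ComplexShape.up ℤ)).obj E).homology j :=
  (DerivedCategory.homologyFunctor X.Modules j).mapIso (LTensorModIso G E hK) ≪≫
    (DerivedCategory.homologyFunctorFactors X.Modules j).app _

lemma exactAt_of_isZero_HD (G : X.Modules) [DCoh.HasLTensorMod G]
    (E : CochainComplex X.Modules ℤ) (hK : DCoh.IsKFlat E) (j : ℤ)
    (h : IsZero (DCoh.HD ((DCoh.LTensorMod G).obj (DCoh.toD X E)) j)) :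
    (((DCoh.tensorRightMod G).mapHomologicalComplex (ComplexShape.up ℤ)).obj E).ExactAt j := by
  rw [HomologicalComplex.exactAt_iff_isZero_homology]
  exact h.of_iso (HDLTensorModIso G E hK j).symm

/-- For a bounded above complex `E` of flat modules such that `H^j(E ⊗^L G) = 0` for all `G`,
the cokernel of `E^j ⟶ E^{j+1}` is flat. -/
theorem isFlat_cokernel_d_of_isZero_HD (E : CochainComplex X.Modules ℤ) (n : ℤ)
    (hn : E.IsStrictlyLE n) (hflat : ∀ i : ℤ, FlatMod.IsFlat (E.X i))
    (hL : ∀ G : X.Modules, DCoh.HasLTensorMod G) (j k : ℤ) (hjk : j + 1 = k)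
    (h : ∀ (G : X.Modules) [DCoh.HasLTensorMod G],
      IsZero (DCoh.HD ((DCoh.LTensorMod G).obj (DCoh.toD X E)) j)) :
    FlatMod.IsFlat (cokernel (E.d j k)) := by
  have hK : DCoh.IsKFlat E :=
    @Groth.Agent.H45.isKFlat_of_isStrictlyLE _ _ _ X.sheaf E n hn
      (fun i => Groth.Agent.H45.isFlat_of_flatMod _ (hflat i))
  refine isFlat_cokernel_d E (j - 1) j k (by lia) hjk (hflat k) (fun G => ?_)
  haveI := hL G
  exact exactAt_of_isZero_HD G E hK j (h G)

end Groth.Agent.H5.FlatCokerScheme
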