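import Mathlib

/-!
# The Euler characteristic of a bounded complex of finite dimensional vector spaces
-/

set_option autoImplicit false
universe u
open CategoryTheory CategoryTheory.Limits

namespace Groth.Agent.H5.EulerCx

variable {k : Type u} [Field k]

section ShortComplex

variable (S : ShortComplex (ModuleCat.{u} k))

lemma finrank_homology [Module.Finite k S.X₂] :
    (Module.finrank k S.homology : ℤ) =
      Module.finrank k (LinearMap.ker S.g.hom) - Module.finrank k (LinearMap.range S.f.hom) := by
  have e := S.moduleCatHomologyIso.toLinearEquiv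
  rw [LinearEquiv.finrank_eq e]
  change (Module.finrank k (LinearMap.ker S.g.hom ⧸ LinearMap.range S.moduleCatToCycles) : ℤ) = _
  have h1 := Submodule.finrank_quotient_add_finrank (LinearMap.range S.moduleCatToCycles)
  have h2 : Module.finrank k (LinearMap.range S.moduleCatToCycles) =
      Module.finrank k (LinearMap.range S.f.hom) := by
    have : LinearMap.range S.f.hom =
        (LinearMap.range S.moduleCatToCycles).map (LinearMap.ker S.g.hom).subtype := by
      rw [← LinearMap.range_comp]
      rfl
    rw [this]
    exact (LinearEquiv.finrank_eq (Submodule.equivMapOfInjective _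
      (Submodule.injective_subtype _) _))
  omega

lemma finrank_X₂ [Module.Finite k S.X₂] :
    (Module.finrank k S.X₂ : ℤ) =
      Module.finrank k (LinearMap.ker S.g.hom) + Module.finrank k (LinearMap.range S.g.hom) := by
  have := LinearMap.finrank_range_add_finrank_ker S.g.hom
  omega

end ShortComplex

variable (D : CochainComplex (ModuleCat.{u} k) ℤ)

/-- the rank of the differential `D^i ⟶ D^j` -/
noncomputable def rk (i j : ℤ) : ℕ := Module.finrank k (LinearMap.range (D.d i j).hom)

lemma rk_eq_zero_of_subsingleton_left (i j : ℤ) (h : Subsingleton (D.X i)) : rk D i j = 0 := by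
  unfold rk
  have : Subsingleton (LinearMap.range (D.d i j).hom) := by
    refine ⟨fun ⟨a, ha⟩ ⟨b, hb⟩ => ?_⟩
    obtain ⟨a', rfl⟩ := ha
    obtain ⟨b', rfl⟩ := hb
    rw [Subsingleton.elim a' b']
  exact Module.finrank_zero_of_subsingleton

lemma rk_eq_zero_of_subsingleton_right (i j : ℤ) (h : Subsingleton (D.X j)) : rk D i j = 0 := by
  unfold rk
  have : Subsingleton (LinearMap.range (D.d i j).hom) :=
    ⟨fun a b => Subtype.ext (Subsingleton.elim _ _)⟩
  exact Module.finrank_zero_of_subsingleton

variable [∀ i, Module.Finite k (D.X i)]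

lemma finrank_sub (i : ℤ) :
    (Module.finrank k (D.X i) : ℤ) - Module.finrank k (D.homology i) =
      rk D (i - 1) i + rk D i (i + 1) := by
  have e := (D.homologyIsoSc' (i - 1) i (i + 1) (by simp) (by simp)).toLinearEquiv
  rw [LinearEquiv.finrank_eq e]
  have : Module.Finite k (D.sc' (i - 1) i (i + 1)).X₂ := inferInstanceAs (Module.Finite k (D.X i))
  have h1 := finrank_homology (D.sc' (i - 1) i (i + 1))
  have h2 := finrank_X₂ (D.sc' (i - 1) i (i + 1))
  change (Module.finrank k (D.X i) : ℤ) = _ at h2
  rw [h1, h2]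
  unfold rk
  change _ = (Module.finrank k (LinearMap.range (D.sc' (i - 1) i (i + 1)).f.hom) : ℤ) +
    Module.finrank k (LinearMap.range (D.sc' (i - 1) i (i + 1)).g.hom)
  ring

/-- `χ(D) = χ(H(D))` for a bounded complex of finite dimensional vector spaces -/
theorem eulerChar_eq (a b : ℤ) (hD : ∀ i : ℤ, i < a ∨ b < i → Subsingleton (D.X i)) :
    (∑ᶠ i : ℤ, (i.negOnePow : ℤ) * (Module.finrank k (D.homology i) : ℤ)) =
      ∑ᶠ i : ℤ, (i.negOnePow : ℤ) * (Module.finrank k (D.X i) : ℤ) := by
  have hX : ∀ i : ℤ, i ∉ Set.Icc a b → Module.finrank k (D.X i) = 0 := by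
    intro i hi
    have : Subsingleton (D.X i) := hD i (by
      simp only [Set.mem_Icc, not_and_or, not_le] at hi
      exact hi)
    exact Module.finrank_zero_of_subsingleton
  have hr1 : ∀ i : ℤ, i ∉ Set.Icc a b → rk D (i - 1) i = 0 := by
    intro i hi
    exact rk_eq_zero_of_subsingleton_right D _ _ (hD i (by
      simp only [Set.mem_Icc, not_and_or, not_le] at hi
      exact hi))
  have hr2 : ∀ i : ℤ, i ∉ Set.Icc a b → rk D i (i + 1) = 0 := by
    intro i hi
    exact rk_eq_zero_of_subsingleton_left D _ _ (hD i (by
      simp only [Set.mem_Icc, not_and_or, not_le] at hi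
      exact hi))
  have hH : ∀ i : ℤ, i ∉ Set.Icc a b → Module.finrank k (D.homology i) = 0 := by
    intro i hi
    have := finrank_sub D i
    rw [hX i hi, hr1 i hi, hr2 i hi] at this
    omega
  let g : ℤ → ℤ := fun i => (i.negOnePow : ℤ) * (rk D (i - 1) i : ℤ)
  have hg : (Function.support g).Finite := by
    refine (Set.finite_Icc a b).subset (fun i hi => ?_)
    by_contra h
    exact hi (by simp only [g, hr1 i h]; simp)
  have hg' : (Function.support (fun i : ℤ => g (i + 1))).Finite := by
    have : (fun i : ℤ => g (i + 1)) = g ∘ (Equiv.addRight (1 : ℤ)) := rfl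
    rw [this]
    exact hg.preimage (Equiv.injective _).injOn
  have hF : (Function.support (fun i : ℤ =>
      (i.negOnePow : ℤ) * (Module.finrank k (D.X i) : ℤ))).Finite := by
    refine (Set.finite_Icc a b).subset (fun i hi => ?_)
    by_contra h
    exact hi (by simp only [hX i h]; simp)
  have hHf : (Function.support (fun i : ℤ =>
      (i.negOnePow : ℤ) * (Module.finrank k (D.homology i) : ℤ))).Finite := by
    refine (Set.finite_Icc a b).subset (fun i hi => ?_)
    by_contra h
    exact hi (by simp only [hH i h]; simp)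
  have key : ∀ i : ℤ, (i.negOnePow : ℤ) * (Module.finrank k (D.X i) : ℤ) -
      (i.negOnePow : ℤ) * (Module.finrank k (D.homology i) : ℤ) = g i - g (i + 1) := by
    intro i
    have h := finrank_sub D i
    have e : rk D (i + 1 - 1) (i + 1) = rk D i (i + 1) := by
      rw [add_sub_cancel_right]
    simp only [g, e, Int.negOnePow_succ, Units.val_neg]
    rw [← mul_sub, h]
    ring
  have h1 := finsum_sub_distrib hF hHf
  have h2 := finsum_sub_distrib hg hg'
  have h3 : ∑ᶠ i : ℤ, g (i + 1) = ∑ᶠ i : ℤ, g i :=
    finsum_comp_equiv (Equiv.addRight (1 : ℤ)) (f := g)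
  simp only [key] at h1
  rw [h2, h3, sub_self] at h1
  exact (sub_eq_zero.1 h1.symm).symm

end Groth.Agent.H5.EulerCx
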