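import Groth.Agent.H5.EulerPerfect
import Groth.Agent.H5.PerfectFree

/-!
# The Euler characteristic of a perfect complex is locally constant
-/

set_option autoImplicit false
universe u
open CategoryTheory CategoryTheory.Limits AlgebraicGeometry TopologicalSpace Opposite

attribute [local instance] HasDerivedCategory.standard

namespace Groth.Agent.H5.EulerPerfect

theorem exists_open_eulerChar_eq (X : Scheme.{u})
    [∀ x : X, DCoh.HasLpull (X.fromSpecResidueField x)] (E : DCoh.D X) (hE : DCoh.IsPerfect E)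
    (x : X) : ∃ W : X.Opens, x ∈ W ∧ ∃ c : ℤ, ∀ y ∈ W, PerfD.eulerChar E y = c := by
  obtain ⟨M, ⟨eM⟩⟩ : ∃ M : CochainComplex X.Modules ℤ, Nonempty (DerivedCategory.Q.obj M ≅ E) :=
    ⟨_, ⟨DerivedCategory.Q.objObjPreimageIso E⟩⟩
  obtain ⟨V, hxV, hV⟩ := hE x
  obtain ⟨P₀, hP₀, ⟨e⟩⟩ := hV M ⟨eM⟩
  obtain ⟨U, hxU, hU⟩ := PerfectFree.exists_open_free_terms P₀ hP₀ ⟨x, hxV⟩
  obtain ⟨⟨a, b, hab⟩, hfl⟩ := id hP₀
  choose n₀ e₀ using hU
  let n : ℤ → ℕ := fun i => if a ≤ i ∧ i ≤ b then n₀ i else 0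
  have hn : ∀ i : ℤ, i < a ∨ b < i → n i = 0 := by
    intro i hi
    simp only [n]
    rw [if_neg]
    omega
  have e' : ∀ i : ℤ, Nonempty ((P₀.X i).restrict U.ι ≅ FlatMod.freeMod (↑U) (n i)) := by
    intro i
    by_cases hi : a ≤ i ∧ i ≤ b
    · simp only [n]
      rw [if_pos hi]
      exact e₀ i
    · simp only [n]
      rw [if_neg hi]
      have hz : IsZero (P₀.X i) := hab i (by omega)
      exact ⟨((Scheme.Modules.restrictFunctor _).map_isZero hz).iso
        Groth.Agent.H5.FinLocFreeOps.isZero_freeMod_zero⟩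
  refine ⟨(U.ι ≫ V.ι).opensRange, ⟨⟨⟨x, hxV⟩, hxU⟩, rfl⟩,
    ∑ᶠ i : ℤ, (i.negOnePow : ℤ) * (n i : ℤ), fun y hy => ?_⟩
  have hr : Set.range (X.fromSpecResidueField y) ⊆ Set.range (U.ι ≫ V.ι) := by
    rw [Scheme.range_fromSpecResidueField]
    rintro _ rfl
    exact hy
  let k' := IsOpenImmersion.lift (U.ι ≫ V.ι) (X.fromSpecResidueField y) hr
  have hk' : (k' ≫ U.ι) ≫ V.ι = X.fromSpecResidueField y := by
    rw [Category.assoc]
    exact IsOpenImmersion.lift_fac _ _ _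
  obtain ⟨ι⟩ := LpullPoint.nonempty_Lpull_iso_of_factor (X.fromSpecResidueField y) V (k' ≫ U.ι)
    hk' E M eM P₀ hP₀ e
  refine eulerChar_eq y E _ ι a b n hn (fun i => ⟨?_⟩)
  exact ((Scheme.Modules.pullbackComp k' U.ι).app (P₀.X i)).symm ≪≫
    (Scheme.Modules.pullback k').mapIso
      ((Scheme.Modules.restrictFunctorIsoPullback U.ι).app (P₀.X i)).symm ≪≫
    (Scheme.Modules.pullback k').mapIso (e' i).some ≪≫ PullbackUnit.pullbackFreeIso k' (n i)

end Groth.Agent.H5.EulerPerfect
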