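import Groth.Agent.H5.OnePoint
import Groth.Prelude.Def_FlatMod2
import Mathlib.Algebra.Category.ModuleCat.Biproducts

/-!
# Global sections of a free module of rank `n`
-/

set_option autoImplicit false
universe u
open CategoryTheory CategoryTheory.Limits AlgebraicGeometry TopologicalSpace Opposite

namespace Groth.Agent.H5.FreeSections

open Groth.Agent.H5.OnePoint

variable (S : Scheme.{u})

/-- the global sections of a free module of rank `n` -/
noncomputable def evTopFreeIso (n : ℕ) :
    (evTop S).obj (FlatMod.freeMod S n) ≅
      ModuleCat.of (Coh.Γtop S) (Fin n → (evTop S).obj (Coh.structureModule S)) :=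
  PreservesCoproduct.iso (evTop S) _ ≪≫
    (biproduct.isoCoproduct (fun _ : Fin n => (evTop S).obj (Coh.structureModule S))).symm ≪≫
    ModuleCat.biproductIsoPi _

/-- the global sections of the structure sheaf, as a module over themselves -/
noncomputable def evTopUnitEquiv :
    (evTop S).obj (Coh.structureModule S) ≃ₗ[Coh.Γtop S] Coh.Γtop S where
  toFun x := x
  invFun x := x
  map_add' _ _ := rfl
  map_smul' _ _ := rfl
  left_inv _ := rfl
  right_inv _ := rfl

/-- the global sections of a free module of rank `n` -/
noncomputable def evTopFreeEquiv (n : ℕ) :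
    (evTop S).obj (FlatMod.freeMod S n) ≃ₗ[Coh.Γtop S] (Fin n → Coh.Γtop S) :=
  (evTopFreeIso S n).toLinearEquiv ≪≫ₗ LinearEquiv.piCongrRight (fun _ => evTopUnitEquiv S)

end Groth.Agent.H5.FreeSections
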