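import Groth.Agent.H5.EulerCx
import Groth.Agent.H5.FreeSections
import Groth.Agent.H5.LpullPoint
import Groth.Agent.H5.PullbackUnit
import Groth.Prelude.Def_PerfD

/-!
# Betti numbers and the Euler characteristic of a perfect complex via a local free model
-/

set_option autoImplicit false
universe u
open CategoryTheory CategoryTheory.Limits AlgebraicGeometry TopologicalSpace Opposite

attribute [local instance] HasDerivedCategory.standard

namespace Groth.Agent.H5.EulerPerfect

open Groth.Agent.H5.OnePoint Groth.Agent.H5.FreeSections

variable {X : Scheme.{u}}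

section Model

variable (x : X)

/-- the spectrum of the residue field has a single point -/
lemma eq_top_of_mem (U : (Spec (X.residueField x)).Opens) (z : Spec (X.residueField x))
    (hz : z ∈ U) : U = ⊤ := by
  have : Subsingleton (Spec (X.residueField x)) :=
    inferInstanceAs (Subsingleton (PrimeSpectrum (X.residueField x)))
  ext w
  simp only [Opens.coe_top, Set.mem_univ, iff_true]
  rw [Subsingleton.elim w z]
  exact hz

/-- global functions on the spectrum of the residue field form a field -/
lemma isField_Γtop : IsField (Coh.Γtop (Spec (X.residueField x))) :=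
  MulEquiv.isField (Field.toIsField (X.residueField x))
    (Scheme.ΓSpecIso (X.residueField x)).commRingCatIsoToRingEquiv.toMulEquiv

/-- the one-point property, packaged -/
lemma exists_point : ∃ z : Spec (X.residueField x),
    ∀ U : (Spec (X.residueField x)).Opens, z ∈ U → U = ⊤ := by
  obtain ⟨z⟩ : Nonempty (Spec (X.residueField x)) :=
    inferInstanceAs (Nonempty (PrimeSpectrum (X.residueField x)))
  exact ⟨z, fun U hz => eq_top_of_mem x U z hz⟩

/-- global sections of a complex on the spectrum of the residue field -/
noncomputable abbrev evCx (C : CochainComplex (Spec (X.residueField x)).Modules ℤ) :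
    CochainComplex (ModuleCat.{u} (Coh.Γtop (Spec (X.residueField x)))) ℤ :=
  ((evTop (Spec (X.residueField x))).mapHomologicalComplex (ComplexShape.up ℤ)).obj C

/-- global sections commute with homology on the spectrum of the residue field -/
noncomputable def evHomologyIso (C : CochainComplex (Spec (X.residueField x)).Modules ℤ) (i : ℤ) :
    (evTop (Spec (X.residueField x))).obj (C.homology i) ≅ (evCx x C).homology i :=
  haveI : PreservesFiniteColimits (evTop (Spec (X.residueField x))) := by
    obtain ⟨z, hz⟩ := exists_point x
    exact preservesFiniteColimits_evTop z hz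
  ((C.sc i).mapHomologyIso (evTop (Spec (X.residueField x)))).symm

variable [DCoh.HasLpull (X.fromSpecResidueField x)]

theorem betti_eq (E : DCoh.D X) (C : CochainComplex (Spec (X.residueField x)).Modules ℤ)
    (e : (DCoh.Lpull (X.fromSpecResidueField x)).obj E ≅ DerivedCategory.Q.obj C) (i : ℤ) :
    PerfD.betti E x i =
      Module.finrank (Coh.Γtop (Spec (X.residueField x))) ((evCx x C).homology i) := by
  unfold PerfD.betti
  exact LinearEquiv.finrank_eq
    ((evTop (Spec (X.residueField x))).mapIso
      ((DerivedCategory.homologyFunctor _ i).mapIso e ≪≫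
        (DerivedCategory.homologyFunctorFactors _ i).app C) ≪≫ evHomologyIso x C i).toLinearEquiv

theorem eulerChar_eq (E : DCoh.D X) (C : CochainComplex (Spec (X.residueField x)).Modules ℤ)
    (e : (DCoh.Lpull (X.fromSpecResidueField x)).obj E ≅ DerivedCategory.Q.obj C) (a b : ℤ)
    (n : ℤ → ℕ) (hn : ∀ i : ℤ, i < a ∨ b < i → n i = 0)
    (hC : ∀ i : ℤ, Nonempty (C.X i ≅ FlatMod.freeMod (Spec (X.residueField x)) (n i))) :
    PerfD.eulerChar E x = ∑ᶠ i : ℤ, (i.negOnePow : ℤ) * (n i : ℤ) := by
  unfold PerfD.eulerChar
  simp_rw [betti_eq x E C e]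
  letI : Field (Coh.Γtop (Spec (X.residueField x))) := (isField_Γtop x).toField
  let L : ∀ i : ℤ, (evCx x C).X i ≃ₗ[Coh.Γtop (Spec (X.residueField x))]
      (Fin (n i) → Coh.Γtop (Spec (X.residueField x))) := fun i =>
    ((evTop (Spec (X.residueField x))).mapIso (hC i).some).toLinearEquiv ≪≫ₗ
      evTopFreeEquiv (Spec (X.residueField x)) (n i)
  have hfin : ∀ i : ℤ, Module.Finite (Coh.Γtop (Spec (X.residueField x))) ((evCx x C).X i) :=
    fun i => Module.Finite.equiv (L i).symm
  have hrk : ∀ i : ℤ, Module.finrank (Coh.Γtop (Spec (X.residueField x))) ((evCx x C).X i) =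
      n i := fun i => (L i).finrank_eq.trans (Module.finrank_fin_fun _)
  have hsub : ∀ i : ℤ, i < a ∨ b < i → Subsingleton ((evCx x C).X i) := by
    intro i hi
    have h0 := hn i hi
    have : Subsingleton (Fin (n i) → Coh.Γtop (Spec (X.residueField x))) := by
      rw [h0]
      infer_instance
    exact (L i).toEquiv.subsingleton
  have key := EulerCx.eulerChar_eq (evCx x C) a b hsub
  rw [key]
  exact finsum_congr (fun i => by rw [hrk i])

end Model

end Groth.Agent.H5.EulerPerfect
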