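import Groth.Agent.H45.SheafTensor.FlatExact
import Groth.Agent.H45.SheafTensor.FlatOps

/-!
# Flatness of cokernels from universal exactness

If `A ⟶ B ⟶ C` is a complex of modules on a ringed site with `C` flat and which stays exact at `B`
after tensoring with any module, then the cokernel of `B ⟶ C` is flat.
-/

set_option autoImplicit false
universe u
open CategoryTheory CategoryTheory.Limits

namespace Groth.Agent.H5.FlatCoker

open Groth.Agent.H45

variable {C : Type u} [SmallCategory C] {J : GrothendieckTopology C} {O : Sheaf J CommRingCat.{u}}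

/-- If `0 → Z → C → M → 0` is short exact with `C` flat and `G ⊗ Z → G ⊗ C` is a monomorphism
for every `G`, then `M` is flat. -/
theorem isFlat_of_shortExact_of_forall_mono (S : ShortComplex (ModSite.Mod O)) (hS : S.ShortExact)
    (hC : ModSite.IsFlat S.X₂)
    (hmono : ∀ G : ModSite.Mod O, Mono (((ModSite.tensorBi O).obj G).map S.f)) :
    ModSite.IsFlat S.X₃ := by
  apply isFlat_of_forall_mono
  intro E hE
  let T := ModSite.tensorBi O
  have hb := tensor_exact_and_epi E.X₂ S hS
  have ha := tensor_exact_and_epi E.X₁ S hS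
  have hfg := tensor_flip_exact_and_epi S.X₁ E hE
  have ha₂ : Epi ((T.obj E.X₁).map S.g) := ha.2
  have : Mono E.f := hE.mono_f
  have hf₂ : Mono ((T.flip.obj S.X₂).map E.f) := mono_flip_map_of_isFlat hC E.f
  have hc₁ : Mono ((T.obj E.X₃).map S.f) := hmono E.X₃
  exact mono_of_grid ((T.obj E.X₁).map S.f) ((T.obj E.X₁).map S.g)
    ((T.obj E.X₂).map S.f) ((T.obj E.X₂).map S.g) ((T.obj E.X₃).map S.f)
    ((T.flip.obj S.X₁).map E.f) ((T.flip.obj S.X₂).map E.f) ((T.flip.obj S.X₃).map E.f)
    ((T.flip.obj S.X₁).map E.g) ((T.flip.obj S.X₂).map E.g)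
    ((T.map E.f).naturality S.f) ((T.map E.f).naturality S.g)
    ((T.map E.g).naturality S.f)
    (by rw [← Functor.map_comp, S.zero, Functor.map_zero])
    (by rw [← Functor.map_comp, S.zero, Functor.map_zero]) hb.1
    (by rw [← Functor.map_comp, E.zero, Functor.map_zero]) hfg.1
    (by rw [← Functor.map_comp, E.zero, Functor.map_zero])

/-- If `A ⟶ B ⟶ C` is a complex with `C` flat which is exact at `B` after tensoring (on the left)
with any module, then the cokernel of `B ⟶ C` is flat. -/
theorem isFlat_cokernel_of_forall_exact (S₀ : ShortComplex (ModSite.Mod O))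
    (hC : ModSite.IsFlat S₀.X₃)
    (h : ∀ G : ModSite.Mod O, (S₀.map ((ModSite.tensorBi O).obj G)).Exact) :
    ModSite.IsFlat (cokernel S₀.g) := by
  let T := ModSite.tensorBi O
  let S : ShortComplex (ModSite.Mod O) :=
    ShortComplex.mk (Abelian.image.ι S₀.g) (cokernel.π S₀.g)
      (Abelian.image_ι_comp_eq_zero (cokernel.condition S₀.g))
  have hS : S.ShortExact :=
    { exact := ((ShortComplex.mk S₀.g (cokernel.π S₀.g)
        (cokernel.condition S₀.g)).exact_iff_exact_image_ι).1 (ShortComplex.exact_cokernel S₀.g)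
      mono_f := inferInstanceAs (Mono (Abelian.image.ι S₀.g))
      epi_g := inferInstanceAs (Epi (cokernel.π S₀.g)) }
  refine isFlat_of_shortExact_of_forall_mono S hS hC (fun G => ?_)
  have hfac : S₀.f ≫ Abelian.factorThruImage S₀.g = 0 := by
    rw [← cancel_mono (Abelian.image.ι S₀.g), Category.assoc, Abelian.image.fac, S₀.zero,
      zero_comp]
  have hepi : Epi ((T.obj G).map (Abelian.factorThruImage S₀.g)) := inferInstance
  rw [Preadditive.mono_iff_cancel_zero]
  intro W x hx
  obtain ⟨W₁, π₁, hπ₁, y, hy⟩ := surjective_up_to_refinements_of_epi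
    ((T.obj G).map (Abelian.factorThruImage S₀.g)) x
  have h2 : y ≫ (S₀.map (T.obj G)).g = 0 := by
    change y ≫ (T.obj G).map S₀.g = 0
    rw [← Abelian.image.fac S₀.g, Functor.map_comp, ← Category.assoc, ← hy, Category.assoc]
    change π₁ ≫ x ≫ (T.obj G).map S.f = 0
    rw [hx, comp_zero]
  obtain ⟨W₂, π₂, hπ₂, w, hw⟩ := (h G).exact_up_to_refinements y h2
  let w' : W₂ ⟶ (T.obj G).obj S₀.X₁ := w
  replace hw : π₂ ≫ y = w' ≫ (T.obj G).map S₀.f := hw
  have h3 : (π₂ ≫ π₁) ≫ x = 0 := by
    rw [Category.assoc, hy, ← Category.assoc, hw, Category.assoc,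
      ← Functor.map_comp, hfac, Functor.map_zero, comp_zero]
  have : Epi (π₂ ≫ π₁) := inferInstance
  exact (cancel_epi (π₂ ≫ π₁)).1 (h3.trans comp_zero.symm)

/-- Variant of `isFlat_cokernel_of_forall_exact` for functors isomorphic to `- ⊗ G`. -/
theorem isFlat_cokernel_of_forall_exact_of_iso (S₀ : ShortComplex (ModSite.Mod O))
    (hC : ModSite.IsFlat S₀.X₃)
    (T : ModSite.Mod O → (ModSite.Mod O ⥤ ModSite.Mod O))
    [∀ G, (T G).PreservesZeroMorphisms]
    (e : ∀ G, T G ≅ (ModSite.tensorBi O).flip.obj G)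
    (h : ∀ G : ModSite.Mod O, (S₀.map (T G)).Exact) :
    ModSite.IsFlat (cokernel S₀.g) :=
  isFlat_cokernel_of_forall_exact S₀ hC (fun G =>
    (ShortComplex.exact_iff_of_iso
      (S₀.mapNatIso (e G ≪≫ (tensorBiObjIsoFlipObj O G).symm))).1 (h G))

end Groth.Agent.H5.FlatCoker
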