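import Groth.Agent.H5.PerfectIff
import Groth.Agent.H33.PC.Cycles
import Groth.Prelude.Def_KSix
import Groth.Agent.H5.LocFreeLocus
import Groth.Agent.H5.FlatCokerScheme
import Groth.Agent.H5.PCSummand

/-!
# Perfect amplitude in `[m, n]` ⟺ `(m-1)`-pseudo-coherent with flat amplitude in `[m, n]`
-/

set_option autoImplicit false
set_option linter.style.haveILetI false
universe u
open CategoryTheory CategoryTheory.Limits AlgebraicGeometry ZeroObject HomologicalComplex

attribute [local instance] HasDerivedCategory.standard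

namespace Groth.Agent.H5.PerfAmp

open CochainComplex Scheme.Modules Groth.Agent.H5.Approx Groth.Agent.H5.PerfectTriangle
  Groth.Agent.H5.PCAlong Groth.Agent.H5.PCTriangle

variable {X : Scheme.{u}}

/-- `j^* F` is isomorphic in the derived category to a complex of finite locally free modules
vanishing outside `[m, n]` -/
def IsPAAlong (m n : ℤ) {W : Scheme.{u}} (j : W ⟶ X) [IsOpenImmersion j]
    (F : CochainComplex X.Modules ℤ) : Prop :=
  ∃ E : CochainComplex W.Modules ℤ, DCoh.VanishesOutside E m n ∧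
    (∀ i : ℤ, FlatMod.IsFinLocFree (E.X i)) ∧
    Nonempty (DerivedCategory.Q.obj ((resCx j).obj F) ≅ DerivedCategory.Q.obj E)

lemma isPAAlong_comp {m n : ℤ} {W W' : Scheme.{u}} (k : W' ⟶ W) (j : W ⟶ X)
    [IsOpenImmersion k] [IsOpenImmersion j] (F : CochainComplex X.Modules ℤ)
    (h : IsPAAlong m n j F) : IsPAAlong m n (k ≫ j) F := by
  obtain ⟨E, hE, hfl, ⟨e⟩⟩ := h
  refine ⟨(resCx k).obj E, fun i hi => (restrictFunctor k).map_isZero (hE i hi),
    fun i => LocalNull.isFinLocFree_restrict k _ (hfl i), ⟨?_⟩⟩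
  exact DerivedCategory.Q.mapIso (resCxCompIso k j F) ≪≫ mapQIso (restrictFunctor k) e

lemma isPAAlong_congr {m n : ℤ} {W : Scheme.{u}} {j j' : W ⟶ X} [IsOpenImmersion j]
    [IsOpenImmersion j'] (hj : j = j') (F : CochainComplex X.Modules ℤ)
    (h : IsPAAlong m n j F) : IsPAAlong m n j' F := by
  subst hj
  exact h

lemma isPAAlong_of_iso {m n : ℤ} {W : Scheme.{u}} (j : W ⟶ X) [IsOpenImmersion j]
    {F F' : CochainComplex X.Modules ℤ}
    (e : DerivedCategory.Q.obj F ≅ DerivedCategory.Q.obj F') (h : IsPAAlong m n j F) :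
    IsPAAlong m n j F' := by
  obtain ⟨E, hE, hfl, ⟨i⟩⟩ := h
  exact ⟨E, hE, hfl, ⟨mapQIso (restrictFunctor j) e.symm ≪≫ i⟩⟩

theorem hasPerfectAmplitudeIn_of_isPAAlong {m n : ℤ} {K : DCoh.D X}
    {M : CochainComplex X.Modules ℤ} (e : DerivedCategory.Q.obj M ≅ K)
    (h : ∀ x : X, ∃ (W : Scheme.{u}) (j : W ⟶ X) (_ : IsOpenImmersion j),
      x ∈ Set.range j ∧ IsPAAlong m n j M) : KSix.HasPerfectAmplitudeIn m n K := by
  intro x
  obtain ⟨W, j, _, hx, hj⟩ := h x
  refine ⟨j.opensRange, hx, fun F ⟨eF⟩ => ?_⟩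
  have h1 : IsPAAlong m n j.opensRange.ι M :=
    isPAAlong_congr j.isoOpensRange_inv_comp M (isPAAlong_comp j.isoOpensRange.inv j M hj)
  obtain ⟨E, hE, hfl, ⟨i⟩⟩ := isPAAlong_of_iso j.opensRange.ι (e ≪≫ eF.symm) h1
  exact ⟨E, hE, hfl, ⟨i⟩⟩

theorem isPAAlong_of_hasPerfectAmplitudeIn {m n : ℤ} {K : DCoh.D X}
    {M : CochainComplex X.Modules ℤ} (e : DerivedCategory.Q.obj M ≅ K)
    (h : KSix.HasPerfectAmplitudeIn m n K) (x : X) :
    ∃ V : X.Opens, x ∈ V ∧ IsPAAlong m n V.ι M := by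
  obtain ⟨V, hxV, hV⟩ := h x
  obtain ⟨E, hE, hfl, ⟨i⟩⟩ := hV M ⟨e⟩
  exact ⟨V, hxV, E, hE, hfl, ⟨i⟩⟩

section Local

variable {W : Scheme.{u}}

/-- the local statement with amplitude: a flat complex in `[a, b]` approximated in degrees
`≥ a - 1` by a strictly perfect complex is quasi-isomorphic to a complex of finite locally free
modules in `[a, b]` -/
theorem exists_perfAmp {P G : CochainComplex W.Modules ℤ} (β : P ⟶ G) (a b : ℤ) (hab : a ≤ b)
    (hP : DCoh.IsStrictlyPerfect P) (hGfl : ∀ i, FlatMod.IsFlat (G.X i))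
    (hG : DCoh.VanishesOutside G a b)
    (hβ : IsApprox (a - 1) (DerivedCategory.Q.map β)) :
    ∃ E : CochainComplex W.Modules ℤ, DCoh.VanishesOutside E a b ∧
      (∀ i : ℤ, FlatMod.IsFinLocFree (E.X i)) ∧
      Nonempty (DerivedCategory.Q.obj G ≅ DerivedCategory.Q.obj E) := by
  obtain ⟨⟨a₀, b₀, hab₀⟩, hfl⟩ := hP
  have hflat : FlatMod.IsFlat (P.opcycles a) :=
    PerfectOfFlatPC.flat_opcycles β a b b₀
      (fun i => PerfectPull.flatMod_of_isFinLocFree _ (hfl i))
      hGfl (fun i hi => hab₀ i (Or.inr hi)) hG hβ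
  have hQ := PerfectOfFlatPC.isFinLocFree_opcycles P ⟨⟨a₀, b₀, hab₀⟩, hfl⟩ a hflat
  have hGa : G.IsStrictlyGE a := by
    rw [CochainComplex.isStrictlyGE_iff]
    exact fun i hi => hG i (Or.inl hi)
  obtain ⟨β', hβ'⟩ := PerfectOfFlatPC.exists_factor β a
  have hE₀ : DCoh.IsStrictlyPerfect (P.truncGE a) :=
    PerfectOfFlatPC.isStrictlyPerfect_truncGE P ⟨⟨a₀, b₀, hab₀⟩, hfl⟩ a hQ
  have hqi : QuasiIso β' := by
    rw [quasiIso_iff]
    intro i
    by_cases hi : a ≤ i
    · have h1 : QuasiIsoAt (P.πTruncGE a) i := P.quasiIsoAt_πTruncGE a i hi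
      have h2 : QuasiIsoAt β i := by
        rw [quasiIsoAt_iff_isIso_homologyMap]
        exact ((isApprox_Q_map_iff β).1 hβ).1 i (by lia)
      rw [← hβ'] at h2
      exact quasiIsoAt_of_comp_left (P.πTruncGE a) β' i
    · rw [quasiIsoAt_iff_exactAt]
      · exact ExactAt.of_isZero (hG i (Or.inl (by lia)))
      · exact ExactAt.of_isZero ((P.truncGE a).isZero_of_isStrictlyGE a i (by lia))
  have hiso₀ : IsIso (DerivedCategory.Q.map β') := by
    rw [DerivedCategory.isIso_Q_map_iff_quasiIso]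
    exact hqi
  let E₀ := P.truncGE a
  have hex : ∀ i : ℤ, b < i → IsZero (E₀.homology i) := by
    intro i hi
    have : IsIso (homologyMap β' i) := by
      rw [← quasiIsoAt_iff_isIso_homologyMap]
      exact hqi.quasiIsoAt i
    refine IsZero.of_iso ?_ (asIso (homologyMap β' i))
    rw [← exactAt_iff_isZero_homology]
    exact ExactAt.of_isZero (hG i (Or.inr hi))
  haveI : E₀.IsLE b := (E₀.isLE_iff b).2 (fun i hi => (exactAt_iff_isZero_homology _ _).2 (hex i hi))
  have hcyc : FlatMod.IsFinLocFree (E₀.cycles b) :=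
    Groth.Agent.H33.PC.isFinLocFree_cycles E₀ hE₀ b hex b le_rfl
  refine ⟨E₀.truncLE b, ?_, ?_, ⟨?_⟩⟩
  · intro i hi
    rcases hi with hi | hi
    · exact (E₀.isZero_of_isStrictlyGE a i hi).of_iso (E₀.truncLEXIso b i (by lia))
    · exact (E₀.truncLE b).isZero_of_isStrictlyLE b i hi
  · intro i
    rcases lt_trichotomy i b with h | h | h
    · exact FinLocFreeOps.isFinLocFree_of_iso (E₀.truncLEXIso b i h).symm (hE₀.2 i)
    · subst h
      exact FinLocFreeOps.isFinLocFree_of_iso (E₀.truncLEXIsoCycles i).symm hcyc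
    · exact isFinLocFree_of_isZero _ ((E₀.truncLE b).isZero_of_isStrictlyLE b i h)
  · have : IsIso (DerivedCategory.Q.map (E₀.ιTruncLE b)) := by
      rw [DerivedCategory.isIso_Q_map_iff_quasiIso]
      infer_instance
    exact (asIso (DerivedCategory.Q.map β')).symm ≪≫
      (asIso (DerivedCategory.Q.map (E₀.ιTruncLE b))).symm

end Local

/-- **(⟸)** -/
theorem hasPerfectAmplitudeIn_of_pc_of_flat (E : DCoh.D X) (m n : ℤ) (hmn : m ≤ n)
    (h1 : DCoh.IsPseudoCoherentD (m - 1) E) (h2 : DCoh.HasFlatAmplitudeIn m n E) :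
    KSix.HasPerfectAmplitudeIn m n E := by
  obtain ⟨F, hF, hFfl, ⟨e⟩⟩ := h2
  refine hasPerfectAmplitudeIn_of_isPAAlong e (fun x => ?_)
  obtain ⟨W, j, _, hx, P, β, hP, hβ⟩ := (isPseudoCoherentD_iff e (m - 1)).1 h1 x
  obtain ⟨E', hE', hfl, hiso⟩ := exists_perfAmp β m n hmn hP
    (fun i => PerfectOfFlatPC.flatMod_restrict j _ (hFfl i))
    (fun i hi => (restrictFunctor j).map_isZero (hF i hi)) hβ
  exact ⟨W, j, inferInstance, hx, E', hE', hfl, hiso⟩

section FlatLocal

/-- flatness descends along a bijective ring homomorphism -/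
theorem flat_of_flat_extendScalars {R S' : Type u} [CommRing R] [CommRing S'] (f : R →+* S')
    (hf : Function.Bijective f) (M : ModuleCat.{u} R)
    (h : Module.Flat S' ((ModuleCat.extendScalars f).obj M)) : Module.Flat R M := by
  letI := f.toAlgebra
  have h' : Module.Flat S' (TensorProduct R S' M) := h
  let eRS : R ≃ₗ[R] S' := LinearEquiv.ofBijective (Algebra.linearMap R S') hf
  haveI : Module.Flat R S' := Module.Flat.of_linearEquiv eRS.symm
  haveI : Module.Flat R (TensorProduct R S' M) := Module.Flat.trans R S' _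
  let e : M ≃ₗ[R] TensorProduct R S' M :=
    (TensorProduct.lid R M).symm ≪≫ₗ TensorProduct.congr eRS (LinearEquiv.refl R M)
  exact Module.Flat.of_linearEquiv e

/-- flatness at a point can be checked after restriction to an open neighbourhood -/
theorem isFlatAt_of_pullback {W : Scheme.{u}} (j : W ⟶ X) [IsOpenImmersion j] (M : X.Modules)
    (h : FlatMod.IsFlat ((Scheme.Modules.pullback j).obj M)) (x' : W) :
    FlatMod.IsFlatAt M (j x') := by
  have h0 : Module.Flat (W.presheaf.stalk x') ((Stalk.pullbackStalk j x').obj M) := h x'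
  have h1 : Module.Flat (W.presheaf.stalk x') ((Stalk.stalkExt j x').obj M) :=
    Module.Flat.of_linearEquiv ((Stalk.pullbackStalkIso j x').app M).toLinearEquiv.symm
  have hbij : Function.Bijective (j.stalkMap x').hom :=
    ConcreteCategory.bijective_of_isIso (j.stalkMap x')
  exact flat_of_flat_extendScalars (j.stalkMap x').hom hbij ((Stalk.stalkFunctor (j x')).obj M) h1

/-- flatness is local -/
theorem flatMod_of_locally (M : X.Modules)
    (h : ∀ x : X, ∃ V : X.Opens, x ∈ V ∧ FlatMod.IsFlat ((restrictFunctor V.ι).obj M)) :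
    FlatMod.IsFlat M := by
  intro x
  obtain ⟨V, hxV, hV⟩ := h x
  have h1 : FlatMod.IsFlat ((Scheme.Modules.pullback V.ι).obj M) :=
    FlatTor.flatMod_of_iso ((restrictFunctorIsoPullback V.ι).app M) hV
  exact isFlatAt_of_pullback V.ι M h1 ⟨x, hxV⟩

end FlatLocal

section Forward

/-- restriction to an open commutes with cohomology -/
noncomputable def HDRestrictIso (V : X.Opens) (C : CochainComplex X.Modules ℤ) (j : ℤ) :
    DCoh.HD (DerivedCategory.Q.obj ((resCx V.ι).obj C)) j ≅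
      (restrictFunctor V.ι).obj (DCoh.HD (DerivedCategory.Q.obj C) j) :=
  (DerivedCategory.homologyFunctor _ j).mapIso
      (((restrictFunctor V.ι).mapDerivedCategoryFactors.app C).symm) ≪≫
    (Groth.Agent.H16.ExactDer.homologyNatIso (restrictFunctor V.ι) j).app
      (DerivedCategory.Q.obj C)

/-- **(⟹), flat amplitude** -/
theorem hasFlatAmplitudeIn_of_hasPerfectAmplitudeIn (E : DCoh.D X) (m n : ℤ) (hmn : m ≤ n)
    (h : KSix.HasPerfectAmplitudeIn m n E) : DCoh.HasFlatAmplitudeIn m n E := by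
  let M := DerivedCategory.Q.objPreimage E
  let eM : DerivedCategory.Q.obj M ≅ E := DerivedCategory.Q.objObjPreimageIso E
  have hz : ∀ j : ℤ, j < m ∨ n < j → IsZero (DCoh.HD E j) := by
    intro j hj
    refine LocFreeLocus.isZero_of_locally _ (fun x => ?_)
    obtain ⟨V, hxV, S, hS, -, ⟨i⟩⟩ := isPAAlong_of_hasPerfectAmplitudeIn eM h x
    refine ⟨V, hxV, ?_⟩
    refine IsZero.of_iso (PCSummand.isZero_homology_of_isZero_X S j (hS j hj))
      ((restrictFunctor V.ι).mapIso ((DerivedCategory.homologyFunctor _ j).mapIso eM.symm) ≪≫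
        (HDRestrictIso V M j).symm ≪≫ (DerivedCategory.homologyFunctor _ j).mapIso i)
  haveI : E.IsLE n := (DerivedCategory.isLE_iff E n).2 (fun j hj => hz j (Or.inr hj))
  obtain ⟨K, hK, ⟨eK⟩⟩ := DerivedCategory.exists_iso_Q_obj_of_isLE E n
  obtain ⟨B, f, hB, hBfl, hf⟩ := FlatTor.exists_flat_resolution K n
  have : IsIso (DerivedCategory.Q.map f) := by
    rw [DerivedCategory.isIso_Q_map_iff_quasiIso]
    exact hf
  let eB : DerivedCategory.Q.obj B ≅ E := asIso (DerivedCategory.Q.map f) ≪≫ eK.symm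
  -- flatness of the cokernel
  have hcok : FlatMod.IsFlat (cokernel (B.d (m - 1) m)) := by
    refine flatMod_of_locally _ (fun x => ?_)
    obtain ⟨V, hxV, S, hS, hSfl, ⟨i⟩⟩ := isPAAlong_of_hasPerfectAmplitudeIn eB h x
    refine ⟨V, hxV, ?_⟩
    let BV := (resCx V.ι).obj B
    have hBV : BV.IsStrictlyLE n := by
      rw [CochainComplex.isStrictlyLE_iff]
      exact fun i hi => (restrictFunctor V.ι).map_isZero (B.isZero_of_isStrictlyLE n i hi)
    have hBVfl : ∀ i : ℤ, FlatMod.IsFlat (BV.X i) := fun i =>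
      PerfectOfFlatPC.flatMod_restrict V.ι _ (hBfl i)
    have hSK : DCoh.IsKFlat S :=
      KFlatScheme.isKFlat_of_flat_of_vanishesOutside S m n hS
        (fun i => PerfectPull.flatMod_of_isFinLocFree _ (hSfl i))
    have key := FlatCokerScheme.isFlat_cokernel_d_of_isZero_HD BV n hBV hBVfl
      (fun G => KFlatScheme.hasLTensorMod G) (m - 1) m (by omega) (fun G _ => by
        refine IsZero.of_iso ?_ ((DerivedCategory.homologyFunctor _ (m - 1)).mapIso
          ((DCoh.LTensorMod G).mapIso i) ≪≫ FlatCokerScheme.HDLTensorModIso G S hSK (m - 1))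
        rw [← exactAt_iff_isZero_homology]
        exact ExactAt.of_isZero ((DCoh.tensorRightMod G).map_isZero (hS (m - 1) (Or.inl (by omega)))))
    exact FlatTor.flatMod_of_iso
      (PreservesCokernel.iso (restrictFunctor V.ι) (B.d (m - 1) m)).symm key
  have h2 : (ComplexShape.up ℤ).prev m = m - 1 := by simp
  let e₂ : cokernel (B.d (m - 1) m) ≅ B.opcycles m :=
    ((B.opcyclesIsCokernel (m - 1) m h2).coconePointUniqueUpToIso (colimit.isColimit _)).symm
  have hop : FlatMod.IsFlat (B.opcycles m) := FlatTor.flatMod_of_iso e₂ hcok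
  -- the truncation
  haveI : B.IsGE m := by
    rw [B.isGE_iff m]
    intro j hj
    rw [exactAt_iff_isZero_homology]
    exact (hz j (Or.inl hj)).of_iso (((DerivedCategory.homologyFunctorFactors _ j).app B).symm ≪≫
      ((DerivedCategory.homologyFunctor _ j).mapIso eB))
  have : IsIso (DerivedCategory.Q.map (B.πTruncGE m)) := by
    rw [DerivedCategory.isIso_Q_map_iff_quasiIso]
    infer_instance
  refine ⟨B.truncGE m, ?_, ?_, ⟨(asIso (DerivedCategory.Q.map (B.πTruncGE m))).symm ≪≫ eB⟩⟩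
  · intro j hj
    rcases hj with hj | hj
    · exact (B.truncGE m).isZero_of_isStrictlyGE m j hj
    · exact (B.isZero_of_isStrictlyLE n j hj).of_iso (B.truncGEXIso m j (by omega))
  · intro j
    rcases lt_trichotomy j m with hj | hj | hj
    · exact FlatTor.flatMod_of_isZero ((B.truncGE m).isZero_of_isStrictlyGE m j hj)
    · subst hj
      exact FlatTor.flatMod_of_iso (B.truncGEXIsoOpcycles j).symm hop
    · exact FlatTor.flatMod_of_iso (B.truncGEXIso m j hj).symm (hBfl j)

end Forward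

/-- perfect amplitude implies perfect -/
theorem isPerfect_of_hasPerfectAmplitudeIn (E : DCoh.D X) (m n : ℤ)
    (h : KSix.HasPerfectAmplitudeIn m n E) : DCoh.IsPerfect E := by
  intro x
  obtain ⟨V, hxV, hV⟩ := h x
  refine ⟨V, hxV, fun F hF => ?_⟩
  obtain ⟨E', hE', hfl, hi⟩ := hV F hF
  exact ⟨E', ⟨⟨m, n, hE'⟩, hfl⟩, hi⟩

/-- **Perfect amplitude in `[m, n]` ⟺ `(m-1)`-pseudo-coherent with flat amplitude in `[m, n]`.** -/
theorem hasPerfectAmplitudeIn_iff (E : DCoh.D X) (m n : ℤ) (hmn : m ≤ n) :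
    KSix.HasPerfectAmplitudeIn m n E ↔
      DCoh.IsPseudoCoherentD (m - 1) E ∧ DCoh.HasFlatAmplitudeIn m n E :=
  ⟨fun h => ⟨PerfectIff.isPseudoCoherentD_of_isPerfect E
      (isPerfect_of_hasPerfectAmplitudeIn E m n h) (m - 1),
    hasFlatAmplitudeIn_of_hasPerfectAmplitudeIn E m n hmn h⟩,
  fun h => hasPerfectAmplitudeIn_of_pc_of_flat E m n hmn h.1 h.2⟩

end Groth.Agent.H5.PerfAmp
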