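import Mathlib
import Groth.Prelude.Def_DRing2
import Groth.Agent.H5.FlatCycles
import Groth.Agent.H5.LocalLiftQis
import Groth.Agent.H5.Approx
import Groth.Agent.H35.PerfCx
import Groth.Agent.H35.DerHom

/-!
# Flatness of the opcycles of an approximation of a complex of finite tor amplitude (ring level)
-/

set_option autoImplicit false
universe u
open CategoryTheory CategoryTheory.Limits HomologicalComplex

attribute [local instance] HasDerivedCategory.standard

namespace Groth.Agent.H5.RingOpcycles

open CochainComplex Groth.Agent.H5.Approx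

section General

variable {A : Type*} [Category A] [Abelian A] {P G : CochainComplex A ℤ} (β : P ⟶ G)

/-- the first projection of the cone is an isomorphism in degrees where `G` vanishes -/
noncomputable def fstIso (p q : ℤ) (hpq : p + 1 = q) (hG : IsZero (G.X p)) :
    (mappingCone β).X p ≅ P.X q where
  hom := (mappingCone.fst β).1.v p q hpq
  inv := (mappingCone.inl β).v q p (by lia)
  hom_inv_id := by
    have h := mappingCone.id_X β p q hpq
    rw [hG.eq_of_tgt ((mappingCone.snd β).v p p (add_zero p)) 0, zero_comp, add_zero] at h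
    exact h
  inv_hom_id := mappingCone.inl_v_fst_v β q p hpq

/-- the opcycles of the cone in a degree where `G` vanishes -/
noncomputable def opcyclesIso (n m : ℤ) (hnm : n + 1 = m) (hG : IsZero (G.X n))
    (hG' : IsZero (G.X (n - 1))) : (mappingCone β).opcycles n ≅ P.opcycles m := by
  have h1 : (ComplexShape.up ℤ).prev n = n - 1 := by simp
  have h2 : (ComplexShape.up ℤ).prev m = n := by simp [← hnm]
  let e₁ : (mappingCone β).opcycles n ≅ cokernel ((mappingCone β).d (n - 1) n) :=
    ((mappingCone β).opcyclesIsCokernel (n - 1) n h1).coconePointUniqueUpToIso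
      (colimit.isColimit _)
  let e₂ : P.opcycles m ≅ cokernel (P.d n m) :=
    (P.opcyclesIsCokernel n m h2).coconePointUniqueUpToIso (colimit.isColimit _)
  let u : (mappingCone β).X (n - 1) ≅ P.X n := fstIso β (n - 1) n (by lia) hG'
  let u' : (mappingCone β).X (n - 1) ≅ P.X n :=
    { hom := -u.hom
      inv := -u.inv
      hom_inv_id := by simp
      inv_hom_id := by simp }
  let v : (mappingCone β).X n ≅ P.X m := fstIso β n m hnm hG
  have w : (mappingCone β).d (n - 1) n ≫ v.hom = u'.hom ≫ P.d n m := by
    change (mappingCone β).d (n - 1) n ≫ (mappingCone.fst β).1.v n m hnm =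
      (-(mappingCone.fst β).1.v (n - 1) n (by lia)) ≫ P.d n m
    rw [mappingCone.d_fst_v β (n - 1) n m (by lia) hnm, Preadditive.neg_comp]
  exact e₁ ≪≫ cokernel.mapIso _ _ u' v w ≪≫ e₂.symm

end General

section Ring

variable {R : Type u} [CommRing R]

/-- a product of two flat modules is flat -/
theorem flat_prod (M N : Type u) [AddCommGroup M] [Module R M]
    [AddCommGroup N] [Module R N] [Module.Flat R M] [Module.Flat R N] : Module.Flat R (M × N) := by
  rw [Module.Flat.iff_rTensor_preserves_injective_linearMap]
  intro A B _ _ _ _ f hf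
  have h1 : Function.Injective (LinearMap.rTensor M f) :=
    Module.Flat.rTensor_preserves_injective_linearMap f hf
  have h2 : Function.Injective (LinearMap.rTensor N f) :=
    Module.Flat.rTensor_preserves_injective_linearMap f hf
  have h3 : (TensorProduct.prodRight R R B M N).toLinearMap ∘ₗ LinearMap.rTensor (M × N) f =
      (LinearMap.prodMap (LinearMap.rTensor M f) (LinearMap.rTensor N f)) ∘ₗ
        (TensorProduct.prodRight R R A M N).toLinearMap := by
    apply TensorProduct.ext'
    intro x y
    simp
  have h4 : Function.Injective ((LinearMap.prodMap (LinearMap.rTensor M f)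
      (LinearMap.rTensor N f)) ∘ₗ (TensorProduct.prodRight R R A M N).toLinearMap) := by
    rw [LinearMap.coe_comp]
    exact (Function.Injective.prodMap h1 h2).comp (TensorProduct.prodRight R R A M N).injective
  rw [← h3, LinearMap.coe_comp] at h4
  exact Function.Injective.of_comp h4

/-- the kernel of an epimorphism of flat modules is flat -/
theorem flat_X₁ (S : ShortComplex (ModuleCat.{u} R)) (hS : S.ShortExact)
    (h₂ : Module.Flat R S.X₂) (h₃ : Module.Flat R S.X₃) : Module.Flat R S.X₁ :=
  FlatCycles.flat_of_exact' S.f.hom S.g.hom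
    ((ModuleCat.mono_iff_injective _).1 hS.mono_f)
    ((ShortComplex.ShortExact.moduleCat_exact_iff_function_exact _).1 hS.exact)
    ((ModuleCat.epi_iff_surjective _).1 hS.epi_g)

/-- the cycles of a bounded above complex of flat modules, exact in degrees `> n`, are flat in
degrees `≥ n` -/
theorem flat_cycles (C : CochainComplex (ModuleCat.{u} R) ℤ) (hflat : ∀ i, Module.Flat R (C.X i))
    (N : ℤ) (hN : ∀ i, N < i → IsZero (C.X i)) (n : ℤ)
    (hex : ∀ i, n < i → IsZero (C.homology i)) :
    ∀ i, n ≤ i → Module.Flat R (C.cycles i) := by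
  have key : ∀ (k : ℕ) (i : ℤ), n ≤ i → N + 1 ≤ i + k → Module.Flat R (C.cycles i) := by
    intro k
    induction k with
    | zero =>
      intro i _ hi
      have hz : IsZero (C.cycles i) := IsZero.of_mono (C.iCycles i) (hN i (by lia))
      have : Subsingleton (C.cycles i) := ModuleCat.subsingleton_of_isZero hz
      infer_instance
    | succ k ih =>
      intro i hni hi
      have hj := ih (i + 1) (by lia) (by push_cast at hi ⊢; lia)
      exact flat_X₁ _ (FlatCycles.shortExact_cycles C i (i + 1) rfl (hex (i + 1) (by lia)))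
        (hflat i) hj
  intro i hi
  exact key (N + 1 - i).toNat i hi (by lia)

/-- the opcycles in degree `n` are flat as well when `C` is exact in degrees `≥ n` -/
theorem flat_opcycles (C : CochainComplex (ModuleCat.{u} R) ℤ)
    (hflat : ∀ i, Module.Flat R (C.X i))
    (N : ℤ) (hN : ∀ i, N < i → IsZero (C.X i)) (n : ℤ)
    (hex : ∀ i, n ≤ i → IsZero (C.homology i)) : Module.Flat R (C.opcycles n) := by
  have := FlatCycles.isIso_opcyclesToCycles C n (n + 1) rfl (hex n le_rfl) (hex (n + 1) (by lia))
  have h := flat_cycles C hflat N hN n (fun i hi => hex i hi.le) (n + 1) (by lia)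
  exact Module.Flat.of_linearEquiv (asIso (C.opcyclesToCycles n (n + 1))).toLinearEquiv

/-- **Key ring-level statement.** If a bounded above complex of projective modules `P`
approximates to order `a - 1` an object of tor amplitude in `[a, b]`, then the opcycles of `P` in
degree `a` are flat. -/
theorem flat_opcycles_of_isApprox (P : CochainComplex (ModuleCat.{u} R) ℤ) (N : ℤ)
    (hPb : ∀ i, N < i → IsZero (P.X i)) (hPp : ∀ i, Module.Projective R (P.X i))
    (K : Dual.D R) (a b : ℤ) (hK : DRing.HasTorAmplitudeIn R a b K)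
    (α : DerivedCategory.Q.obj P ⟶ K) (hα : IsApprox (a - 1) α) :
    Module.Flat R (P.opcycles a) := by
  obtain ⟨G, hG, hGfl, ⟨e⟩⟩ := hK
  haveI : P.IsKProjective := Groth.Agent.H35.isKProjective_of_vanishesAbove P N hPb hPp
  obtain ⟨γ, hγ⟩ := Groth.Agent.H35.Q_map_surjective_of_isKProjective G (α ≫ e.inv)
  have hγ' : IsApprox (a - 1) (DerivedCategory.Q.map γ) := by
    rw [hγ]
    exact hα.comp_iso _
  have hβ' := (isApprox_Q_map_iff γ).1 hγ'
  have hPfl : ∀ i, Module.Flat R (P.X i) := fun i => by
    have := hPp i
    infer_instance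
  have iso : ∀ i : ℤ, (mappingCone γ).X i ≅ (P.X (i + 1)) ⊞ (G.X i) := fun i =>
    homotopyCofiber.XIsoBiprod γ i (i + 1) rfl
  have hCfl : ∀ i, Module.Flat R ((mappingCone γ).X i) := fun i => by
    have h1 : Module.Flat R (P.X (i + 1)) := hPfl _
    have h2 : Module.Flat R (G.X i) := hGfl _
    have e2 : ((P.X (i + 1)) ⊞ (G.X i) : ModuleCat.{u} R) ≅ ModuleCat.of R (P.X (i + 1) × G.X i) :=
      ModuleCat.biprodIsoProd _ _
    have h3 : Module.Flat R (P.X (i + 1) × G.X i) := flat_prod _ _
    exact Module.Flat.of_linearEquiv ((iso i) ≪≫ e2).toLinearEquiv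
  have hCb : ∀ i, max N b < i → IsZero ((mappingCone γ).X i) := by
    intro i hi
    refine IsZero.of_iso ?_ (iso i)
    have z₁ : IsZero (P.X (i + 1)) := hPb _ (by have := le_max_left N b; lia)
    have z₂ : IsZero (G.X i) := hG _ (Or.inr (by have := le_max_right N b; lia))
    rw [IsZero.iff_id_eq_zero]
    apply biprod.hom_ext
    · exact z₁.eq_of_tgt _ _
    · exact z₂.eq_of_tgt _ _
  have hCex : ∀ i, a - 1 ≤ i → IsZero ((mappingCone γ).homology i) := fun i hi =>
    LocalLiftQis.isZero_homology_mappingCone γ (a - 1) hβ'.1 hβ'.2 i hi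
  have h := flat_opcycles (mappingCone γ) hCfl (max N b) hCb (a - 1) hCex
  exact Module.Flat.of_linearEquiv
    (opcyclesIso γ (a - 1) a (by lia) (hG _ (Or.inl (by lia)))
      (hG _ (Or.inl (by lia)))).toLinearEquiv.symm

end Ring

end Groth.Agent.H5.RingOpcycles
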