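import Mathlib
import Groth.Agent.H5.RingOpcycles
import Groth.Agent.H5.StalkTorAmp2
import Groth.Agent.H5.PerfectOfFlatPC
import Groth.Agent.H35.FlatBaseChangeD

/-!
# Spreading out perfection from a stalk

If a complex `F` on a scheme is `(a-1)`-pseudo-coherent at `x`, has no cohomology below `a` and its
complex of stalks at `x` has tor amplitude in `[a, b]`, then `F` is strictly perfect near `x`.
-/

set_option autoImplicit false
universe u
open CategoryTheory CategoryTheory.Limits AlgebraicGeometry HomologicalComplex ZeroObject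

attribute [local instance] HasDerivedCategory.standard

namespace Groth.Agent.H5.SpreadPerfect

open CochainComplex Scheme.Modules Groth.Agent.H5.Approx Groth.Agent.H5.PerfectTriangle
  Groth.Agent.H5.PCAlong Groth.Agent.H5.Stalk Groth.Agent.H5.StalkTorAmp Groth.Agent.H44

section Ring

open Groth.Agent.H35.LT

/-- tor amplitude is preserved by flat base change of complexes -/
theorem hasTorAmplitudeIn_extCx_of_flat {A B : Type u} [CommRing A] [CommRing B] (φ : A →+* B)
    (hφ : φ.Flat) (K : CochainComplex (ModuleCat.{u} A) ℤ) (a b : ℤ)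
    (h : DRing.HasTorAmplitudeIn A a b (DerivedCategory.Q.obj K)) :
    DRing.HasTorAmplitudeIn B a b (DerivedCategory.Q.obj ((extCx φ).obj K)) := by
  letI : Algebra A B := φ.toAlgebra
  haveI : Module.Flat A B := hφ
  obtain ⟨E, hE, hfl, ⟨e⟩⟩ :=
    hasTorAmplitudeIn_mapDerivedCategory_extendScalars (A := A) (B := B) _ a b h
  exact ⟨E, hE, hfl, ⟨e ≪≫
    (ModuleCat.extendScalars.{u, u, u} (algebraMap A B)).mapDerivedCategoryFactors.app K⟩⟩

end Ring

/-- exact functors preserve the vanishing of cohomology in low degrees -/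
lemma isGE_map {A B : Type*} [Category A] [Abelian A] [Category B] [Abelian B]
    [HasDerivedCategory A] [HasDerivedCategory B]
    (R : A ⥤ B) [R.Additive] [PreservesFiniteLimits R] [PreservesFiniteColimits R]
    (K : CochainComplex A ℤ) (a : ℤ) (h : (DerivedCategory.Q.obj K).IsGE a) :
    CochainComplex.IsGE ((R.mapHomologicalComplex (ComplexShape.up ℤ)).obj K) a := by
  rw [← DerivedCategory.isGE_Q_obj_iff, DerivedCategory.isGE_iff]
  intro i hi
  have h1 : IsZero ((DerivedCategory.homologyFunctor A i).obj (DerivedCategory.Q.obj K)) :=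
    (DerivedCategory.isGE_iff _ a).1 h i hi
  exact (R.map_isZero h1).of_iso
    ((DerivedCategory.homologyFunctor _ i).mapIso (R.mapDerivedCategoryFactors.app K).symm ≪≫
      (Groth.Agent.H16.ExactDer.homologyNatIso R i).app (DerivedCategory.Q.obj K))

variable {X : Scheme.{u}}

/-- the stalks of a finite locally free module are projective -/
lemma projective_stalk (M : X.Modules) (hM : FlatMod.IsFinLocFree M) (x : X) :
    Module.Projective (X.presheaf.stalk x) ((stalkFunctor x).obj M) := by
  have hFP : CohB1.IsFP M := Groth.Agent.H33.PC.isFP_of_locFinPres _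
    (Groth.Agent.H33.PC.locFinPres_of_cokernel (0 : (0 : X.Modules) ⟶ M) cokernelZeroIsoTarget
      (isFinLocFree_of_isZero _ (isZero_zero _)) hM)
  haveI : SheafOfModules.IsFinitePresentation (R := X.ringCatSheaf) M := hFP
  obtain ⟨U, n, hxU, ⟨e⟩⟩ := hM x
  haveI : Module.Free (X.presheaf.stalk x) ((stalkFunctor x).obj M) :=
    @Groth.Agent.H67.FlatLocFree.free_stalk_of_free_nhds X M
      (SheafOfModules.instIsQuasicoherentOfIsFinitePresentation M) U n e x hxU
  exact Module.Projective.of_free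

/-- **Spreading out perfection from a stalk.** -/
theorem exists_isSPAlong_of_stalk (F : CochainComplex X.Modules ℤ) (a b : ℤ) (x : X)
    (hGE : (DCoh.toD X F).IsGE a) (hpc : IsPCAt (a - 1) F x)
    (htor : DRing.HasTorAmplitudeIn (X.presheaf.stalk x) a b (DRing.toD ((sCx x).obj F))) :
    ∃ (W : Scheme.{u}) (j : W ⟶ X) (_ : IsOpenImmersion j), x ∈ Set.range j ∧ IsSPAlong j F := by
  obtain ⟨W, j, _, ⟨x', rfl⟩, P, β, hP, hβ⟩ := hpc
  -- stalks at `x'`
  let P₀ := (sCx x').obj P
  let S := (sCx x').obj ((resCx j).obj F)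
  have hβ₀ : IsApprox (a - 1) (DerivedCategory.Q.map ((sCx x').map β)) :=
    isApprox_Q_map_map (stalkFunctor x') β hβ
  have eS : S ≅ (Groth.Agent.H35.LT.extCx (j.stalkMap x').hom).obj ((sCx (j x')).obj F) :=
    (sCx x').mapIso ((NatIso.mapHomologicalComplex (restrictFunctorIsoPullback j)
      (ComplexShape.up ℤ)).app F) ≪≫ StalkTorAmp2.sCxPullbackIso j F x'
  have hS : DRing.HasTorAmplitudeIn (W.presheaf.stalk x') a b (DerivedCategory.Q.obj S) := by
    obtain ⟨E, hE, hfl, ⟨e⟩⟩ := hasTorAmplitudeIn_extCx_of_flat (j.stalkMap x').hom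
      (Flat.stalkMap j x') _ a b htor
    exact ⟨E, hE, hfl, ⟨e ≪≫ (DerivedCategory.Q.mapIso eS).symm⟩⟩
  obtain ⟨⟨a₀, b₀, hab⟩, hfl⟩ := hP
  have hflat₀ : Module.Flat (W.presheaf.stalk x') (P₀.opcycles a) :=
    RingOpcycles.flat_opcycles_of_isApprox P₀ b₀
      (fun i hi => (stalkFunctor x').map_isZero (hab i (Or.inr hi)))
      (fun i => projective_stalk (P.X i) (hfl i) x') _ a b hS _ hβ₀
  have hflatAt : FlatMod.IsFlatAt (P.opcycles a) x' := by
    have e : P₀.opcycles a ≅ (stalkFunctor x').obj (P.opcycles a) :=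
      (P.sc a).mapOpcyclesIso (stalkFunctor x')
    exact Module.Flat.of_linearEquiv e.toLinearEquiv.symm
  have hFP : CohB1.IsFP (P.opcycles a) := by
    have h2 : (ComplexShape.up ℤ).prev a = a - 1 := by simp
    let e₂ : cokernel (P.d (a - 1) a) ≅ P.opcycles a :=
      ((P.opcyclesIsCokernel (a - 1) a h2).coconePointUniqueUpToIso (colimit.isColimit _)).symm
    exact Groth.Agent.H33.PC.isFP_of_locFinPres _
      (Groth.Agent.H33.PC.locFinPres_of_cokernel (P.d (a - 1) a) e₂ (hfl _) (hfl _))
  obtain ⟨U, hxU, hU⟩ :=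
    (Groth.Agent.H67.FlatLocFree.isFlatAt_iff (P.opcycles a) hFP x').1 hflatAt
  -- restrict to `U`
  let k := U.ι
  let P_U := (resCx k).obj P
  have hPU : DCoh.IsStrictlyPerfect P_U := isStrictlyPerfect_restrict k P ⟨⟨a₀, b₀, hab⟩, hfl⟩
  have hQ : FlatMod.IsFinLocFree (P_U.opcycles a) := by
    have e : P_U.opcycles a ≅ (restrictFunctor k).obj (P.opcycles a) :=
      (P.sc a).mapOpcyclesIso (restrictFunctor k)
    exact FinLocFreeOps.isFinLocFree_of_iso
      (((restrictFunctorIsoPullback k).app (P.opcycles a)).symm ≪≫ e.symm) hU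
  have hT := PerfectOfFlatPC.isStrictlyPerfect_truncGE P_U hPU a hQ
  let F_U := (resCx (k ≫ j)).obj F
  let β_U : P_U ⟶ F_U := (resCx k).map β ≫ (resCxCompIso k j F).inv
  have hβU : IsApprox (a - 1) (DerivedCategory.Q.map β_U) := by
    change IsApprox (a - 1) (DerivedCategory.Q.map ((resCx k).map β ≫ (resCxCompIso k j F).inv))
    rw [Functor.map_comp]
    exact (isApprox_Q_map_map (restrictFunctor k) β hβ).comp_iso _
  have hβU' := (isApprox_Q_map_iff β_U).1 hβU
  haveI : F_U.IsGE a := isGE_map (restrictFunctor (k ≫ j)) F a hGE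
  have hq : QuasiIso (CochainComplex.truncGEMap β_U a) := by
    rw [CochainComplex.quasiIso_truncGEMap_iff]
    intro i hi
    rw [quasiIsoAt_iff_isIso_homologyMap]
    exact hβU'.1 i (by lia)
  have h1 : IsIso (DerivedCategory.Q.map (CochainComplex.truncGEMap β_U a)) := by
    rw [DerivedCategory.isIso_Q_map_iff_quasiIso]
    exact hq
  have h2 : IsIso (DerivedCategory.Q.map (F_U.πTruncGE a)) := by
    rw [DerivedCategory.isIso_Q_map_iff_quasiIso]
    infer_instance
  exact ⟨U, k ≫ j, inferInstance, ⟨⟨x', hxU⟩, rfl⟩, P_U.truncGE a, hT,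
    ⟨asIso (DerivedCategory.Q.map (F_U.πTruncGE a)) ≪≫
      (asIso (DerivedCategory.Q.map (CochainComplex.truncGEMap β_U a))).symm⟩⟩

end Groth.Agent.H5.SpreadPerfect
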