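import Mathlib
import Groth.Agent.H5.SpreadPerfect
import Groth.Agent.H5.PerfAmp
import Groth.Agent.H33.PC.QCohHD
import Groth.Agent.H33.PC.Top
import Groth.Agent.H33.PC.KerEpi
import Groth.Agent.H33.PC.Cycles
import Groth.Agent.H67.FlatLocFree

/-!
# The locus where the cohomology sheaves of a perfect complex are finite free
-/

set_option autoImplicit false
set_option linter.style.haveILetI false
universe u
open CategoryTheory CategoryTheory.Limits AlgebraicGeometry HomologicalComplex ZeroObject

attribute [local instance] HasDerivedCategory.standard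

namespace Groth.Agent.H5.FreeCohLocus

open CochainComplex Scheme.Modules Groth.Agent.H5.PerfectTriangle Groth.Agent.H5.PCAlong
  Groth.Agent.H5.Stalk

variable {X : Scheme.{u}}

/-- flatness at a point passes to the restriction to an open neighbourhood -/
theorem isFlatAt_restrict {W : Scheme.{u}} (j : W ⟶ X) [IsOpenImmersion j] (M : X.Modules)
    (x' : W) (x : X) (hx : j x' = x) (h : FlatMod.IsFlatAt M x) :
    FlatMod.IsFlatAt ((restrictFunctor j).obj M) x' := by
  subst hx
  haveI : Module.Flat (X.presheaf.stalk (j x')) ((stalkFunctor (j x')).obj M) := h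
  have h1 : Module.Flat (W.presheaf.stalk x') ((stalkExt j x').obj M) := by
    letI := (j.stalkMap x').hom.toAlgebra
    change Module.Flat (W.presheaf.stalk x')
      (TensorProduct (X.presheaf.stalk (j x')) (W.presheaf.stalk x')
        ((stalkFunctor (j x')).obj M))
    infer_instance
  haveI h0 : Module.Flat (W.presheaf.stalk x')
      ((stalkFunctor x').obj ((Scheme.Modules.pullback j).obj M)) :=
    Module.Flat.of_linearEquiv ((pullbackStalkIso j x').app M).toLinearEquiv
  exact Module.Flat.of_linearEquiv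
    ((stalkFunctor x').mapIso ((restrictFunctorIsoPullback j).app M)).toLinearEquiv

/-- **The inductive claim.** A bounded complex of finite locally free modules all of whose
cohomology sheaves are flat at `x` has finite locally free cohomology sheaves near `x`. -/
theorem claim (n : ℕ) : ∀ {W : Scheme.{u}} (P : CochainComplex W.Modules ℤ) (a b : ℤ)
    (_ : b < a + n) (_ : DCoh.VanishesOutside P a b) (_ : ∀ i, FlatMod.IsFinLocFree (P.X i))
    (x : W) (_ : ∀ i, FlatMod.IsFlatAt (P.homology i) x),
    ∃ (W' : Scheme.{u}) (k : W' ⟶ W) (_ : IsOpenImmersion k), x ∈ Set.range k ∧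
      ∀ i, FlatMod.IsFinLocFree ((restrictFunctor k).obj (P.homology i)) := by
  induction n with
  | zero =>
    intro W P a b hn hP hfl x hx
    refine ⟨W, 𝟙 W, inferInstance, ⟨x, rfl⟩, fun i => ?_⟩
    apply isFinLocFree_of_isZero
    apply Functor.map_isZero
    rw [← exactAt_iff_isZero_homology]
    exact ExactAt.of_isZero (hP i (by omega))
  | succ n ih =>
    intro W P a b hn hP hfl x hx
    -- top cohomology is finitely presented
    have hd : P.d b (b + 1) = 0 := (hP (b + 1) (Or.inr (by omega))).eq_of_tgt _ _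
    have h2 : (ComplexShape.up ℤ).prev b = b - 1 := by simp
    have h3 : (ComplexShape.up ℤ).next b = b + 1 := by simp
    haveI : IsIso (P.homologyι b) := P.isIso_homologyι b (b + 1) h3 hd
    let e₂ : cokernel (P.d (b - 1) b) ≅ P.homology b :=
      ((P.opcyclesIsCokernel (b - 1) b h2).coconePointUniqueUpToIso
        (colimit.isColimit _)).symm ≪≫ (asIso (P.homologyι b)).symm
    have hFP : CohB1.IsFP (P.homology b) := Groth.Agent.H33.PC.isFP_of_locFinPres _
      (Groth.Agent.H33.PC.locFinPres_of_cokernel (P.d (b - 1) b) e₂ (hfl _) (hfl _))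
    obtain ⟨U, hxU, hU⟩ :=
      (Groth.Agent.H67.FlatLocFree.isFlatAt_iff (P.homology b) hFP x).1 (hx b)
    let j := U.ι
    let PU := (resCx j).obj P
    let eH : ∀ i, PU.homology i ≅ (restrictFunctor j).obj (P.homology i) := fun i =>
      (P.sc i).mapHomologyIso (restrictFunctor j)
    have hPUfl : ∀ i, FlatMod.IsFinLocFree (PU.X i) := fun i =>
      LocalNull.isFinLocFree_restrict j _ (hfl i)
    have hPUz : ∀ i, i < a ∨ b < i → IsZero (PU.X i) := fun i hi =>
      (restrictFunctor j).map_isZero (hP i hi)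
    have hHb : FlatMod.IsFinLocFree (PU.homology b) :=
      FinLocFreeOps.isFinLocFree_of_iso
        (((restrictFunctorIsoPullback j).app _).symm ≪≫ (eH b).symm) hU
    -- cycles in degree `b`
    have hdU : PU.d b (b + 1) = 0 := (hPUz (b + 1) (Or.inr (by omega))).eq_of_tgt _ _
    haveI : IsIso (PU.iCycles b) := PU.isIso_iCycles b (b + 1) h3 hdU
    have hZb : FlatMod.IsFinLocFree (PU.cycles b) :=
      FinLocFreeOps.isFinLocFree_of_iso (asIso (PU.iCycles b)).symm (hPUfl b)
    -- the boundaries in degree `b`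
    have hK : FlatMod.IsFinLocFree (kernel (PU.homologyπ b)) :=
      Groth.Agent.H33.PC.isFinLocFree_kernel (PU.homologyπ b) hZb hHb
    let t' : PU.X (b - 1) ⟶ kernel (PU.homologyπ b) :=
      kernel.lift _ (PU.toCycles (b - 1) b) (PU.toCycles_comp_homologyπ (b - 1) b)
    haveI : Epi t' := by
      have hex : (ShortComplex.mk _ _ (PU.toCycles_comp_homologyπ (b - 1) b)).Exact :=
        ShortComplex.exact_of_g_is_cokernel _ (PU.homologyIsCokernel (b - 1) b h2)
      exact (ShortComplex.exact_iff_epi_kernel_lift _).1 hex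
    have hZ : FlatMod.IsFinLocFree (PU.cycles (b - 1)) := by
      have h4 : FlatMod.IsFinLocFree (kernel t') :=
        Groth.Agent.H33.PC.isFinLocFree_kernel t' (hPUfl _) hK
      have h5 : t' ≫ kernel.ι (PU.homologyπ b) = PU.toCycles (b - 1) b := kernel.lift_ι _ _ _
      exact FinLocFreeOps.isFinLocFree_of_iso
        ((kernelCompMono t' (kernel.ι (PU.homologyπ b))).symm ≪≫ kernelIsoOfEq h5 ≪≫
          (Groth.Agent.H33.PC.cyclesIsoKernelToCycles PU (b - 1) b (by omega)).symm) h4
    -- the truncation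
    let P' := PU.truncLE (b - 1)
    have hP'z : DCoh.VanishesOutside P' a (b - 1) := by
      intro i hi
      rcases hi with hi | hi
      · rcases lt_trichotomy i (b - 1) with h | h | h
        · exact (hPUz i (Or.inl hi)).of_iso (PU.truncLEXIso (b - 1) i h)
        · subst h
          exact (IsZero.of_mono (PU.iCycles (b - 1)) (hPUz _ (Or.inl hi))).of_iso
            (PU.truncLEXIsoCycles (b - 1))
        · exact P'.isZero_of_isStrictlyLE (b - 1) i h
      · exact P'.isZero_of_isStrictlyLE (b - 1) i hi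
    have hP'fl : ∀ i, FlatMod.IsFinLocFree (P'.X i) := by
      intro i
      rcases lt_trichotomy i (b - 1) with h | h | h
      · exact FinLocFreeOps.isFinLocFree_of_iso (PU.truncLEXIso (b - 1) i h).symm (hPUfl i)
      · subst h
        exact FinLocFreeOps.isFinLocFree_of_iso (PU.truncLEXIsoCycles _).symm hZ
      · exact isFinLocFree_of_isZero _ (P'.isZero_of_isStrictlyLE (b - 1) i h)
    have eH' : ∀ i, i ≤ b - 1 → Nonempty (P'.homology i ≅ PU.homology i) := by
      intro i hi
      have : QuasiIsoAt (PU.ιTruncLE (b - 1)) i := PU.quasiIsoAt_ιTruncLE (b - 1) i hi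
      exact ⟨isoOfQuasiIsoAt (PU.ιTruncLE (b - 1)) i⟩
    have hP'z' : ∀ i, b - 1 < i → IsZero (P'.homology i) := by
      intro i hi
      rw [← exactAt_iff_isZero_homology]
      exact ExactAt.of_isZero (P'.isZero_of_isStrictlyLE (b - 1) i hi)
    let x' : (U : Scheme.{u}) := ⟨x, hxU⟩
    have hflat' : ∀ i, FlatMod.IsFlatAt (P'.homology i) x' := by
      intro i
      by_cases hi : i ≤ b - 1
      · obtain ⟨e⟩ := eH' i hi
        haveI h5 : Module.Flat ((U : Scheme.{u}).presheaf.stalk x')
            ((stalkFunctor x').obj ((restrictFunctor j).obj (P.homology i))) :=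
          isFlatAt_restrict j (P.homology i) x' x rfl (hx i)
        exact Module.Flat.of_linearEquiv ((stalkFunctor x').mapIso (e ≪≫ eH i)).toLinearEquiv
      · exact FlatTor.flatMod_of_isZero (hP'z' i (by omega)) x'
    obtain ⟨W', k', hk', hxk', hfin⟩ := ih P' a (b - 1) (by omega) hP'z hP'fl x' hflat'
    refine ⟨W', k' ≫ j, inferInstance, ?_, fun i => ?_⟩
    · obtain ⟨w, hw⟩ := hxk'
      refine ⟨w, ?_⟩
      rw [Scheme.Hom.comp_apply, hw]
      rfl
    · have e1 : (restrictFunctor (k' ≫ j)).obj (P.homology i) ≅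
          (restrictFunctor k').obj (PU.homology i) :=
        (restrictFunctorComp k' j).app _ ≪≫ (restrictFunctor k').mapIso (eH i).symm
      rcases lt_trichotomy i b with h | h | h
      · obtain ⟨e⟩ := eH' i (by omega)
        exact FinLocFreeOps.isFinLocFree_of_iso ((restrictFunctor k').mapIso e ≪≫ e1.symm)
          (hfin i)
      · subst h
        exact FinLocFreeOps.isFinLocFree_of_iso e1.symm
          (LocalNull.isFinLocFree_restrict k' _ hHb)
      · apply isFinLocFree_of_isZero
        apply Functor.map_isZero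
        rw [← exactAt_iff_isZero_homology]
        exact ExactAt.of_isZero (hP i (Or.inr h))

/-- the cohomology sheaves of a perfect complex are quasi-coherent -/
lemma isQuasicoherent_HD (E : DCoh.D X) (hE : DCoh.IsPerfect E) (i : ℤ) :
    (DCoh.HD E i).IsQuasicoherent :=
  Groth.Agent.H33.PC.isQCoh_HD_of_pseudoCoherent (i - 1) E
    (PerfectIff.isPseudoCoherentD_of_isPerfect E hE (i - 1)) i (by omega)

/-- the stalks of a quasi-coherent module which is free of finite rank near `x` are finite free -/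
theorem free_finite_stalk (F : X.Modules) [F.IsQuasicoherent] {W : X.Opens} {n : ℕ}
    (e : F.restrict W.ι ≅ FlatMod.freeMod (W : Scheme.{u}) n) {x : X} (hx : x ∈ W) :
    Module.Free (X.presheaf.stalk x) (F.presheaf.stalk x) ∧
      Module.Finite (X.presheaf.stalk x) (F.presheaf.stalk x) := by
  obtain ⟨V, hV, hxV, hVW⟩ := TopologicalSpace.Opens.isBasis_iff_nbhd.1 X.isBasis_affineOpens hx
  obtain ⟨b⟩ := Groth.Agent.H44.nonempty_basis_of_iso_freeMod F hV hVW e
  haveI : Module.Finite Γ(X, V) Γ(F, V) := Module.Finite.of_basis b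
  exact ⟨Groth.Agent.H67.FlatLocFree.free_stalk_of_free_nhds F e hx,
    Groth.Agent.H67.FreeLocus.finite_stalk' F hV hxV⟩

/-- near a point where all the cohomology sheaves of a perfect complex are flat, they are finite
locally free -/
theorem exists_nhds (E : DCoh.D X) (hE : DCoh.IsPerfect E) (x : X)
    (hx : ∀ i, FlatMod.IsFlatAt (DCoh.HD E i) x) :
    ∃ V : X.Opens, x ∈ V ∧ ∀ i, FlatMod.IsFinLocFree ((DCoh.HD E i).restrict V.ι) := by
  let F := DerivedCategory.Q.objPreimage E
  let eF : DerivedCategory.Q.obj F ≅ E := DerivedCategory.Q.objObjPreimageIso E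
  obtain ⟨V₀, hxV₀, hV₀⟩ := hE x
  obtain ⟨P, ⟨⟨a, b, hab⟩, hfl⟩, ⟨e⟩⟩ := hV₀ F ⟨eF⟩
  let eP : ∀ i, P.homology i ≅ (DCoh.HD E i).restrict V₀.ι := fun i =>
    ((DerivedCategory.homologyFunctorFactors _ i).app P).symm ≪≫
      (DerivedCategory.homologyFunctor _ i).mapIso e.symm ≪≫
      Groth.Agent.H33.PC.homologyRestrictIso E F eF V₀ i
  let x' : (V₀ : Scheme.{u}) := ⟨x, hxV₀⟩
  have hflat : ∀ i, FlatMod.IsFlatAt (P.homology i) x' := by
    intro i
    haveI h5 : Module.Flat ((V₀ : Scheme.{u}).presheaf.stalk x')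
        ((stalkFunctor x').obj ((restrictFunctor V₀.ι).obj (DCoh.HD E i))) :=
      isFlatAt_restrict V₀.ι _ x' x rfl (hx i)
    exact Module.Flat.of_linearEquiv ((stalkFunctor x').mapIso (eP i)).toLinearEquiv
  obtain ⟨W', k, hk, hxk, hfin⟩ := claim (b - a + 1).toNat P a b (by omega) hab hfl x' hflat
  let l : W' ⟶ X := k ≫ V₀.ι
  refine ⟨l.opensRange, ?_, fun i => ?_⟩
  · obtain ⟨w, hw⟩ := hxk
    refine ⟨w, ?_⟩
    change (k ≫ V₀.ι) w = x
    rw [Scheme.Hom.comp_apply, hw]
    rfl
  · have hl : l.isoOpensRange.inv ≫ l = l.opensRange.ι := l.isoOpensRange_inv_comp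
    have e1 : (DCoh.HD E i).restrict l.opensRange.ι ≅
        (restrictFunctor l.isoOpensRange.inv).obj ((restrictFunctor l).obj (DCoh.HD E i)) :=
      (restrictFunctorCongr hl.symm).app _ ≪≫ (restrictFunctorComp l.isoOpensRange.inv l).app _
    have e2 : (restrictFunctor l).obj (DCoh.HD E i) ≅ (restrictFunctor k).obj (P.homology i) :=
      (restrictFunctorComp k V₀.ι).app _ ≪≫ (restrictFunctor k).mapIso (eP i).symm
    exact FinLocFreeOps.isFinLocFree_of_iso e1.symm
      (LocalNull.isFinLocFree_restrict _ _ (FinLocFreeOps.isFinLocFree_of_iso e2.symm (hfin i)))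

/-- **The locus where the cohomology sheaves of a perfect complex are finite free is open**, the
cohomology sheaves are finite locally free over it, and it is the largest such open. -/
theorem main (E : DCoh.D X) (hE : DCoh.IsPerfect E) :
    ∃ U : X.Opens,
      (U : Set X) = {x : X | ∀ i : ℤ,
        Module.Free (X.presheaf.stalk x) ((DCoh.HD E i).presheaf.stalk x) ∧
        Module.Finite (X.presheaf.stalk x) ((DCoh.HD E i).presheaf.stalk x)} ∧
      (∀ i : ℤ, FlatMod.IsFinLocFree ((DCoh.HD E i).restrict U.ι)) ∧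
      ∀ W : X.Opens, (∀ i : ℤ, FlatMod.IsFinLocFree ((DCoh.HD E i).restrict W.ι)) → W ≤ U := by
  let S : Set X := {x : X | ∀ i : ℤ,
    Module.Free (X.presheaf.stalk x) ((DCoh.HD E i).presheaf.stalk x) ∧
    Module.Finite (X.presheaf.stalk x) ((DCoh.HD E i).presheaf.stalk x)}
  have hsub : ∀ W : X.Opens, (∀ i : ℤ, FlatMod.IsFinLocFree ((DCoh.HD E i).restrict W.ι)) →
      (W : Set X) ⊆ S := by
    intro W hW y hy i
    haveI := isQuasicoherent_HD E hE i
    obtain ⟨W₁, n, hyW₁, ⟨e⟩⟩ := Groth.Agent.H67.FlatLocFree.exists_free_nhds_of_restrict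
      (DCoh.HD E i) W ⟨y, hy⟩ (hW i ⟨y, hy⟩)
    exact free_finite_stalk _ e hyW₁
  have hnhds : ∀ x ∈ S, ∃ V : X.Opens, x ∈ V ∧
      ∀ i, FlatMod.IsFinLocFree ((DCoh.HD E i).restrict V.ι) := by
    intro x hx
    refine exists_nhds E hE x (fun i => ?_)
    haveI := (hx i).1
    change Module.Flat (X.presheaf.stalk x) ((DCoh.HD E i).presheaf.stalk x)
    infer_instance
  have hopen : IsOpen S := by
    rw [isOpen_iff_forall_mem_open]
    intro x hx
    obtain ⟨V, hxV, hV⟩ := hnhds x hx
    exact ⟨V, hsub V hV, V.isOpen, hxV⟩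
  refine ⟨⟨S, hopen⟩, rfl, fun i => ?_, fun W hW => hsub W hW⟩
  apply Groth.Agent.H67.FreeLocus.isFinLocFree_restrict
  intro x hx
  obtain ⟨V, hxV, hV⟩ := hnhds x hx
  exact Groth.Agent.H67.FlatLocFree.exists_free_nhds_of_restrict (DCoh.HD E i) V ⟨x, hxV⟩
    (hV i ⟨x, hxV⟩)

end Groth.Agent.H5.FreeCohLocus
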