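import Mathlib.CategoryTheory.Abelian.GrothendieckCategory.EnoughInjectives

set_option autoImplicit false
universe w v u
open CategoryTheory CategoryTheory.Limits ZeroObject

namespace Groth.Agent.H5

variable {C : Type u} [Category.{v} C] [Abelian C] [IsGrothendieckAbelian.{w} C]

/-- The functor sending `X` to the arrow `X ⟶ 0`. -/
noncomputable def toZeroArrow : C ⥤ Arrow C where
  obj X := Arrow.mk (0 : X ⟶ (0 : C))
  map {X Y} f := Arrow.homMk f (𝟙 _) (by simp)
  map_id X := by ext <;> simp
  map_comp f g := by ext <;> simp

open MorphismProperty in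
/-- In a Grothendieck abelian category there is a functorial monomorphism into an injective
object. -/
theorem exists_functorial_injective_embedding :
    ∃ (J : C ⥤ C) (j : 𝟭 C ⟶ J), ∀ X : C, Injective (J.obj X) ∧ Mono (j.app X) := by
  let data := functorialFactorizationData (monomorphisms C) (monomorphisms C).rlp
  refine ⟨toZeroArrow ⋙ data.Z,
    { app := fun X => data.i.app (toZeroArrow.obj X)
      naturality := fun X Y f => data.i.naturality (toZeroArrow.map f) }, fun X => ⟨?_, ?_⟩⟩
  · have hp := data.hp (toZeroArrow.obj X)
    have h0 : data.p.app (toZeroArrow.obj X) = 0 := (isZero_zero C).eq_of_tgt _ _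
    rw [h0] at hp
    exact (injective_iff_rlp_monomorphisms_zero _).2 hp
  · exact data.hi (toZeroArrow.obj X)

end Groth.Agent.H5
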