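import Mathlib.Algebra.Homology.DerivedCategory.KInjective
import Mathlib.Algebra.Homology.DerivedCategory.DerivabilityStructureInjectives
import Mathlib.Algebra.Homology.DerivedCategory.TStructure
import Mathlib.Algebra.Homology.HomotopyCategory.HomComplexSingle
import Mathlib.Algebra.Homology.HomotopyCategory.HomComplexCohomology

/-!
# Injective amplitude

An object `X` of the derived category `D(C)` (with `C` having enough injectives) satisfies
`Hom(F, X[i]) = 0` for all `F : C` and `i ∉ [a, b]` iff it is isomorphic to a complex of injectives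
concentrated in degrees `[a, b]`.
-/

set_option autoImplicit false
universe w v u
open CategoryTheory CategoryTheory.Limits

namespace Groth.Agent.H5.InjAmp

open CochainComplex HomComplex DerivedCategory

variable {C : Type u} [Category.{v} C] [Abelian C] [HasDerivedCategory.{w} C]

/-- the canonical morphism `Z⁰(L)[0] ⟶ L` -/
noncomputable def fromCycles (L : CochainComplex C ℤ) :
    (HomologicalComplex.single C (ComplexShape.up ℤ) 0).obj (L.cycles 0) ⟶ L :=
  HomologicalComplex.mkHomFromSingle (L.iCycles 0) (by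
    intro j hj
    simp)

omit [HasDerivedCategory.{w} C] in
lemma epi_homologyMap_fromCycles (L : CochainComplex C ℤ) :
    Epi (HomologicalComplex.homologyMap (fromCycles L) 0) := by
  have hiso : IsIso (HomologicalComplex.cyclesMap (fromCycles L) 0) := by
    have : HomologicalComplex.cyclesMap (fromCycles L) 0 =
        (HomologicalComplex.singleObjCyclesSelfIso (ComplexShape.up ℤ) 0 (L.cycles 0)).hom := by
      rw [← cancel_mono (L.iCycles 0), HomologicalComplex.cyclesMap_i,
        HomologicalComplex.singleObjCyclesSelfIso_hom, Category.assoc]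
      congr 1
      exact HomologicalComplex.mkHomFromSingle_f _ _
    rw [this]
    infer_instance
  have := HomologicalComplex.homologyπ_naturality (fromCycles L) 0
  have : Epi (HomologicalComplex.homologyπ _ 0 ≫
      HomologicalComplex.homologyMap (fromCycles L) 0) := by
    rw [this]
    infer_instance
  exact epi_of_epi (HomologicalComplex.homologyπ _ 0) _

/-- If all morphisms from objects of `C` (in degree `0`) to `Y` vanish, then `H⁰(Y) = 0`. -/
lemma isZero_homology_zero (Y : DerivedCategory C)
    (h : ∀ (F : C) (φ : (DerivedCategory.singleFunctor C 0).obj F ⟶ Y), φ = 0) :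
    IsZero ((DerivedCategory.homologyFunctor C 0).obj Y) := by
  obtain ⟨L, ⟨e⟩⟩ : ∃ L : CochainComplex C ℤ, Nonempty (DerivedCategory.Q.obj L ≅ Y) :=
    ⟨_, ⟨DerivedCategory.Q.objObjPreimageIso Y⟩⟩
  have hψ : DerivedCategory.Q.map (fromCycles L) = 0 := by
    have := h (L.cycles 0) ((DerivedCategory.singleFunctorIsoCompQ C 0).hom.app (L.cycles 0) ≫
      DerivedCategory.Q.map (fromCycles L) ≫ e.hom)
    have h1 : DerivedCategory.Q.map (fromCycles L) ≫ e.hom = 0 :=
      (cancel_epi ((DerivedCategory.singleFunctorIsoCompQ C 0).hom.app (L.cycles 0))).1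
        (this.trans comp_zero.symm)
    rw [← cancel_mono e.hom, zero_comp]
    exact h1
  have h0 : HomologicalComplex.homologyMap (fromCycles L) 0 = 0 := by
    have := (DerivedCategory.homologyFunctorFactors C 0).hom.naturality (fromCycles L)
    rw [Functor.comp_map, hψ, Functor.map_zero, zero_comp] at this
    exact (cancel_epi ((DerivedCategory.homologyFunctorFactors C 0).hom.app _)).1
      (this.symm.trans comp_zero.symm)
  have hepi := epi_homologyMap_fromCycles L
  have hL : IsZero (L.homology 0) := by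
    rw [IsZero.iff_id_eq_zero, ← cancel_epi (HomologicalComplex.homologyMap (fromCycles L) 0), h0,
      zero_comp, zero_comp]
  exact IsZero.of_iso hL ((DerivedCategory.homologyFunctor C 0).mapIso e.symm ≪≫
    (DerivedCategory.homologyFunctorFactors C 0).app L)

lemma isZero_homology (X : DerivedCategory C) (i : ℤ)
    (h : ∀ (F : C) (φ : (DerivedCategory.singleFunctor C 0).obj F ⟶ X⟦i⟧), φ = 0) :
    IsZero ((DerivedCategory.homologyFunctor C i).obj X) :=
  IsZero.of_iso (isZero_homology_zero (X⟦i⟧) h)
    (((DerivedCategory.homologyFunctor C 0).shiftIso i 0 i (add_zero i)).app X).symm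

section

variable (K L : CochainComplex C ℤ) (n : ℤ)

/-- the map from cohomology classes to morphisms in the derived category -/
noncomputable def classToHom (x : CohomologyClass K L n) :
    DerivedCategory.Q.obj K ⟶ (DerivedCategory.Q.obj L)⟦n⟧ :=
  (Iso.homCongr ((quotientCompQhIso C).app K)
    ((quotientCompQhIso C).app (L⟦n⟧) ≪≫ (Q.commShiftIso n).app L))
      (Qh.map (CohomologyClass.toHom x))

lemma classToHom_zero : classToHom K L n 0 = 0 := by
  simp [classToHom]

lemma classToHom_bijective [L.IsKInjective] : Function.Bijective (classToHom K L n) := by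
  have h1 := CohomologyClass.toHom_bijective K L n
  have h2 := CochainComplex.IsKInjective.Qh_map_bijective
    ((HomotopyCategory.quotient _ _).obj K) (L⟦n⟧)
  exact (Iso.homCongr ((quotientCompQhIso C).app K)
    ((quotientCompQhIso C).app (L⟦n⟧) ≪≫ (Q.commShiftIso n).app L)).bijective.comp (h2.comp h1)

end

/-- Key lemma: for a K-injective complex `L` representing `X`, the vanishing of all morphisms
`F ⟶ X⟦n⟧` is equivalent to a lifting property for cocycles `F ⟶ Lⁿ`. -/
lemma forall_eq_zero_iff (L : CochainComplex C ℤ) [L.IsKInjective] {X : DerivedCategory C}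
    (e : DerivedCategory.Q.obj L ≅ X) (F : C) (m n n' : ℤ) (hm : m + 1 = n) (hn : n + 1 = n') :
    (∀ φ : (DerivedCategory.singleFunctor C 0).obj F ⟶ X⟦n⟧, φ = 0) ↔
      ∀ (f : F ⟶ L.X n), f ≫ L.d n n' = 0 → ∃ g : F ⟶ L.X m, g ≫ L.d m n = f := by
  let E : CohomologyClass ((CochainComplex.singleFunctor C 0).obj F) L n ≃
      ((DerivedCategory.singleFunctor C 0).obj F ⟶ X⟦n⟧) :=
    (Equiv.ofBijective _ (classToHom_bijective _ L n)).trans
      (Iso.homCongr ((DerivedCategory.singleFunctorIsoCompQ C 0).app F).symm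
        ((CategoryTheory.shiftFunctor (DerivedCategory C) n).mapIso e))
  have hE0 : E 0 = 0 := by
    simp [E, classToHom_zero]
  constructor
  · intro h f hf
    have h1 : E (CohomologyClass.mk (Cocycle.fromSingleMk f (zero_add n) n' hn hf)) = E 0 :=
      (h _).trans hE0.symm
    have h2 := E.injective h1
    rw [CohomologyClass.mk_eq_zero_iff,
      Cocycle.fromSingleMk_mem_coboundaries_iff f (zero_add n) n' hn hf m hm] at h2
    exact h2
  · intro h φ
    obtain ⟨x, rfl⟩ := E.surjective φ
    obtain ⟨z, rfl⟩ := x.mk_surjective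
    obtain ⟨f, hf, rfl⟩ := Cocycle.fromSingleMk_surjective z n (zero_add n) n' hn
    obtain ⟨g, hg⟩ := h f hf
    have : CohomologyClass.mk (Cocycle.fromSingleMk f (zero_add n) n' hn hf) = 0 := by
      rw [CohomologyClass.mk_eq_zero_iff,
        Cocycle.fromSingleMk_mem_coboundaries_iff f (zero_add n) n' hn hf m hm]
      exact ⟨g, hg⟩
    rw [this, hE0]

omit [HasDerivedCategory.{w} C] in
lemma injective_cycles_of_lifting (L : CochainComplex C ℤ) (b b' : ℤ) (hb : b + 1 = b')
    [Injective (L.X b)]
    (s : L.cycles b' ⟶ L.X b) (hs : s ≫ L.d b b' = L.iCycles b') :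
    Injective (L.cycles b) := by
  have hrel : (ComplexShape.up ℤ).next b = b' := by simpa using hb
  let r : L.X b ⟶ L.cycles b := L.liftCycles (𝟙 _ - L.toCycles b b' ≫ s) b' hrel (by
    rw [Preadditive.sub_comp, Category.id_comp, Category.assoc, hs, L.toCycles_i, sub_self])
  have h0 : L.iCycles b ≫ L.toCycles b b' = 0 := by
    rw [← cancel_mono (L.iCycles b'), Category.assoc, L.toCycles_i, L.iCycles_d, zero_comp]
  have hr : L.iCycles b ≫ r = 𝟙 _ := by
    rw [← cancel_mono (L.iCycles b), Category.assoc, L.liftCycles_i, Preadditive.comp_sub,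
      Category.comp_id, Category.id_comp, reassoc_of% h0, zero_comp, sub_zero]
  exact Retract.injective { i := L.iCycles b, r := r, retract := hr }

/-- truncating a bounded below complex of injectives representing an object whose `Ext`-groups
vanish in degrees `> b`. -/
lemma exists_bounded_of_vanishing (I₀ : CochainComplex C ℤ) (hI₀ : ∀ n, Injective (I₀.X n))
    (a b : ℤ) (hab : a ≤ b) [I₀.IsStrictlyGE a] {X : DerivedCategory C}
    (e₀ : DerivedCategory.Q.obj I₀ ≅ X)
    (hv : ∀ (F : C) (i : ℤ), b < i →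
        ∀ φ : (DerivedCategory.singleFunctor C 0).obj F ⟶ X⟦i⟧, φ = 0) :
    ∃ I : CochainComplex C ℤ, (∀ i, Injective (I.X i)) ∧ I.IsStrictlyGE a ∧ I.IsStrictlyLE b ∧
      Nonempty (DerivedCategory.Q.obj I ≅ X) := by
  have : I₀.IsKInjective := isKInjective_of_injective I₀ a
  have hLE : X.IsLE b := by
    rw [DerivedCategory.isLE_iff]
    intro i hi
    exact isZero_homology X i (fun F φ => hv F i hi φ)
  have hI₀LE : I₀.IsLE b := by
    rw [← DerivedCategory.isLE_Q_obj_iff]
    exact DerivedCategory.TStructure.t.isLE_of_iso e₀.symm b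
  obtain ⟨s, hs⟩ := (forall_eq_zero_iff I₀ e₀ (I₀.cycles (b + 1)) b (b + 1) (b + 1 + 1) rfl rfl).1
    (fun φ => hv _ (b + 1) (by omega) φ) (I₀.iCycles (b + 1)) (by simp)
  have hinj : Injective (I₀.cycles b) := injective_cycles_of_lifting I₀ b (b + 1) rfl s hs
  have hqis : QuasiIso (I₀.ιTruncLE b) := (I₀.quasiIso_ιTruncLE_iff b).2 hI₀LE
  refine ⟨I₀.truncLE b, fun i => ?_, inferInstance, inferInstance,
    ⟨asIso (DerivedCategory.Q.map (I₀.ιTruncLE b)) ≪≫ e₀⟩⟩
  obtain h | rfl | h := lt_trichotomy i b
  · exact Injective.of_iso (I₀.truncLEXIso b i h).symm inferInstance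
  · exact Injective.of_iso (I₀.truncLEXIsoCycles i).symm hinj
  · exact (isZero_of_isStrictlyLE _ b _ h).injective

theorem main [EnoughInjectives C] (X : DerivedCategory C) (a b : ℤ) (hab : a ≤ b) :
    (∀ (F : C) (i : ℤ), (i < a ∨ b < i) →
        ∀ φ : (DerivedCategory.singleFunctor C 0).obj F ⟶ X⟦i⟧, φ = 0) ↔
      ∃ I : CochainComplex C ℤ, (∀ i, Injective (I.X i)) ∧
        (∀ i, (i < a ∨ b < i) → IsZero (I.X i)) ∧ Nonempty (DerivedCategory.Q.obj I ≅ X) := by
  constructor
  · intro hv
    have hGE : X.IsGE a := by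
      rw [DerivedCategory.isGE_iff]
      intro i hi
      exact isZero_homology X i (fun F φ => hv F i (Or.inl hi) φ)
    obtain ⟨L, hL, ⟨eL⟩⟩ := X.exists_iso_Q_obj_of_isGE a
    obtain ⟨I₀, j, hj, hI₀, hI₀'⟩ :=
      CochainComplex.Plus.modelCategoryQuillen.exists_quasiIso_injective L a
    obtain ⟨I, hI, h1, h2, ⟨e⟩⟩ := exists_bounded_of_vanishing I₀ hI₀ a b hab
      ((asIso (DerivedCategory.Q.map j)).symm ≪≫ eL.symm) (fun F i hi φ => hv F i (Or.inr hi) φ)
    refine ⟨I, hI, fun i hi => ?_, ⟨e⟩⟩
    obtain hi | hi := hi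
    · exact isZero_of_isStrictlyGE I a i hi
    · exact isZero_of_isStrictlyLE I b i hi
  · rintro ⟨I, hI, hz, ⟨e⟩⟩ F i hi φ
    have : I.IsStrictlyGE a := by
      rw [CochainComplex.isStrictlyGE_iff]
      intro j hj
      exact hz j (Or.inl hj)
    have : I.IsKInjective := isKInjective_of_injective I a
    refine (forall_eq_zero_iff I e F (i - 1) i (i + 1) (by omega) rfl).2 ?_ φ
    intro f hf
    exact ⟨0, (hz i hi).eq_of_tgt _ _⟩

/-- an isomorphism in the derived category to a K-injective complex is induced by a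
quasi-isomorphism -/
lemma exists_quasiIso_of_iso (K I : CochainComplex C ℤ) [I.IsKInjective]
    (e : DerivedCategory.Q.obj K ≅ DerivedCategory.Q.obj I) :
    ∃ f : K ⟶ I, QuasiIso f := by
  obtain ⟨g, hg⟩ := (CochainComplex.IsKInjective.Qh_map_bijective
    ((HomotopyCategory.quotient _ _).obj K) I).2
      ((quotientCompQhIso C).hom.app K ≫ e.hom ≫ (quotientCompQhIso C).inv.app I)
  obtain ⟨f, rfl⟩ := (HomotopyCategory.quotient _ _).map_surjective g
  refine ⟨f, ?_⟩
  rw [← DerivedCategory.isIso_Q_map_iff_quasiIso]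
  have : DerivedCategory.Q.map f = e.hom := by
    have := (quotientCompQhIso C).hom.naturality f
    rw [Functor.comp_map, hg] at this
    simpa using this.symm
  rw [this]
  infer_instance

/-- vanishing of `Ext`-groups into a bounded complex of injectives. -/
lemma eq_zero_of_isStrictlyLE (I : CochainComplex C ℤ) (hI : ∀ n, Injective (I.X n)) (b c : ℤ)
    [I.IsStrictlyGE b] [I.IsStrictlyLE c] {X : DerivedCategory C}
    (e : DerivedCategory.Q.obj I ≅ X) (F : C) (i : ℤ) (hi : c < i)
    (φ : (DerivedCategory.singleFunctor C 0).obj F ⟶ X⟦i⟧) : φ = 0 := by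
  have : I.IsKInjective := isKInjective_of_injective I b
  refine (forall_eq_zero_iff I e F (i - 1) i (i + 1) (by omega) rfl).2 ?_ φ
  intro f hf
  exact ⟨0, (isZero_of_isStrictlyLE I c i hi).eq_of_tgt _ _⟩

/-- vanishing of `Ext`-groups into a bounded complex of injectives. -/
lemma eq_zero_of_isStrictlyGE (I : CochainComplex C ℤ) (hI : ∀ n, Injective (I.X n)) (b : ℤ)
    [I.IsStrictlyGE b] {X : DerivedCategory C}
    (e : DerivedCategory.Q.obj I ≅ X) (F : C) (i : ℤ) (hi : i < b)
    (φ : (DerivedCategory.singleFunctor C 0).obj F ⟶ X⟦i⟧) : φ = 0 := by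
  have : I.IsKInjective := isKInjective_of_injective I b
  refine (forall_eq_zero_iff I e F (i - 1) i (i + 1) (by omega) rfl).2 ?_ φ
  intro f hf
  exact ⟨0, (isZero_of_isStrictlyGE I b i hi).eq_of_tgt _ _⟩

end Groth.Agent.H5.InjAmp
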