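import Mathlib.Algebra.Homology.HomotopyCategory.Pretriangulated
import Mathlib.Algebra.Homology.HomotopyCategory.ShiftSequence
import Mathlib.Algebra.Homology.HomologySequence
import Mathlib.Algebra.Homology.HomologicalComplexAbelian
import Mathlib.CategoryTheory.Preadditive.Injective.Basic
import Groth.Agent.H5.FunctorialInjective

/-!
# Functorial termwise-injective hull of complexes (up to quasi-isomorphism)
-/

set_option autoImplicit false
universe v u
open CategoryTheory CategoryTheory.Limits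

namespace Groth.Agent.H5.InjHull

variable {A : Type u} [Category.{v} A] [Abelian A] (J : A ⥤ A) (η : 𝟭 A ⟶ J)

/-- The complex `I(M)` with terms `J(M^n) ⊞ J(M^{n+1})`. -/
noncomputable def Icx (M : CochainComplex A ℤ) : CochainComplex A ℤ :=
  CochainComplex.of (fun n => J.obj (M.X n) ⊞ J.obj (M.X (n + 1)))
    (fun n => biprod.snd ≫ biprod.inl) (fun n => by simp)

section proj
variable (M : CochainComplex A ℤ) (n : ℤ)

/-- first projection -/
noncomputable def pr1 : (Icx J M).X n ⟶ J.obj (M.X n) := biprod.fst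
/-- second projection -/
noncomputable def pr2 : (Icx J M).X n ⟶ J.obj (M.X (n + 1)) := biprod.snd
/-- first inclusion -/
noncomputable def in1 : J.obj (M.X n) ⟶ (Icx J M).X n := biprod.inl
/-- second inclusion -/
noncomputable def in2 : J.obj (M.X (n + 1)) ⟶ (Icx J M).X n := biprod.inr

@[reassoc (attr := simp)] lemma in1_pr1 : in1 J M n ≫ pr1 J M n = 𝟙 _ := biprod.inl_fst
@[reassoc (attr := simp)] lemma in1_pr2 : in1 J M n ≫ pr2 J M n = 0 := biprod.inl_snd
@[reassoc (attr := simp)] lemma in2_pr1 : in2 J M n ≫ pr1 J M n = 0 := biprod.inr_fst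
@[reassoc (attr := simp)] lemma in2_pr2 : in2 J M n ≫ pr2 J M n = 𝟙 _ := biprod.inr_snd

variable {J M n} in
lemma Icx_hom_ext {Z : A} {f g : Z ⟶ (Icx J M).X n} (h1 : f ≫ pr1 J M n = g ≫ pr1 J M n)
    (h2 : f ≫ pr2 J M n = g ≫ pr2 J M n) : f = g :=
  biprod.hom_ext _ _ h1 h2

lemma Icx_d : (Icx J M).d n (n + 1) = pr2 J M n ≫ in1 J M (n + 1) := by
  simp [Icx, pr2, in1]

instance [∀ X, Injective (J.obj X)] : Injective ((Icx J M).X n) :=
  inferInstanceAs (Injective (J.obj (M.X n) ⊞ J.obj (M.X (n + 1))))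

end proj

/-- functoriality of `I` -/
noncomputable def Imap {M M' : CochainComplex A ℤ} (ψ : M ⟶ M') : Icx J M ⟶ Icx J M' where
  f n := biprod.map (J.map (ψ.f n)) (J.map (ψ.f (n + 1)))
  comm' i j hij := by
    obtain rfl : i + 1 = j := hij
    simp [Icx]

@[reassoc (attr := simp)]
lemma Imap_pr1 {M M' : CochainComplex A ℤ} (ψ : M ⟶ M') (n : ℤ) :
    (Imap J ψ).f n ≫ pr1 J M' n = pr1 J M n ≫ J.map (ψ.f n) := biprod.map_fst _ _

@[reassoc (attr := simp)]
lemma Imap_pr2 {M M' : CochainComplex A ℤ} (ψ : M ⟶ M') (n : ℤ) :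
    (Imap J ψ).f n ≫ pr2 J M' n = pr2 J M n ≫ J.map (ψ.f (n + 1)) := biprod.map_snd _ _

/-- The functor `I`. -/
noncomputable def Ifun : CochainComplex A ℤ ⥤ CochainComplex A ℤ where
  obj M := Icx J M
  map ψ := Imap J ψ
  map_id M := by
    ext n
    apply Icx_hom_ext <;> simp
  map_comp ψ ψ' := by
    ext n
    apply Icx_hom_ext <;> simp

/-- components of the natural embedding `M ⟶ I(M)` -/
noncomputable def uf (M : CochainComplex A ℤ) (n : ℤ) : M.X n ⟶ (Icx J M).X n :=
  biprod.lift (η.app (M.X n)) (M.d n (n + 1) ≫ η.app (M.X (n + 1)))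

@[reassoc (attr := simp)]
lemma uf_pr1 (M : CochainComplex A ℤ) (n : ℤ) :
    uf J η M n ≫ pr1 J M n = η.app (M.X n) := biprod.lift_fst _ _

@[reassoc (attr := simp)]
lemma uf_pr2 (M : CochainComplex A ℤ) (n : ℤ) :
    uf J η M n ≫ pr2 J M n = M.d n (n + 1) ≫ η.app (M.X (n + 1)) := biprod.lift_snd _ _

/-- the natural embedding `M ⟶ I(M)` -/
noncomputable def umap (M : CochainComplex A ℤ) : M ⟶ Icx J M where
  f n := uf J η M n
  comm' i j hij := by
    obtain rfl : i + 1 = j := hij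
    rw [Icx_d]
    apply Icx_hom_ext
    · rw [Category.assoc, Category.assoc, Category.assoc, in1_pr1, Category.comp_id, uf_pr2, uf_pr1]
    · rw [Category.assoc, Category.assoc, Category.assoc, in1_pr2, comp_zero, comp_zero, uf_pr2,
        HomologicalComplex.d_comp_d_assoc, zero_comp]

@[reassoc (attr := simp)]
lemma umap_pr1 (M : CochainComplex A ℤ) (n : ℤ) :
    (umap J η M).f n ≫ pr1 J M n = η.app (M.X n) := uf_pr1 J η M n

@[reassoc (attr := simp)]
lemma umap_pr2 (M : CochainComplex A ℤ) (n : ℤ) :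
    (umap J η M).f n ≫ pr2 J M n = M.d n (n + 1) ≫ η.app (M.X (n + 1)) := uf_pr2 J η M n

/-- `u` as a natural transformation -/
noncomputable def unat : 𝟭 (CochainComplex A ℤ) ⟶ Ifun J where
  app M := umap J η M
  naturality M M' ψ := by
    ext n
    apply Icx_hom_ext
    · have := η.naturality (ψ.f n)
      dsimp at this
      simp [Ifun, this]
    · have := η.naturality (ψ.f (n + 1))
      dsimp at this
      simp [Ifun, this]

instance [∀ X, Mono (η.app X)] (M : CochainComplex A ℤ) (n : ℤ) : Mono ((umap J η M).f n) := by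
  have : Mono ((umap J η M).f n ≫ pr1 J M n) := by
    rw [umap_pr1]
    infer_instance
  exact mono_of_mono _ (pr1 J M n)

section coneFunctor

open CochainComplex

variable {C : Type*} [Category C] {F G : C ⥤ CochainComplex A ℤ} (τ : F ⟶ G)

/-- The mapping cone of a natural transformation, as a functor. -/
noncomputable def coneFunctor : C ⥤ CochainComplex A ℤ where
  obj X := mappingCone (τ.app X)
  map {X Y} f := mappingCone.map (τ.app X) (τ.app Y) (F.map f) (G.map f) (τ.naturality f).symm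
  map_id X := by
    have key : ∀ (a : F.obj X ⟶ F.obj X) (b : G.obj X ⟶ G.obj X) (_ : a = 𝟙 _) (_ : b = 𝟙 _)
        (comm : τ.app X ≫ b = a ≫ τ.app X), mappingCone.map (τ.app X) (τ.app X) a b comm = 𝟙 _ := by
      rintro _ _ rfl rfl _
      exact mappingCone.map_id _
    exact key _ _ (F.map_id X) (G.map_id X) _
  map_comp {X Y Z} f g := by
    have key : ∀ (a : F.obj X ⟶ F.obj Z) (b : G.obj X ⟶ G.obj Z) (_ : a = F.map f ≫ F.map g)
        (_ : b = G.map f ≫ G.map g) (comm : τ.app X ≫ b = a ≫ τ.app Z),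
        mappingCone.map (τ.app X) (τ.app Z) a b comm =
          mappingCone.map (τ.app X) (τ.app Y) (F.map f) (G.map f) (τ.naturality f).symm ≫
            mappingCone.map (τ.app Y) (τ.app Z) (F.map g) (G.map g) (τ.naturality g).symm := by
      rintro _ _ rfl rfl _
      exact mappingCone.map_comp _ _ _ _ _ _ _ _ _
    exact key _ _ (F.map_comp f g) (G.map_comp f g) _

end coneFunctor

section ses

open CochainComplex HomComplex

variable (S : ShortComplex (CochainComplex A ℤ))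

/-- components of the canonical map `S.X₁⟦1⟧ ⟶ cone(S.g)`. -/
noncomputable def jtf (k : ℤ) : S.X₁.X (k + 1) ⟶ (mappingCone S.g).X k :=
  S.f.f (k + 1) ≫ (mappingCone.inl S.g).v (k + 1) k (by omega)

lemma jtf_comm (i : ℤ) :
    jtf S i ≫ (mappingCone S.g).d i (i + 1) = (-(S.X₁.d (i + 1) (i + 1 + 1))) ≫ jtf S (i + 1) := by
  have h1 := mappingCone.inl_v_d S.g (i + 1) i (i + 1 + 1) (by omega) (by omega)
  have h2 : S.f.f (i + 1) ≫ S.g.f (i + 1) = 0 := by
    rw [← HomologicalComplex.comp_f, S.zero, HomologicalComplex.zero_f]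
  dsimp only [jtf]
  rw [Category.assoc, h1, Preadditive.comp_sub, reassoc_of% h2, zero_comp, zero_sub,
    Preadditive.neg_comp, ← S.f.comm_assoc]

/-- The canonical map `S.X₁⟦1⟧ ⟶ cone(S.g)`. -/
noncomputable def jt : S.X₁⟦(1 : ℤ)⟧ ⟶ mappingCone S.g where
  f k := jtf S k
  comm' i j hij := by
    obtain rfl : i + 1 = j := hij
    have h : (S.X₁⟦(1 : ℤ)⟧).d i (i + 1) = -(S.X₁.d (i + 1) (i + 1 + 1)) := by
      simp
    rw [h]
    exact jtf_comm S i

/-- The map `cone(S.g) ⟶ cone(𝟙 S.X₃)`. -/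
noncomputable def pc : mappingCone S.g ⟶ mappingCone (𝟙 S.X₃) :=
  mappingCone.map S.g (𝟙 S.X₃) S.g (𝟙 _) (by simp)

lemma inl_pc (k : ℤ) :
    (mappingCone.inl S.g).v (k + 1) k (by omega) ≫ (pc S).f k =
      S.g.f (k + 1) ≫ (mappingCone.inl (𝟙 S.X₃)).v (k + 1) k (by omega) := by
  simp [pc, mappingCone.map]

lemma inr_pc (k : ℤ) :
    (mappingCone.inr S.g).f k ≫ (pc S).f k = (mappingCone.inr (𝟙 S.X₃)).f k := by
  simp [pc, mappingCone.map]

lemma pc_fst (k : ℤ) :
    (pc S).f k ≫ (mappingCone.fst (𝟙 S.X₃)).1.v k (k + 1) rfl =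
      (mappingCone.fst S.g).1.v k (k + 1) rfl ≫ S.g.f (k + 1) := by
  rw [mappingCone.ext_from_iff _ (k + 1) k rfl]
  constructor
  · rw [reassoc_of% (inl_pc S k)]
    simp
  · rw [reassoc_of% (inr_pc S k)]
    simp

lemma pc_snd (k : ℤ) :
    (pc S).f k ≫ (mappingCone.snd (𝟙 S.X₃)).v k k (add_zero k) =
      (mappingCone.snd S.g).v k k (add_zero k) := by
  rw [mappingCone.ext_from_iff _ (k + 1) k rfl]
  constructor
  · rw [reassoc_of% (inl_pc S k)]
    simp
  · rw [reassoc_of% (inr_pc S k)]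
    simp

lemma jtf_fst (k : ℤ) : jtf S k ≫ (mappingCone.fst S.g).1.v k (k + 1) rfl = S.f.f (k + 1) := by
  simp [jtf]

lemma jtf_snd (k : ℤ) : jtf S k ≫ (mappingCone.snd S.g).v k k (add_zero k) = 0 := by
  simp [jtf]

lemma jtf_pc (k : ℤ) : jtf S k ≫ (pc S).f k = 0 := by
  have h2 : S.f.f (k + 1) ≫ S.g.f (k + 1) = 0 := by
    rw [← HomologicalComplex.comp_f, S.zero, HomologicalComplex.zero_f]
  dsimp only [jtf]
  rw [Category.assoc, inl_pc, reassoc_of% h2, zero_comp]

variable {S} in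
lemma shortExact_deg (hS : S.ShortExact) (k : ℤ) :
    (ShortComplex.mk (jtf S k) ((pc S).f k) (jtf_pc S k)).ShortExact := by
  have hS' := hS.map_of_exact (HomologicalComplex.eval A (ComplexShape.up ℤ) (k + 1))
  have hmono : Mono (S.f.f (k + 1)) := hS'.mono_f
  have hmono' : Mono (S.map (HomologicalComplex.eval A (ComplexShape.up ℤ) (k + 1))).f := hS'.mono_f
  have hepi : Epi (S.g.f (k + 1)) := hS'.epi_g
  have hm : Mono (jtf S k) := by
    have : Mono (jtf S k ≫ (mappingCone.fst S.g).1.v k (k + 1) rfl) := by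
      rw [jtf_fst]; exact hmono
    exact mono_of_mono _ ((mappingCone.fst S.g).1.v k (k + 1) rfl)
  have he : Epi ((pc S).f k) := by
    refine ⟨fun {Z} t t' h => ?_⟩
    rw [mappingCone.ext_from_iff _ (k + 1) k rfl]
    constructor
    · rw [← cancel_epi (S.g.f (k + 1)), ← reassoc_of% (inl_pc S k), h, reassoc_of% (inl_pc S k)]
    · rw [← reassoc_of% (inr_pc S k), h, reassoc_of% (inr_pc S k)]
  refine { exact := ?_, mono_f := hm, epi_g := he }
  apply ShortComplex.exact_of_f_is_kernel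
  refine KernelFork.IsLimit.ofι' _ _ (fun {T} t ht => ?_)
  dsimp at t ht
  have h1 : t ≫ (mappingCone.snd S.g).v k k (add_zero k) = 0 := by
    rw [← pc_snd, reassoc_of% ht, zero_comp]
  have h2 : (t ≫ (mappingCone.fst S.g).1.v k (k + 1) rfl) ≫ S.g.f (k + 1) = 0 := by
    rw [Category.assoc, ← pc_fst, reassoc_of% ht, zero_comp]
  let l : T ⟶ S.X₁.X (k + 1) := hS'.exact.lift (t ≫ (mappingCone.fst S.g).1.v k (k + 1) rfl) h2
  have hl : l ≫ S.f.f (k + 1) = t ≫ (mappingCone.fst S.g).1.v k (k + 1) rfl :=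
    hS'.exact.lift_f _ _
  clear_value l
  refine ⟨l, ?_⟩
  dsimp only [jtf]
  rw [reassoc_of% hl]
  have h4 := mappingCone.id_X S.g k (k + 1) rfl
  have h5 : t = t ≫ 𝟙 _ := (Category.comp_id t).symm
  conv_rhs => rw [h5, ← h4, Preadditive.comp_add, reassoc_of% h1, zero_comp, add_zero]

lemma jt_pc : jt S ≫ pc S = 0 := by
  ext k
  exact jtf_pc S k

/-- The short exact sequence `0 ⟶ X₁⟦1⟧ ⟶ cone(g) ⟶ cone(𝟙 X₃) ⟶ 0`. -/
noncomputable def S₃ : ShortComplex (CochainComplex A ℤ) := ShortComplex.mk (jt S) (pc S) (jt_pc S)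

variable {S} in
lemma S₃_shortExact (hS : S.ShortExact) : (S₃ S).ShortExact :=
  HomologicalComplex.shortExact_of_degreewise_shortExact _ (fun k => shortExact_deg hS k)

lemma isZero_homology_cone_id (X : CochainComplex A ℤ) (n : ℤ) :
    IsZero ((mappingCone (𝟙 X)).homology n) := by
  rw [IsZero.iff_id_eq_zero, ← HomologicalComplex.homologyMap_id,
    (mappingCone.homotopyToZeroOfId X).homologyMap_eq n, HomologicalComplex.homologyMap_zero]

variable {S} in
lemma quasiIso_jt (hS : S.ShortExact) : QuasiIso (jt S) := by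
  have h3 := S₃_shortExact hS
  refine ⟨fun n => ?_⟩
  rw [quasiIsoAt_iff_isIso_homologyMap]
  have hm : Mono (HomologicalComplex.homologyMap (jt S) n) :=
    (h3.homology_exact₁ (n - 1) n (by simp)).mono_g
      ((isZero_homology_cone_id S.X₃ (n - 1)).eq_of_src _ _)
  have he : Epi (HomologicalComplex.homologyMap (jt S) n) :=
    (h3.homology_exact₂ n).epi_f ((isZero_homology_cone_id S.X₃ n).eq_of_tgt _ _)
  exact isIso_of_mono_of_epi _

lemma jt_naturality {S S' : ShortComplex (CochainComplex A ℤ)} (φ : S ⟶ S') :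
    (φ.τ₁)⟦(1 : ℤ)⟧' ≫ jt S' = jt S ≫ mappingCone.map S.g S'.g φ.τ₂ φ.τ₃ φ.comm₂₃.symm := by
  ext k
  have h1 : (mappingCone.inl S.g).v (k + 1) k (by omega) ≫
      (mappingCone.map S.g S'.g φ.τ₂ φ.τ₃ φ.comm₂₃.symm).f k =
      φ.τ₂.f (k + 1) ≫ (mappingCone.inl S'.g).v (k + 1) k (by omega) := by
    simp [mappingCone.map]
  have h2 : φ.τ₁.f (k + 1) ≫ S'.f.f (k + 1) = S.f.f (k + 1) ≫ φ.τ₂.f (k + 1) := by
    rw [← HomologicalComplex.comp_f, ← HomologicalComplex.comp_f, φ.comm₁₂]
  change φ.τ₁.f (k + 1) ≫ jtf S' k = jtf S k ≫ _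
  dsimp only [jtf]
  rw [Category.assoc, h1, reassoc_of% h2]

end ses

section main

open CochainComplex

variable [∀ X, Mono (η.app X)]

/-- The cokernel functor `Q = I / 𝟭`. -/
noncomputable def Qfun : CochainComplex A ℤ ⥤ CochainComplex A ℤ := cokernel (unat J η)

/-- The projection `I ⟶ Q`. -/
noncomputable def πnat : Ifun J ⟶ Qfun J η := cokernel.π (unat J η)

/-- The short complex `M ⟶ I(M) ⟶ Q(M)`. -/
noncomputable def SM (M : CochainComplex A ℤ) : ShortComplex (CochainComplex A ℤ) :=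
  ShortComplex.mk ((unat J η).app M) ((πnat J η).app M) (by
    rw [← NatTrans.comp_app]
    exact congrArg (fun t => NatTrans.app t M) (cokernel.condition (unat J η)))

instance (M : CochainComplex A ℤ) : Mono ((unat J η).app M) :=
  HomologicalComplex.mono_of_mono_f _ (fun n => inferInstanceAs (Mono ((umap J η M).f n)))

lemma SM_shortExact (M : CochainComplex A ℤ) : (SM J η M).ShortExact := by
  let T : ShortComplex (CochainComplex A ℤ ⥤ CochainComplex A ℤ) :=
    ShortComplex.mk (unat J η) (πnat J η) (cokernel.condition _)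
  have hmono : Mono (unat J η) := NatTrans.mono_of_mono_app _
  have hepi : Epi (πnat J η) := inferInstanceAs (Epi (cokernel.π (unat J η)))
  have hT : T.ShortExact :=
    { exact := ShortComplex.exact_of_g_is_cokernel _ (cokernelIsCokernel _)
      mono_f := hmono
      epi_g := hepi }
  exact hT.map_of_exact ((evaluation _ _).obj M)

/-- functoriality of `SM` -/
noncomputable def SMmap {M M' : CochainComplex A ℤ} (ψ : M ⟶ M') : SM J η M ⟶ SM J η M' where
  τ₁ := ψ
  τ₂ := (Ifun J).map ψ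
  τ₃ := (Qfun J η).map ψ
  comm₁₂ := (unat J η).naturality ψ
  comm₂₃ := (πnat J η).naturality ψ

/-- the cone functor -/
noncomputable def Nt : CochainComplex A ℤ ⥤ CochainComplex A ℤ := coneFunctor (πnat J η)

/-- the natural transformation `[1] ⟶ Ñ` -/
noncomputable def jtnat : CategoryTheory.shiftFunctor (CochainComplex A ℤ) (1 : ℤ) ⟶ Nt J η where
  app M := jt (SM J η M)
  naturality M M' ψ := jt_naturality (SMmap J η ψ)

/-- The functor `N`. -/
noncomputable def N : CochainComplex A ℤ ⥤ CochainComplex A ℤ :=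
  Nt J η ⋙ CategoryTheory.shiftFunctor (CochainComplex A ℤ) (-1 : ℤ)

/-- The natural transformation `𝟭 ⟶ N`. -/
noncomputable def j : 𝟭 (CochainComplex A ℤ) ⟶ N J η :=
  (shiftEquiv (CochainComplex A ℤ) (1 : ℤ)).unitIso.hom ≫
    Functor.whiskerRight (jtnat J η) (CategoryTheory.shiftFunctor (CochainComplex A ℤ) (-1 : ℤ))

lemma j_app (M : CochainComplex A ℤ) :
    (j J η).app M = (shiftEquiv (CochainComplex A ℤ) (1 : ℤ)).unitIso.hom.app M ≫
      (jt (SM J η M))⟦(-1 : ℤ)⟧' := rfl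

lemma mono_jtf (S : ShortComplex (CochainComplex A ℤ)) (k : ℤ) [Mono (S.f.f (k + 1))] :
    Mono (jtf S k) := by
  have : Mono (jtf S k ≫ (mappingCone.fst S.g).1.v k (k + 1) rfl) := by
    rw [jtf_fst]; infer_instance
  exact mono_of_mono _ ((mappingCone.fst S.g).1.v k (k + 1) rfl)

lemma j_f (M : CochainComplex A ℤ) (n : ℤ) :
    ((j J η).app M).f n =
      ((shiftEquiv (CochainComplex A ℤ) (1 : ℤ)).unitIso.hom.app M).f n ≫
        jtf (SM J η M) (n + -1) := rfl

lemma mono_j_f (M : CochainComplex A ℤ) (n : ℤ) : Mono (((j J η).app M).f n) := by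
  rw [j_f]
  have : Mono ((SM J η M).f.f (n + -1 + 1)) := inferInstanceAs (Mono ((umap J η M).f (n + -1 + 1)))
  have h0 := mono_jtf (SM J η M) (n + -1)
  have h1 : IsIso ((shiftEquiv (CochainComplex A ℤ) (1 : ℤ)).unitIso.hom.app M) := inferInstance
  have h2 : IsIso (((shiftEquiv (CochainComplex A ℤ) (1 : ℤ)).unitIso.hom.app M).f n) :=
    (inferInstance : IsIso ((HomologicalComplex.eval A (ComplexShape.up ℤ) n).map
      ((shiftEquiv (CochainComplex A ℤ) (1 : ℤ)).unitIso.hom.app M)))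
  exact @mono_comp A _ _ _ _ _ (IsIso.mono_of_iso _) _ h0

lemma quasiIso_j (M : CochainComplex A ℤ) : QuasiIso ((j J η).app M) := by
  rw [j_app]
  have := quasiIso_jt (SM_shortExact J η M)
  have h1 : IsIso ((shiftEquiv (CochainComplex A ℤ) (1 : ℤ)).unitIso.hom.app M) := inferInstance
  have h2 : QuasiIso ((shiftEquiv (CochainComplex A ℤ) (1 : ℤ)).unitIso.hom.app M) := inferInstance
  have h3 : QuasiIso ((jt (SM J η M))⟦(-1 : ℤ)⟧') :=
    (CochainComplex.quasiIso_shift_iff (jt (SM J η M)) (-1)).2 this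
  exact @quasiIso_comp _ _ _ _ _ _ _ _ _ _ _ _ _ h2 h3

lemma factor_j [∀ X, Injective (J.obj X)] (M : CochainComplex A ℤ) (n : ℤ) :
    ∃ (I : A) (_ : Injective I) (a : M.X n ⟶ I) (b : I ⟶ ((N J η).obj M).X n),
      Mono b ∧ a ≫ b = ((j J η).app M).f n := by
  refine ⟨(Icx J M).X (n + -1 + 1), inferInstance,
    ((shiftEquiv (CochainComplex A ℤ) (1 : ℤ)).unitIso.hom.app M).f n ≫
      (umap J η M).f (n + -1 + 1),
    (mappingCone.inl ((πnat J η).app M)).v (n + -1 + 1) (n + -1) (by omega), ?_, ?_⟩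
  · have h : (mappingCone.inl ((πnat J η).app M)).v (n + -1 + 1) (n + -1) (by omega) ≫
        (mappingCone.fst ((πnat J η).app M)).1.v (n + -1) (n + -1 + 1) rfl = 𝟙 _ :=
      mappingCone.inl_v_fst_v _ _ _ _
    exact (SplitMono.mk _ h).mono
  · rw [j_f, Category.assoc]
    rfl

end main

end Groth.Agent.H5.InjHull
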