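import Mathlib
import Groth.Agent.H16.K0DerC
import Groth.Agent.H17.K0.Basic
import Groth.Agent.H35.RegPerfCx
import Groth.Agent.H35.KoszulPerfect
import Groth.Agent.H35.PerfectBounded
import Groth.Agent.H79.KoszulCone
import Groth.Prelude.Def_DRing2
import Groth.Prelude.Def_Koszul

/-!
# `K₀` of perfect complexes supported at the closed point of a regular local ring
-/

set_option autoImplicit false
set_option linter.style.haveILetI false
universe u
open CategoryTheory CategoryTheory.Limits ZeroObject CategoryTheory.Pretriangulated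

attribute [local instance] HasDerivedCategory.standard

namespace Groth.Agent.H5.K0Koszul

open Groth.Agent.H16.K0Der Groth.Agent.H16.K0Res

variable (R : Type u) [CommRing R] [IsNoetherianRing R] [IsLocalRing R]

/-- finite modules supported at the closed point -/
def flP : ObjectProperty (ModuleCat.{u} R) := fun M =>
  Module.Finite R M ∧ Module.support R M ⊆ {IsLocalRing.closedPoint R}

instance : (flP R).IsClosedUnderIsomorphisms where
  of_iso {M N} e h := by
    obtain ⟨h1, h2⟩ := h
    haveI := h1
    exact ⟨Module.Finite.equiv e.toLinearEquiv, by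
      rw [← e.toLinearEquiv.support_eq]; exact h2⟩

omit [IsNoetherianRing R] in
lemma flP_of_subsingleton (M : ModuleCat.{u} R) [Subsingleton M] : flP R M :=
  ⟨inferInstance, by rw [Module.support_eq_empty]; exact Set.empty_subset _⟩

instance : (flP R).ContainsZero where
  exists_zero := ⟨ModuleCat.of R PUnit, ModuleCat.isZero_of_subsingleton _,
    flP_of_subsingleton R _⟩

instance : (flP R).IsClosedUnderKernels where
  kernels_le := by
    rintro _ ⟨f, k, hk, hf⟩
    obtain ⟨⟨h1, h2⟩, -⟩ := hf
    haveI := h1
    have hker : flP R (ModuleCat.of R (LinearMap.ker f.hom)) :=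
      ⟨inferInstance, (Module.support_subset_of_injective (LinearMap.ker f.hom).subtype
        (Submodule.injective_subtype _)).trans h2⟩
    exact (flP R).prop_of_iso ((ModuleCat.kernelIsoKer f).symm ≪≫
      IsLimit.conePointUniqueUpToIso (limit.isLimit _) hk) hker

/-- **Dévissage** for finite modules supported at the closed point. -/
theorem flP_induction (𝒢 : ModuleCat.{u} R → Prop)
    (hiso : ∀ {M N : ModuleCat.{u} R}, (M ≅ N) → 𝒢 M → 𝒢 N)
    (h0 : ∀ M : ModuleCat.{u} R, IsZero M → 𝒢 M)
    (hk : 𝒢 (ModuleCat.of R (R ⧸ IsLocalRing.maximalIdeal R)))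
    (hex : ∀ S : ShortComplex (ModuleCat.{u} R), S.ShortExact → flP R S.X₁ → flP R S.X₂ →
      flP R S.X₃ → 𝒢 S.X₁ → 𝒢 S.X₃ → 𝒢 S.X₂) :
    ∀ M : ModuleCat.{u} R, flP R M → 𝒢 M := by
  suffices H : ∀ (N : Type u) [AddCommGroup N] [Module R N] (_ : Module.Finite R N),
      Module.support R N ⊆ {IsLocalRing.closedPoint R} → 𝒢 (ModuleCat.of R N) by
    rintro M ⟨hfin, hsupp⟩
    exact H M hfin hsupp
  intro N _ _ hfin
  induction hfin using IsNoetherianRing.induction_on_isQuotientEquivQuotientPrime R with
  | subsingleton N => exact fun _ => h0 _ (ModuleCat.isZero_of_subsingleton _)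
  | quotient N p f =>
    intro hs
    have hp : p ∈ Module.support R N := by
      rw [f.support_eq, Module.support_eq_zeroLocus, Ideal.annihilator_quotient,
        PrimeSpectrum.mem_zeroLocus]
    have hp' : p = IsLocalRing.closedPoint R := hs hp
    have hp'' : p.asIdeal = IsLocalRing.maximalIdeal R := by rw [hp']; rfl
    exact hiso (f.trans (Submodule.quotEquivOfEq _ _ hp'')).toModuleIso.symm hk
  | exact N₁ N₂ N₃ f g hf hg hfg h₁ h₃ =>
    intro hs
    have hs₁ : Module.support R N₁ ⊆ {IsLocalRing.closedPoint R} :=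
      (Module.support_subset_of_injective f hf).trans hs
    have hs₃ : Module.support R N₃ ⊆ {IsLocalRing.closedPoint R} :=
      (Module.support_subset_of_surjective g hg).trans hs
    have hc : g.comp f = 0 := by
      ext x
      exact hfg.apply_apply_eq_zero x
    exact hex (ModuleCat.shortComplexOfCompEqZero f g hc)
      (ModuleCat.shortComplex_shortExact _ hfg hf hg) ⟨‹_›, hs₁⟩ ⟨‹_›, hs⟩ ⟨‹_›, hs₃⟩
      (h₁ hs₁) (h₃ hs₃)

/-- the residue field as a module -/
noncomputable abbrev kMod : ModuleCat.{u} R := ModuleCat.of R (R ⧸ IsLocalRing.maximalIdeal R)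

omit [IsNoetherianRing R] in
lemma flP_kMod : flP R (kMod R) := by
  refine ⟨inferInstanceAs (Module.Finite R (R ⧸ IsLocalRing.maximalIdeal R)), ?_⟩
  change Module.support R (R ⧸ IsLocalRing.maximalIdeal R) ⊆ _
  rw [Module.support_eq_zeroLocus, Ideal.annihilator_quotient]
  intro p hp
  rw [PrimeSpectrum.mem_zeroLocus] at hp
  have h1 : IsLocalRing.maximalIdeal R = p.asIdeal :=
    (IsLocalRing.maximalIdeal.isMaximal R).eq_of_le p.2.ne_top hp
  exact PrimeSpectrum.ext h1.symm

/-- `K₀` of finite modules supported at the closed point is generated by the residue field -/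
theorem closure_kMod : AddSubgroup.closure {KZero.clSub (flP R) (kMod R)} = ⊤ := by
  rw [eq_top_iff]
  intro x hx0
  clear hx0
  induction x using Groth.Agent.H17.K0.induction_on (flP R) with
  | h0 => exact zero_mem _
  | hcl M hM =>
    refine flP_induction R (fun M => flP R M →
      KZero.clSub (flP R) M ∈ AddSubgroup.closure {KZero.clSub (flP R) (kMod R)})
      ?_ ?_ ?_ ?_ M hM hM
    · intro M N e h hN
      have hM : flP R M := (flP R).prop_of_iso e.symm hN
      rw [← clSub_iso (flP R) e (ModuleCat.isZero_of_subsingleton (ModuleCat.of R PUnit))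
        (flP_of_subsingleton R _) hM hN]
      exact h hM
    · intro M hz hM
      rw [clSub_isZero (flP R) hz hM]
      exact zero_mem _
    · intro _
      exact AddSubgroup.subset_closure rfl
    · intro S hS h1 h2 h3 g1 g3 _
      rw [clSub_ses (flP R) S hS h1 h2 h3]
      exact add_mem (g1 h1) (g3 h3)
  | hneg x hx => exact neg_mem hx
  | hadd x y hx hy => exact add_mem hx hy

variable {R}

/-- finite modules supported at the closed point are perfect when the maximal ideal is generated
by a regular sequence -/
theorem isPerfect_single_of_flP (fs : List R) (hreg : RingTheory.Sequence.IsRegular R fs)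
    (hgen : Ideal.ofList fs = IsLocalRing.maximalIdeal R) (M : ModuleCat.{u} R) (hM : flP R M) :
    DRing.IsPerfect R ((DerivedCategory.singleFunctor (ModuleCat.{u} R) 0).obj M) := by
  refine flP_induction R
    (fun M => DRing.IsPerfect R ((DerivedCategory.singleFunctor (ModuleCat.{u} R) 0).obj M))
    ?_ ?_ ?_ ?_ M hM
  · intro M N e h
    exact Groth.Agent.H35.isPerfect_of_iso R
      ((DerivedCategory.singleFunctor (ModuleCat.{u} R) 0).mapIso e) h
  · intro M hz
    exact Groth.Agent.H35.isPerfect_of_isZero R _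
      ((DerivedCategory.singleFunctor (ModuleCat.{u} R) 0).map_isZero hz)
  · have hl : LCI.IsKoszulRegularSeq R fs := fun i hi =>
      Groth.Agent.H79.KoszulCone.isZero_homology_of_isWeaklyRegular fs
        hreg.toIsWeaklyRegular i hi
    have h := Groth.Agent.H35.KoszulPerf.isPerfectModule_quotient_of_isKoszulRegularSeq fs hl
    rw [hgen] at h
    exact h
  · intro S hS _ _ _ g1 g3
    exact (Groth.Agent.H35.isPerfect_two_out_of_three R _
      hS.singleTriangle_distinguished).2.1 g1 g3

/-- perfect complexes supported at the closed point = bounded complexes with finite cohomology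
supported at the closed point -/
theorem pred_iff (fs : List R) (hreg : RingTheory.Sequence.IsRegular R fs)
    (hgen : Ideal.ofList fs = IsLocalRing.maximalIdeal R) (K : Dual.D R) :
    (DRing.IsPerfect R K ∧
      ∀ i : ℤ, Module.support R (Dual.HD R K i) ⊆ {IsLocalRing.closedPoint R}) ↔
      QP (flP R) K := by
  constructor
  · rintro ⟨h, hs⟩
    have pc := Groth.Agent.H35.KF.isPseudoCoherent'_of_isPerfect _ h
    rw [Groth.Agent.H28.PCohRing.isPseudoCoherent'_iff] at pc
    refine ⟨fun i =>
      ⟨((Groth.Agent.H28.PCohRing.isNPC_iff_of_noetherian R i K).1 (pc i)).2 i le_rfl, hs i⟩, ?_⟩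
    obtain ⟨E, a, b, hE, -, ⟨e⟩⟩ := h
    have hz : ∀ i : ℤ, i < a ∨ b < i →
        IsZero ((DerivedCategory.homologyFunctor (ModuleCat.{u} R) i).obj K) := by
      intro i hi
      have hz : IsZero ((DerivedCategory.homologyFunctor (ModuleCat.{u} R) i).obj
          (DerivedCategory.Q.obj E)) :=
        Groth.Agent.H35.KF.isZero_homology_of_exactAt E i
          (HomologicalComplex.ExactAt.of_isZero (hE i hi))
      exact hz.of_iso ((DerivedCategory.homologyFunctor (ModuleCat.{u} R) i).mapIso e.symm)
    exact ⟨a, b, (DerivedCategory.isGE_iff K a).2 (fun i hi => hz i (Or.inl hi)),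
      (DerivedCategory.isLE_iff K b).2 (fun i hi => hz i (Or.inr hi))⟩
  · rintro ⟨hK, a, b, ha, hb⟩
    refine ⟨?_, fun i => (hK i).2⟩
    refine Groth.Agent.H35.isPerfect_of_bounded_homology R K ⟨a, b, fun i hi => ?_⟩
      (fun i => isPerfect_single_of_flP fs hreg hgen _ (hK i))
    rcases hi with hi | hi
    · exact ModuleCat.subsingleton_of_isZero ((DerivedCategory.isGE_iff K a).1 ha i hi)
    · exact ModuleCat.subsingleton_of_isZero ((DerivedCategory.isLE_iff K b).1 hb i hi)

/-- **`K₀` of the perfect complexes supported at the closed point is generated by the Koszul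
complex.** -/
theorem main (fs : List R) (hreg : RingTheory.Sequence.IsRegular R fs)
    (hgen : Ideal.ofList fs = IsLocalRing.maximalIdeal R) :
    AddSubgroup.closure
        {KZero.clTr (fun K : Dual.D R => DRing.IsPerfect R K ∧
            ∀ i : ℤ, Module.support R (Dual.HD R K i) ⊆ {IsLocalRing.closedPoint R})
          (DRing.toD (Koszul.koszul R fs))} = ⊤ := by
  have hPQ : (fun K : Dual.D R => DRing.IsPerfect R K ∧
      ∀ i : ℤ, Module.support R (Dual.HD R K i) ⊆ {IsLocalRing.closedPoint R}) =
      QP (flP R) := funext fun K => propext (pred_iff fs hreg hgen K)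
  rw [hPQ]
  have hl : LCI.IsKoszulRegularSeq R fs := fun i hi =>
    Groth.Agent.H79.KoszulCone.isZero_homology_of_isWeaklyRegular fs
      hreg.toIsWeaklyRegular i hi
  obtain ⟨e1⟩ := Groth.Agent.H35.KoszulPerf.nonempty_iso_single_of_isZero_homology
    (Koszul.koszul R fs) hl
  obtain ⟨e2⟩ := Groth.Agent.H79.KoszulCone.homology_zero_iso fs
  have e3 : ModuleCat.of R (R ⧸ Ideal.ofList fs) ≅ kMod R :=
    (Submodule.quotEquivOfEq _ _ hgen).toModuleIso
  let e : DRing.toD (Koszul.koszul R fs) ≅
      (DerivedCategory.singleFunctor (ModuleCat.{u} R) 0).obj (kMod R) :=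
    e1 ≪≫ (DerivedCategory.singleFunctor (ModuleCat.{u} R) 0).mapIso (e2 ≪≫ e3)
  have hcl : KZero.clTr (QP (flP R)) (DRing.toD (Koszul.koszul R fs)) =
      sigmaEquiv (flP R) (KZero.clSub (flP R) (kMod R)) := by
    rw [sigmaEquiv_clSub (flP R) (flP_kMod R)]
    exact clTr_iso (QP (flP R)) (QP_zero (flP R)) e
      (QP_of_iso (flP R) e.symm (QP_single (flP R) 0 _ (flP_kMod R)))
      (QP_single (flP R) 0 _ (flP_kMod R))
  rw [hcl]
  have h2 : AddSubgroup.closure {sigmaEquiv (flP R) (KZero.clSub (flP R) (kMod R))} =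
      (AddSubgroup.closure {KZero.clSub (flP R) (kMod R)}).map
        (sigmaEquiv (flP R)).toAddMonoidHom := by
    rw [AddMonoidHom.map_closure, Set.image_singleton]
    rfl
  rw [h2, closure_kMod]
  exact AddSubgroup.map_top_of_surjective _ (sigmaEquiv (flP R)).surjective

end Groth.Agent.H5.K0Koszul
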