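import Mathlib
import Groth.Agent.H5.K0Coh
import Groth.Agent.H5.PerfectTriangle
import Groth.Agent.H5.Stalk.Exact
import Groth.Prelude.Def_CohB1

/-!
# `K₀` of coherent modules supported on a closed subset vs perfect complexes supported there
-/

set_option autoImplicit false
set_option linter.style.haveILetI false
universe w v u
open CategoryTheory CategoryTheory.Limits AlgebraicGeometry ZeroObject
  CategoryTheory.Pretriangulated

namespace Groth.Agent.H5.K0Supp

section General

open DerivedCategory Groth.Agent.H16.K0Der

variable {C : Type u} [Category.{v} C] [Abelian C] [HasDerivedCategory.{w} C]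
  (P : ObjectProperty C) [P.IsClosedUnderIsomorphisms] [P.ContainsZero]

/-- **Amplitude induction.** A class of objects of `D(C)` closed under isomorphisms and
extensions, containing the zero objects and all shifts of objects of `P`, contains all bounded
objects with cohomology in `P`. -/
theorem qp_induction (R : DerivedCategory C → Prop)
    (hRiso : ∀ {K L : DerivedCategory C}, (K ≅ L) → R K → R L)
    (hR0 : ∀ K : DerivedCategory C, IsZero K → R K)
    (hRext : ∀ T : Triangle (DerivedCategory C), T ∈ distTriang (DerivedCategory C) →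
      R T.obj₁ → R T.obj₃ → R T.obj₂)
    (hRs : ∀ (b : ℤ) (Y : C), P Y → R ((singleFunctor C b).obj Y)) (n : ℕ) :
    ∀ (K : DerivedCategory C) (_ : QP P K) (a b : ℤ)
      (_ : (DerivedCategory.TStructure.t (C := C)).IsGE K a)
      (_ : (DerivedCategory.TStructure.t (C := C)).IsLE K b) (_ : b - a < n), R K := by
  induction n with
  | zero =>
    intro K hK a b ha hb hab
    exact hR0 K ((DerivedCategory.TStructure.t (C := C)).isZero K b a (by
      have : b - a < 0 := by exact_mod_cast hab
      lia))
  | succ n ih =>
    intro K hK a b ha hb hab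
    obtain ⟨L, M, hL, hM, f, g, h, hT⟩ :=
      (DerivedCategory.TStructure.t (C := C)).exists_triangle K (b - 1) b (by ring)
    have hL' : (DerivedCategory.TStructure.t (C := C)).IsLE L (b - 1) := ⟨hL⟩
    have hM' : (DerivedCategory.TStructure.t (C := C)).IsGE M b := ⟨hM⟩
    have hLz : ∀ i : ℤ, b ≤ i → IsZero ((homologyFunctor C i).obj L) := fun i hi =>
      (DerivedCategory.isLE_iff L (b - 1)).mp hL' i (by lia)
    have hMz : ∀ i : ℤ, i < b → IsZero ((homologyFunctor C i).obj M) := fun i hi =>
      (DerivedCategory.isGE_iff M b).mp hM' i hi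
    obtain ⟨h1, h2⟩ := trunc_homology (Triangle.mk f g h) hT b hLz hMz
    have hLK : ∀ i : ℤ, IsZero ((homologyFunctor C i).obj L) ∨
        Nonempty ((homologyFunctor C i).obj L ≅ (homologyFunctor C i).obj K) := by
      intro i
      by_cases hi : i < b
      · have : IsIso ((homologyFunctor C i).map f) := h1 i hi
        exact Or.inr ⟨asIso ((homologyFunctor C i).map f)⟩
      · exact Or.inl (hLz i (not_lt.mp hi))
    have hMK : ∀ i : ℤ, IsZero ((homologyFunctor C i).obj M) ∨
        Nonempty ((homologyFunctor C i).obj K ≅ (homologyFunctor C i).obj M) := by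
      intro i
      by_cases hi : i < b
      · exact Or.inl (hMz i hi)
      · have : IsIso ((homologyFunctor C i).map g) := h2 i (not_lt.mp hi)
        exact Or.inr ⟨asIso ((homologyFunctor C i).map g)⟩
    have hLa : (DerivedCategory.TStructure.t (C := C)).IsGE L a := by
      refine (DerivedCategory.isGE_iff L a).mpr ?_
      intro i hi
      rcases hLK i with hz | ⟨⟨e⟩⟩
      · exact hz
      · exact ((DerivedCategory.isGE_iff K a).mp ha i hi).of_iso e
    have hMb : (DerivedCategory.TStructure.t (C := C)).IsLE M b := by
      refine (DerivedCategory.isLE_iff M b).mpr ?_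
      intro i hi
      rcases hMK i with hz | ⟨⟨e⟩⟩
      · exact hz
      · exact ((DerivedCategory.isLE_iff K b).mp hb i hi).of_iso e.symm
    have hQL : QP P L := by
      refine ⟨fun i => ?_, a, b - 1, hLa, hL'⟩
      rcases hLK i with hz | ⟨⟨e⟩⟩
      · exact P.prop_of_isZero hz
      · exact P.prop_of_iso e.symm (hK.1 i)
    have hQM : QP P M := by
      refine ⟨fun i => ?_, b, b, hM', hMb⟩
      rcases hMK i with hz | ⟨⟨e⟩⟩
      · exact P.prop_of_isZero hz
      · exact P.prop_of_iso e (hK.1 i)
    have hRL : R L := ih L hQL a (b - 1) hLa hL' (by push_cast at hab; lia)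
    have hRM : R M := by
      obtain ⟨Y, ⟨e⟩⟩ := DerivedCategory.exists_iso_singleFunctor_obj_of_isGE_of_isLE M b
      have hY : P Y := by
        have e' : (homologyFunctor C b).obj M ≅ Y :=
          (homologyFunctor C b).mapIso e ≪≫ singleHomologyIso b Y
        exact P.prop_of_iso e' (hQM.1 b)
      exact hRiso e.symm (hRs b Y hY)
    exact hRext (Triangle.mk f g h) hT hRL hRM

end General

section Sch

attribute [local instance] HasDerivedCategory.standard

open Groth.Agent.H16.K0Der

variable {X : Scheme.{u}}

lemma support_subset_of_mono {M N : X.Modules} (f : M ⟶ N) [Mono f] :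
    CohB1.support M ⊆ CohB1.support N := by
  intro x hx hN
  apply hx
  have hinj := Stalk.stalkFunctor_map_injective_of_mono x f
  haveI : Subsingleton ((Stalk.stalkFunctor x).obj N) := hN
  exact hinj.subsingleton

lemma support_eq_of_iso {M N : X.Modules} (e : M ≅ N) : CohB1.support M = CohB1.support N :=
  Set.Subset.antisymm (support_subset_of_mono e.hom) (support_subset_of_mono e.inv)

lemma support_eq_empty_of_isZero {M : X.Modules} (h : IsZero M) : CohB1.support M = ∅ := by
  ext x
  simp only [CohB1.support, Set.mem_ofPred_eq, Set.mem_empty_iff_false, iff_false, not_not]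
  exact ModuleCat.subsingleton_of_isZero ((Stalk.stalkFunctor x).map_isZero h)

/-- coherent with support in `Y'` -/
def suppP (Y' : Set X) : ObjectProperty X.Modules := fun G =>
  Coh.IsCoh G ∧ CohB1.support G ⊆ Y'

variable (Y' : Set X)

instance : (suppP Y').IsClosedUnderIsomorphisms where
  of_iso e h := ⟨K0Coh.isCoh_iso e h.1, by rw [← support_eq_of_iso e]; exact h.2⟩

instance : (suppP Y').ContainsZero where
  exists_zero := ⟨0, isZero_zero _, K0Coh.isCoh_of_isZero _ (isZero_zero _), by
    rw [support_eq_empty_of_isZero (isZero_zero _)]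
    exact Set.empty_subset _⟩

instance [IsLocallyNoetherian X] : (suppP Y').IsClosedUnderKernels where
  kernels_le := by
    rintro _ ⟨f, k, hk, hf⟩
    have h1 : Coh.IsCoh (kernel f) := (Groth.Agent.S9514.result X hf.1.1 hf.2.1 f).1
    have h2 : CohB1.support (kernel f) ⊆ Y' :=
      (support_subset_of_mono (kernel.ι f)).trans hf.1.2
    exact (suppP Y').prop_of_iso (IsLimit.conePointUniqueUpToIso (kernelIsKernel f) hk) ⟨h1, h2⟩

/-- perfect complexes with cohomology supported in `Y'` are the bounded complexes with coherent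
cohomology supported in `Y'`, when all coherent modules supported in `Y'` are perfect -/
theorem pred_iff [IsNoetherian X]
    (hperf : ∀ G : X.Modules, Coh.IsCoh G → CohB1.support G ⊆ Y' →
      DCoh.IsPerfect (DCoh.inD X G)) (K : DCoh.D X) :
    (DCoh.IsPerfect K ∧ ∀ i : ℤ, CohB1.support (DCoh.HD K i) ⊆ Y') ↔ QP (suppP Y') K := by
  constructor
  · rintro ⟨h1, h2⟩
    exact ⟨fun i => ⟨Groth.Agent.H33.PC.isCohD_of_isPerfect K h1 i, h2 i⟩,
      Groth.Agent.H33.PC.exists_bounds_of_isPerfect K h1⟩
  · rintro ⟨hK, a, b, ha, hb⟩
    refine ⟨?_, fun i => (hK i).2⟩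
    refine qp_induction (suppP Y') (fun K => DCoh.IsPerfect K)
      (fun e h => PerfectTriangle.isPerfect_of_iso e h) ?_ ?_ ?_ (b - a + 1).toNat K
      ⟨hK, a, b, ha, hb⟩ a b ha hb (by omega)
    · intro K hK
      have h0 : DCoh.IsPerfect (DCoh.inD X (0 : X.Modules)) :=
        hperf 0 (K0Coh.isCoh_of_isZero _ (isZero_zero _)) (by
          rw [support_eq_empty_of_isZero (isZero_zero _)]
          exact Set.empty_subset _)
      have hz : IsZero (DCoh.inD X (0 : X.Modules)) :=
        (DerivedCategory.singleFunctor X.Modules 0).map_isZero (isZero_zero _)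
      exact PerfectTriangle.isPerfect_of_iso (hz.iso hK) h0
    · intro T hT h1 h3
      exact (PerfectTriangle.two_out_of_three T hT).2.1 h1 h3
    · intro b Y hY
      have e : ((DerivedCategory.singleFunctor X.Modules 0).obj Y)⟦(-b : ℤ)⟧ ≅
          (DerivedCategory.singleFunctor X.Modules b).obj Y :=
        ((DerivedCategory.singleFunctors X.Modules).shiftIso (-b) b 0 (by omega)).app Y
      exact PerfectTriangle.isPerfect_of_iso e
        (PerfectTriangle.isPerfect_shift _ (-b) (hperf Y hY.1 hY.2))

end Sch

end Groth.Agent.H5.K0Supp
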