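import Groth.Agent.H45.Resolution.KFlatRes
import Groth.Agent.H45.KFlat.Single
import Groth.Agent.H45.KFlat.Symmetry

/-!
# Tensoring a K-flat acyclic complex with a module gives an acyclic complex
-/

set_option autoImplicit false
universe u
open CategoryTheory CategoryTheory.Limits HomologicalComplex

namespace Groth.Agent.H5.KFlatTensor

variable {C : Type u} [SmallCategory C] {J : GrothendieckTopology C} {O : Sheaf J CommRingCat.{u}}

/-- `- ⊗ M` as a functor -/
noncomputable abbrev tensorRight (M : ModSite.Mod O) : ModSite.Mod O ⥤ ModSite.Mod O :=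
  (ModSite.tensorBi O).flip.obj M

instance (M : ModSite.Mod O) : (tensorRight M).Additive :=
  inferInstanceAs ((ModSite.tensorBi O).flip.obj M).Additive

section

variable (P K : CochainComplex (ModSite.Mod O) ℤ) (hK : ∀ q, q ≠ 0 → IsZero (K.X q))

/-- If `K` is concentrated in degree `0`, then `Tot(P ⊗ K)` is the termwise tensor product
of `P` with `K⁰`. -/
noncomputable def termwiseIso :
    ((tensorRight (K.X 0)).mapHomologicalComplex (ComplexShape.up ℤ)).obj P ≅
      mapBifunctor P K (ModSite.tensorBi O) (ComplexShape.up ℤ) :=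
  HomologicalComplex.Hom.isoOfComponents (fun n =>
    @asIso _ _ _ _ (ιMapBifunctor P K (ModSite.tensorBi O) (ComplexShape.up ℤ) n 0 n (add_zero n))
      (Groth.Agent.H45.isIso_ιMapBifunctor_of_isZero P K 0 hK n n (add_zero n)))
    (fun i j hij => by
      dsimp
      exact Groth.Agent.H45.ι_comp_d_of_isZero P K 0 hK i j i j hij (add_zero i)
        (add_zero j))

end

/-- If `P` is K-flat and acyclic, then `Tot(P ⊗ K)` is acyclic for any `K`. -/
lemma isZero_homology_mapBifunctor (P : CochainComplex (ModSite.Mod O) ℤ)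
    (hP : ModSite.IsKFlat P) (hP' : ∀ i, IsZero (P.homology i))
    (K : CochainComplex (ModSite.Mod O) ℤ) (i : ℤ) :
    IsZero ((mapBifunctor P K (ModSite.tensorBi O) (ComplexShape.up ℤ)).homology i) := by
  obtain ⟨R, q, hR, -, hq, -⟩ := Groth.Agent.H45.exists_isKFlat_resolution O K
  have hqi : QuasiIso (mapBifunctorMap (𝟙 P) q (ModSite.tensorBi O) (ComplexShape.up ℤ)) :=
    Groth.Agent.H45.quasiIso_mapBifunctorMap_right P
      (Groth.Agent.H45.isZero_homology_mapBifunctor_left_of_isKFlat hP) q
  have := hqi.quasiIsoAt i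
  have h : IsZero ((mapBifunctor P R (ModSite.tensorBi O) (ComplexShape.up ℤ)).homology i) :=
    hR P hP' i
  exact h.of_iso (_root_.isoOfQuasiIsoAt
    (mapBifunctorMap (𝟙 P) q (ModSite.tensorBi O) (ComplexShape.up ℤ)) i).symm

/-- If `P` is K-flat and acyclic, then `P ⊗ M` (termwise) is acyclic for any module `M`. -/
theorem exactAt_tensorRight (M : ModSite.Mod O) (P : CochainComplex (ModSite.Mod O) ℤ)
    (hP : ModSite.IsKFlat P) (hP' : ∀ i, P.ExactAt i) (i : ℤ) :
    (((tensorRight M).mapHomologicalComplex (ComplexShape.up ℤ)).obj P).ExactAt i := by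
  let K : CochainComplex (ModSite.Mod O) ℤ :=
    (HomologicalComplex.single (ModSite.Mod O) (ComplexShape.up ℤ) 0).obj M
  have hK : ∀ q, q ≠ 0 → IsZero (K.X q) := fun q hq =>
    HomologicalComplex.isZero_single_obj_X (ComplexShape.up ℤ) 0 M q hq
  have h₁ := isZero_homology_mapBifunctor P hP
    (fun i => (hP' i).isZero_homology) K i
  let e₀ : tensorRight (K.X 0) ≅ tensorRight M :=
    (ModSite.tensorBi O).flip.mapIso (HomologicalComplex.singleObjXSelf (ComplexShape.up ℤ) 0 M)
  let e := (NatIso.mapHomologicalComplex e₀ (ComplexShape.up ℤ)).app P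
  rw [HomologicalComplex.exactAt_iff_isZero_homology]
  exact h₁.of_iso ((HomologicalComplex.homologyFunctor _ _ i).mapIso
    (e.symm ≪≫ termwiseIso P K hK))

/-- Variant of `exactAt_tensorRight` for a functor isomorphic to `- ⊗ M`. -/
theorem exactAt_of_iso (M : ModSite.Mod O) (T : ModSite.Mod O ⥤ ModSite.Mod O) [T.Additive]
    (e : T ≅ tensorRight M) (P : CochainComplex (ModSite.Mod O) ℤ)
    (hP : ModSite.IsKFlat P) (hP' : ∀ i, P.ExactAt i) (i : ℤ) :
    ((T.mapHomologicalComplex (ComplexShape.up ℤ)).obj P).ExactAt i := by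
  have h := exactAt_tensorRight M P hP hP' i
  rw [HomologicalComplex.exactAt_iff_isZero_homology] at h ⊢
  exact h.of_iso ((HomologicalComplex.homologyFunctor _ _ i).mapIso
    ((NatIso.mapHomologicalComplex e (ComplexShape.up ℤ)).app P))

end Groth.Agent.H5.KFlatTensor
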