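import Mathlib.Algebra.Homology.HomotopyCategory.KInjective
import Mathlib.Algebra.Homology.HomologicalComplexLimits
import Mathlib.CategoryTheory.Functor.OfSequence

/-!
# A sequential limit of K-injective complexes with degreewise split epi transition maps
is K-injective
-/

set_option autoImplicit false
universe v u
open CategoryTheory CategoryTheory.Limits Opposite

namespace Groth.Agent.H5.KInjLim

open CochainComplex HomComplex

variable {A : Type u} [Category.{v} A] [Abelian A]

/-- the inductive step: lifting a null-homotopy along a degreewise split epimorphism -/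
lemma step {K L L' : CochainComplex A ℤ} (hK : K.Acyclic) [L.IsKInjective] [L'.IsKInjective]
    (p : L' ⟶ L) (hp : ∀ m, IsSplitEpi (p.f m)) (f' : K ⟶ L') (h : Cochain K L (-1))
    (hh : δ (-1) 0 h = Cochain.ofHom (f' ≫ p)) :
    ∃ h' : Cochain K L' (-1), δ (-1) 0 h' = Cochain.ofHom f' ∧
      h'.comp (Cochain.ofHom p) (add_zero _) = h := by
  obtain ⟨h₀, hh₀⟩ : ∃ h₀ : Cochain K L' (-1), δ (-1) 0 h₀ = Cochain.ofHom f' := by
    obtain ⟨ho⟩ := IsKInjective.nonempty_homotopy_zero f' hK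
    obtain ⟨z, hz⟩ := Cochain.equivHomotopy _ _ ho
    exact ⟨z, by simpa using hz.symm⟩
  let z : Cochain K L (-1) := h₀.comp (Cochain.ofHom p) (add_zero _) - h
  have hz : δ (-1) 0 z = 0 := by
    simp [z, δ_sub, hh₀, hh]
  obtain ⟨w, hw⟩ := IsKInjective.eq_δ_of_cocycle (Cocycle.mk z 0 (by simp) hz) hK (-2) (by simp)
  let w' : Cochain K L' (-2) := Cochain.mk (fun a b hab => w.v a b hab ≫ section_ (p.f b))
  have hw' : w'.comp (Cochain.ofHom p) (add_zero _) = w := by
    ext a b hab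
    simp [w']
  refine ⟨h₀ - δ (-2) (-1) w', by simp [δ_sub, hh₀, δ_δ], ?_⟩
  have : (δ (-2) (-1) w').comp (Cochain.ofHom p) (add_zero _) = z := by
    rw [← δ_comp_ofHom, hw', hw]
    rfl
  rw [Cochain.sub_comp, this]
  simp [z]

section

variable (I : ℕᵒᵖ ⥤ CochainComplex A ℤ)

/-- transition maps -/
abbrev tr (n : ℕ) : I.obj (op (n + 1)) ⟶ I.obj (op n) := I.map (homOfLE (Nat.le_succ n)).op

lemma exists_compatible {K : CochainComplex A ℤ} (hK : K.Acyclic)
    (h1 : ∀ n : ℕ, (I.obj (op n)).IsKInjective)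
    (h2 : ∀ (n : ℕ) (m : ℤ), IsSplitEpi ((tr I n).f m))
    (f : ∀ n, K ⟶ I.obj (op n)) (hf : ∀ n, f (n + 1) ≫ tr I n = f n) :
    ∃ h : ∀ n, Cochain K (I.obj (op n)) (-1), (∀ n, δ (-1) 0 (h n) = Cochain.ofHom (f n)) ∧
      ∀ n, (h (n + 1)).comp (Cochain.ofHom (tr I n)) (add_zero _) = h n := by
  have h0 : ∃ h₀ : Cochain K (I.obj (op 0)) (-1), δ (-1) 0 h₀ = Cochain.ofHom (f 0) := by
    have := h1 0
    obtain ⟨ho⟩ := IsKInjective.nonempty_homotopy_zero (f 0) hK
    obtain ⟨z, hz⟩ := Cochain.equivHomotopy _ _ ho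
    exact ⟨z, by simpa using hz.symm⟩
  let S (n : ℕ) := { h : Cochain K (I.obj (op n)) (-1) // δ (-1) 0 h = Cochain.ofHom (f n) }
  have hstep : ∀ n (s : S n), ∃ s' : S (n + 1),
      s'.1.comp (Cochain.ofHom (tr I n)) (add_zero _) = s.1 := fun n s => by
    have := h1 n
    have := h1 (n + 1)
    obtain ⟨h', h1', h2'⟩ := step hK (tr I n) (h2 n) (f (n + 1)) s.1 (by rw [s.2, hf])
    exact ⟨⟨h', h1'⟩, h2'⟩
  let seq : ∀ n, S n := fun n =>
    Nat.rec ⟨h0.choose, h0.choose_spec⟩ (fun n s => (hstep n s).choose) n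
  exact ⟨fun n => (seq n).1, fun n => (seq n).2, fun n => (hstep n (seq n)).choose_spec⟩

variable [HasLimitsOfShape ℕᵒᵖ A]

lemma cochain_ext {K : CochainComplex A ℤ} {m : ℤ} (z₁ z₂ : Cochain K (limit I) m)
    (h : ∀ n : ℕ, z₁.comp (Cochain.ofHom (limit.π I (op n))) (add_zero m) =
      z₂.comp (Cochain.ofHom (limit.π I (op n))) (add_zero m)) : z₁ = z₂ := by
  ext a b hab
  apply (isLimitOfPreserves (HomologicalComplex.eval A _ b) (limit.isLimit I)).hom_ext
  intro j
  have := Cochain.congr_v (h j.unop) a b hab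
  simp only [Cochain.comp_zero_cochain_v, Cochain.ofHom_v] at this
  exact this

theorem isKInjective_limit (h1 : ∀ n : ℕ, (I.obj (op n)).IsKInjective)
    (h2 : ∀ (n : ℕ) (m : ℤ), IsSplitEpi ((I.map (homOfLE (Nat.le_succ n)).op).f m)) :
    (limit I).IsKInjective := by
  refine ⟨fun {K} f hK => ?_⟩
  obtain ⟨h, hh1, hh2⟩ := exists_compatible I hK h1 h2 (fun n => f ≫ limit.π I (op n))
    (fun n => by simp [tr])
  let c (a b : ℤ) (hab : a + (-1) = b) : Cone (I ⋙ HomologicalComplex.eval A _ b) :=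
    { pt := K.X a
      π := NatTrans.ofOpSequence (fun n => (h n).v a b hab) (fun n => by
        have := Cochain.congr_v (hh2 n) a b hab
        simp only [Cochain.comp_zero_cochain_v, Cochain.ofHom_v] at this
        exact (Category.id_comp _).trans this.symm) }
  let H : Cochain K (limit I) (-1) := Cochain.mk (fun a b hab =>
    (isLimitOfPreserves (HomologicalComplex.eval A _ b) (limit.isLimit I)).lift (c a b hab))
  have hH : ∀ n, H.comp (Cochain.ofHom (limit.π I (op n))) (add_zero _) = h n := by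
    intro n
    ext a b hab
    simp only [Cochain.comp_zero_cochain_v, Cochain.ofHom_v, H, Cochain.mk_v]
    exact (isLimitOfPreserves (HomologicalComplex.eval A _ b) (limit.isLimit I)).fac
      (c a b hab) (op n)
  have key : δ (-1) 0 H = Cochain.ofHom f := by
    apply cochain_ext
    intro n
    rw [← δ_comp_ofHom, hH, hh1, Cochain.ofHom_comp]
  exact ⟨(Cochain.equivHomotopy f 0).symm ⟨H, by simp [key]⟩⟩

end

end Groth.Agent.H5.KInjLim
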