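import Mathlib.Algebra.Homology.HomotopyCategory.Pretriangulated
import Mathlib.Algebra.Homology.DerivedCategory.HomologySequence
import Mathlib.CategoryTheory.Abelian.GrothendieckCategory.Basic
import Mathlib.CategoryTheory.Abelian.GrothendieckAxioms.Colim
import Mathlib.Algebra.Homology.HomologicalComplexLimits
import Mathlib.Algebra.Homology.GrothendieckAbelian
import Groth.Agent.H5.AcyclicCoprod

/-!
# Functorial embedding of complexes killing maps from a family of acyclic complexes up to homotopy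
-/

set_option autoImplicit false
universe v u
open CategoryTheory CategoryTheory.Limits

namespace Groth.Agent.H5.KillHomotopy

variable {A : Type u} [Category.{v} A] [Abelian A] [IsGrothendieckAbelian.{v} A]
  {ι : Type v} (K : ι → CochainComplex A ℤ)

/-- index type: pairs `(i, w : K i ⟶ M)`. -/
abbrev Idx (M : CochainComplex A ℤ) : Type v := Σ i : ι, (K i ⟶ M)

/-- the family indexed by `Idx K M` -/
abbrev fam (M : CochainComplex A ℤ) : Idx K M → CochainComplex A ℤ := fun p => K p.1

/-- coproduct of all `K i` over all maps to `M`. -/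
noncomputable def S (M : CochainComplex A ℤ) : CochainComplex A ℤ := ∐ (fam K M)

/-- inclusion of the summand indexed by `(i, w)` -/
noncomputable def ιS {M : CochainComplex A ℤ} (i : ι) (w : K i ⟶ M) : K i ⟶ S K M :=
  Sigma.ι (fam K M) ⟨i, w⟩

variable {K} in
lemma S_hom_ext {M Z : CochainComplex A ℤ} {f g : S K M ⟶ Z}
    (h : ∀ (i : ι) (w : K i ⟶ M), ιS K i w ≫ f = ιS K i w ≫ g) : f = g :=
  Sigma.hom_ext _ _ (fun p => h p.1 p.2)

/-- descent -/
noncomputable def descS {M Z : CochainComplex A ℤ} (f : ∀ (i : ι) (_ : K i ⟶ M), K i ⟶ Z) : S K M ⟶ Z :=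
  Sigma.desc (fun p => f p.1 p.2)

@[reassoc (attr := simp)]
lemma ιS_descS {M Z : CochainComplex A ℤ} (f : ∀ (i : ι) (_ : K i ⟶ M), K i ⟶ Z) (i : ι) (w : K i ⟶ M) :
    ιS K i w ≫ descS K f = f i w :=
  Sigma.ι_desc (f := fam K M) (fun p => f p.1 p.2) ⟨i, w⟩

/-- evaluation map -/
noncomputable def ev (M : CochainComplex A ℤ) : S K M ⟶ M := descS K (fun _ w => w)

noncomputable def Smap {M M' : CochainComplex A ℤ} (φ : M ⟶ M') : S K M ⟶ S K M' :=
  descS K (fun i w => ιS K i (w ≫ φ))

@[reassoc (attr := simp)]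
lemma ιS_ev {M : CochainComplex A ℤ} (i : ι) (w : K i ⟶ M) : ιS K i w ≫ ev K M = w := by
  simp [ev]

@[reassoc (attr := simp)]
lemma ιS_Smap {M M' : CochainComplex A ℤ} (φ : M ⟶ M') (i : ι) (w : K i ⟶ M) :
    ιS K i w ≫ Smap K φ = ιS K i (w ≫ φ) := by
  simp [Smap]

lemma Smap_id (M : CochainComplex A ℤ) : Smap K (𝟙 M) = 𝟙 _ :=
  S_hom_ext (fun i w => by simp)

lemma Smap_comp {M M' M'' : CochainComplex A ℤ} (φ : M ⟶ M') (ψ : M' ⟶ M'') :
    Smap K (φ ≫ ψ) = Smap K φ ≫ Smap K ψ :=
  S_hom_ext (fun i w => by simp)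

@[reassoc]
lemma ev_naturality {M M' : CochainComplex A ℤ} (φ : M ⟶ M') :
    ev K M ≫ φ = Smap K φ ≫ ev K M' :=
  S_hom_ext (fun i w => by simp)

open CochainComplex HomComplex

/-- The functor `N`: mapping cone of the evaluation map. -/
noncomputable def N : CochainComplex A ℤ ⥤ CochainComplex A ℤ where
  obj M := mappingCone (ev K M)
  map {M M'} φ := mappingCone.map (ev K M) (ev K M') (Smap K φ) φ (ev_naturality K φ)
  map_id M := by
    have h := mappingCone.map_id (ev K M)
    have h2 := Smap_id K M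
    convert h using 2
  map_comp {M M' M''} φ ψ := by
    have h := mappingCone.map_comp (ev K M) (ev K M') (ev K M'') (Smap K φ) φ (ev_naturality K φ)
      (Smap K ψ) ψ (ev_naturality K ψ)
    rw [← h]
    congr 1
    exact Smap_comp K φ ψ

/-- The natural transformation `𝟭 ⟶ N`. -/
noncomputable def j : 𝟭 (CochainComplex A ℤ) ⟶ N K where
  app M := mappingCone.inr (ev K M)
  naturality {M M'} φ := by
    dsimp [N, mappingCone.map]
    simp

instance (M : CochainComplex A ℤ) (n : ℤ) : Mono (((j K).app M).f n) := by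
  have : Mono (((j K).app M).f n ≫ (mappingCone.snd (ev K M)).v n n (add_zero n)) := by
    have h : ((j K).app M).f n ≫ (mappingCone.snd (ev K M)).v n n (add_zero n) = 𝟙 _ :=
      mappingCone.inr_f_snd_v (ev K M) n
    rw [h]; infer_instance
  exact mono_of_mono _ ((mappingCone.snd (ev K M)).v n n (add_zero n))

/-- `φ ≫ inr φ` is null-homotopic. -/
noncomputable def inrHomotopy {X Y : CochainComplex A ℤ} (φ : X ⟶ Y) :
    Homotopy (φ ≫ mappingCone.inr φ) 0 :=
  (Cochain.equivHomotopy _ _).symm ⟨mappingCone.inl φ, by simp⟩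

lemma nullHomotopic {M : CochainComplex A ℤ} (i : ι) (w : K i ⟶ M) :
    Nonempty (Homotopy (w ≫ (j K).app M) 0) := by
  have h1 : w ≫ (j K).app M = ιS K i w ≫ (ev K M ≫ mappingCone.inr (ev K M)) := by
    rw [ιS_ev_assoc]; rfl
  rw [h1]
  exact ⟨((inrHomotopy (ev K M)).compLeft (ιS K i w)).trans (Homotopy.ofEq comp_zero)⟩

section QuasiIso

attribute [local instance] HasDerivedCategory.standard

omit [IsGrothendieckAbelian.{v} A] in
/-- `inr φ : Y ⟶ cone φ` is a quasi-isomorphism when the source of `φ` is acyclic. -/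
lemma quasiIso_inr_of_exactAt {X Y : CochainComplex A ℤ} (φ : X ⟶ Y) (hX : ∀ n, X.ExactAt n) :
    QuasiIso (mappingCone.inr φ) := by
  have hT := DerivedCategory.mappingCone_triangle_distinguished φ
  refine ⟨fun n => ?_⟩
  rw [quasiIsoAt_iff_isIso_homologyMap]
  have h2 := CochainComplex.homologyMap_exact₂_of_distTriang _ hT n
  have h3 := CochainComplex.homologyMap_exact₃_of_distTriang _ hT n (n + 1) rfl
  have hm : Mono (HomologicalComplex.homologyMap (mappingCone.inr φ) n) :=
    h2.mono_g ((hX n).isZero_homology.eq_of_src _ _)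
  have he : Epi (HomologicalComplex.homologyMap (mappingCone.inr φ) n) :=
    h3.epi_f ((hX (n + 1)).isZero_homology.eq_of_tgt _ _)
  exact isIso_of_mono_of_epi _

end QuasiIso

lemma quasiIso_j (hK : ∀ i (n : ℤ), IsZero ((K i).homology n)) (M : CochainComplex A ℤ) :
    QuasiIso ((j K).app M) := by
  have : HasFiniteBiproducts A := Abelian.hasFiniteBiproducts
  have : AB4OfSize.{v} A := AB4.of_AB5 A
  refine quasiIso_inr_of_exactAt (ev K M) (fun n => ?_)
  refine Groth.Agent.H5.AcyclicCoprod.exactAt_sigma (fam K M) (fun p n => ?_) n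
  rw [HomologicalComplex.exactAt_iff_isZero_homology]
  exact hK p.1 n

end Groth.Agent.H5.KillHomotopy
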