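import Groth.Agent.H5.Transfinite
import Mathlib.Algebra.Group.Hom.Defs
import Mathlib.Algebra.Group.Basic
import Mathlib.Tactic.Abel
import Mathlib.Order.WellFounded
import Mathlib.Order.SuccPred.Basic

set_option autoImplicit false

universe w w'

namespace Groth.Agent.H5.LimitAcyclic

open Groth.Agent.H5.Transfinite

variable {I : Type w} [LinearOrder I] [WellFoundedLT I]
  (X : I → ℤ → Type w') [∀ β n, AddCommGroup (X β n)]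
  (d : ∀ β (i j : ℤ), X β i →+ X β j)
  (r : ∀ {γ β : I}, γ ≤ β → ∀ n, X β n →+ X γ n)

structure Hyp : Prop where
  r_refl : ∀ (β : I) (n : ℤ) (x : X β n), r (le_refl β) n x = x
  r_trans : ∀ {a b c : I} (h1 : a ≤ b) (h2 : b ≤ c) (n : ℤ) (x : X c n),
    r h1 n (r h2 n x) = r (h1.trans h2) n x
  r_d : ∀ {γ β : I} (h : γ ≤ β) (i j : ℤ) (x : X β i), r h j (d β i j x) = d γ i j (r h i x)
  d_d : ∀ (β : I) (i j k : ℤ) (x : X β i), d β j k (d β i j x) = 0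
  ex : ∀ (β : I) (i j k : ℤ), i + 1 = j → j + 1 = k → ∀ z : X β j, d β j k z = 0 →
    ∃ y : X β i, d β i j y = z
  surj : ∀ (β : I) (n : ℤ) (x : ∀ γ, γ < β → X γ n),
    (∀ (γ γ' : I) (hγ : γ < β) (hγ' : γ' < β) (h : γ ≤ γ'), r h n (x γ' hγ') = x γ hγ) →
    ∃ y : X β n, ∀ γ (hγ : γ < β), r (le_of_lt hγ) n y = x γ hγ

variable {X d r}

lemma claim (H : Hyp X d r) (β : I) : ∀ (i j k : ℤ), i + 1 = j → j + 1 = k →
    ∀ (z : X β j), d β j k z = 0 → ∀ (y : ∀ γ, γ < β → X γ i),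
    (∀ (γ γ' : I) (hγ : γ < β) (hγ' : γ' < β) (h : γ ≤ γ'), r h i (y γ' hγ') = y γ hγ) →
    (∀ γ (hγ : γ < β), d γ i j (y γ hγ) = r (le_of_lt hγ) j z) →
    ∃ y' : X β i, d β i j y' = z ∧ ∀ γ (hγ : γ < β), r (le_of_lt hγ) i y' = y γ hγ := by
  induction β using (wellFounded_lt (α := I)).induction with
  | _ β ih =>
  intro i j k hij hjk z hz y hyc hyd
  obtain ⟨y₀, hy₀⟩ := H.surj β i y hyc
  obtain ⟨u, hu⟩ : ∃ u, u = z - d β i j y₀ := ⟨_, rfl⟩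
  have hdu : d β j k u = 0 := by rw [hu, map_sub, hz, H.d_d, sub_zero]
  have hru : ∀ γ (hγ : γ < β), r (le_of_lt hγ) j u = 0 := by
    intro γ hγ
    rw [hu, map_sub, H.r_d, hy₀ γ hγ, hyd γ hγ, sub_self]
  obtain ⟨w₀, hw₀⟩ := H.ex β i j k hij hjk u hdu
  obtain ⟨h, hh⟩ : ∃ h : ℤ, h + 1 = i := ⟨i - 1, by omega⟩
  -- the family `c γ = r w₀`
  have hdc : ∀ γ (hγ : γ < β), d γ i j (r (le_of_lt hγ) i w₀) = 0 := by
    intro γ hγ
    rw [← H.r_d, hw₀, hru γ hγ]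
  -- construct `b` on the initial segment
  let I' := {γ : I // γ < β}
  let X' : I' → Type w' := fun γ => X γ.1 h
  have : ∀ γ : I', Inhabited (X' γ) := fun γ => ⟨(0 : X γ.1 h)⟩
  let r' : ∀ {γ γ' : I'}, γ ≤ γ' → X' γ' → X' γ := fun {γ γ'} hle x => r (γ := γ.1) (β := γ'.1) hle h x
  obtain ⟨b, hbΦ, hbc⟩ := exists_family (I := I') X' r'
    (fun γ x => H.r_refl γ.1 h x)
    (fun γ x => d γ.1 h i x = r (le_of_lt γ.2) i w₀)
    (by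
      intro γ b' hgood
      obtain ⟨x, hx1, hx2⟩ := ih γ.1 γ.2 h i j hh hij (r (le_of_lt γ.2) i w₀) (hdc γ.1 γ.2)
        (fun δ hδ => b' ⟨δ, hδ.trans γ.2⟩ hδ)
        (fun δ δ' hδ hδ' hle => hgood.2 ⟨δ, hδ.trans γ.2⟩ ⟨δ', hδ'.trans γ.2⟩ hδ hδ' hle)
        (fun δ hδ => by
          rw [hgood.1 ⟨δ, hδ.trans γ.2⟩ hδ, H.r_trans])
      exact ⟨x, hx1, fun δ hδ => hx2 δ.1 hδ⟩)
  obtain ⟨b₀, hb₀⟩ := H.surj β h (fun γ hγ => b ⟨γ, hγ⟩)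
    (fun γ γ' hγ hγ' hle => hbc ⟨γ, hγ⟩ ⟨γ', hγ'⟩ hle)
  refine ⟨y₀ + (w₀ - d β h i b₀), ?_, ?_⟩
  · rw [map_add, map_sub, H.d_d, sub_zero, hw₀, hu]
    abel
  · intro γ hγ
    rw [map_add, map_sub, hy₀ γ hγ, H.r_d, hb₀ γ hγ, hbΦ ⟨γ, hγ⟩]
    abel

theorem exists_primitive (H : Hyp X d r) (i j k : ℤ) (hij : i + 1 = j) (hjk : j + 1 = k)
    (z : ∀ β, X β j) (hzc : ∀ (γ β : I) (h : γ ≤ β), r h j (z β) = z γ)
    (hz : ∀ β, d β j k (z β) = 0) :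
    ∃ y : ∀ β, X β i, (∀ (γ β : I) (h : γ ≤ β), r h i (y β) = y γ) ∧
      ∀ β, d β i j (y β) = z β := by
  have : ∀ β : I, Inhabited (X β i) := fun β => ⟨0⟩
  obtain ⟨y, hyΦ, hyc⟩ := exists_family (I := I) (fun β => X β i)
    (fun {γ β} hle x => r hle i x) (fun β x => H.r_refl β i x)
    (fun β x => d β i j x = z β)
    (by
      intro β b hgood
      exact claim H β i j k hij hjk (z β) (hz β) b hgood.2
        (fun γ hγ => by rw [hgood.1 γ hγ, hzc]))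
  exact ⟨y, hyc, hyΦ⟩

end Groth.Agent.H5.LimitAcyclic
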