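import Mathlib.Algebra.Homology.HomologicalComplexLimits
import Mathlib.Algebra.Category.Grp.Limits
import Mathlib.CategoryTheory.Limits.ConcreteCategory.Basic
import Mathlib.CategoryTheory.Limits.Types.Limits

set_option autoImplicit false

universe w

open CategoryTheory CategoryTheory.Limits

namespace Groth.Agent.H5.LimitComplexAb

variable {J : Type w} [SmallCategory J] (K : J ⥤ CochainComplex AddCommGrpCat.{w} ℤ)

lemma lim_ext (m : ℤ) (x y : (limit K).X m)
    (h : ∀ j, (limit.π K j).f m x = (limit.π K j).f m y) : x = y := by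
  have hl := isLimitOfPreserves (HomologicalComplex.eval AddCommGrpCat (ComplexShape.up ℤ) m)
    (limit.isLimit K)
  exact Concrete.isLimit_ext _ hl x y h

lemma lim_exists (m : ℤ) (x : ∀ j, (K.obj j).X m)
    (hx : ∀ (j j' : J) (f : j ⟶ j'), (K.map f).f m (x j) = x j') :
    ∃ y : (limit K).X m, ∀ j, (limit.π K j).f m y = x j := by
  have hl := isLimitOfPreserves (HomologicalComplex.eval AddCommGrpCat (ComplexShape.up ℤ) m)
    (limit.isLimit K)
  have hl' := isLimitOfPreserves (forget AddCommGrpCat) hl
  let s : ((K ⋙ HomologicalComplex.eval AddCommGrpCat (ComplexShape.up ℤ) m) ⋙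
      forget AddCommGrpCat).sections := ⟨fun j => x j, fun {j j'} f => hx j j' f⟩
  refine ⟨(Types.isLimitEquivSections hl').symm s, fun j => ?_⟩
  exact Types.isLimitEquivSections_symm_apply hl' s j

end Groth.Agent.H5.LimitComplexAb
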