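import Groth.Agent.H5.LocalLiftQis
import Mathlib.Algebra.Homology.DerivedCategory.Fractions
import Groth.Prelude.Def_DCoh3

/-!
# Morphisms in the derived category out of a strictly perfect complex are locally represented by
chain maps
-/

set_option autoImplicit false
universe u
open CategoryTheory CategoryTheory.Limits AlgebraicGeometry ZeroObject HomologicalComplex
  Pretriangulated

attribute [local instance] HasDerivedCategory.standard

namespace Groth.Agent.H5.LocalChainRep

open CochainComplex

/-- algebraic core: if `α = Q g ≫ (Q s)⁻¹` and `β ≫ R s ∼ R g`, then `R α` is represented by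
`β`. -/
lemma map_eq_of_homotopy {A B : Type*} [Category A] [Abelian A] [Category B] [Abelian B]
    [HasDerivedCategory A] [HasDerivedCategory B]
    (R : A ⥤ B) [R.Additive] [PreservesFiniteLimits R] [PreservesFiniteColimits R]
    {E F F' : CochainComplex A ℤ} (g : E ⟶ F') (s : F ⟶ F') [IsIso (DerivedCategory.Q.map s)]
    (β : (R.mapHomologicalComplex (ComplexShape.up ℤ)).obj E ⟶
      (R.mapHomologicalComplex (ComplexShape.up ℤ)).obj F)
    (H : Homotopy (β ≫ (R.mapHomologicalComplex (ComplexShape.up ℤ)).map s)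
      ((R.mapHomologicalComplex (ComplexShape.up ℤ)).map g)) :
    R.mapDerivedCategory.map (DerivedCategory.Q.map g ≫ inv (DerivedCategory.Q.map s)) =
      R.mapDerivedCategoryFactors.hom.app E ≫ DerivedCategory.Q.map β ≫
        R.mapDerivedCategoryFactors.inv.app F := by
  rw [← cancel_mono (R.mapDerivedCategory.map (DerivedCategory.Q.map s)), ← Functor.map_comp,
    Category.assoc, IsIso.inv_hom_id, Category.comp_id]
  have n1 := R.mapDerivedCategoryFactors.inv.naturality s
  have n2 := R.mapDerivedCategoryFactors.hom.naturality g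
  simp only [Functor.comp_map] at n1 n2
  rw [Category.assoc, Category.assoc, ← n1, ← DerivedCategory.Q.map_comp_assoc,
    DerivedCategory.Q_map_eq_of_homotopy _ H, ← reassoc_of% n2, Iso.hom_inv_id_app]
  exact (Category.comp_id _).symm

open Scheme.Modules in
theorem locally_represented {X : Scheme.{u}} {E F : CochainComplex X.Modules ℤ}
    (hE : DCoh.IsStrictlyPerfect E) (α : DCoh.toD X E ⟶ DCoh.toD X F) (x : X) :
    ∃ V : X.Opens, x ∈ V ∧ ∀ [PreservesFiniteLimits (restrictFunctor V.ι)],
      ∃ β : (DCoh.restrictCx V).obj E ⟶ (DCoh.restrictCx V).obj F,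
        (DCoh.restrictD V.ι).map α =
          (restrictFunctor V.ι).mapDerivedCategoryFactors.hom.app E ≫ DerivedCategory.Q.map β ≫
            (restrictFunctor V.ι).mapDerivedCategoryFactors.inv.app F := by
  obtain ⟨F', g, s, hs, rfl⟩ := DerivedCategory.left_fac α
  obtain ⟨⟨a, b, hab⟩, hfl⟩ := hE
  have hqs : QuasiIso s := (DerivedCategory.isIso_Q_map_iff_quasiIso _ s).1 hs
  obtain ⟨V, β, hxV, ⟨H⟩⟩ := LocalLiftQis.locally_lift g s ⟨⟨a, b, hab⟩, hfl⟩ a
    (fun j hj => hab j (Or.inl hj)) (fun j _ => inferInstance) inferInstance x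
  refine ⟨V, hxV, ?_⟩
  intro inst
  exact ⟨β, map_eq_of_homotopy (restrictFunctor V.ι) g s β H⟩

end Groth.Agent.H5.LocalChainRep
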