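import Groth.Agent.H5.PerfectFree
import Groth.Agent.H44.LocalLift

/-!
# Maps from strictly perfect complexes to complexes acyclic in high degrees are locally
null-homotopic
-/

set_option autoImplicit false
universe u
open CategoryTheory CategoryTheory.Limits AlgebraicGeometry ZeroObject HomologicalComplex

namespace Groth.Agent.H5.LocalNull

/-- transfer of a null-homotopy along an isomorphism of additive functors -/
noncomputable def homotopyZeroOfNatIso {A B : Type*} [Category A] [Category B] [Preadditive A]
    [Preadditive B] {G G' : A ⥤ B} [G.Additive] [G'.Additive] (φ : G ≅ G')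
    {K L : CochainComplex A ℤ} (α : K ⟶ L)
    (h : Homotopy ((G.mapHomologicalComplex (ComplexShape.up ℤ)).map α) 0) :
    Homotopy ((G'.mapHomologicalComplex (ComplexShape.up ℤ)).map α) 0 :=
  (Homotopy.ofEq (by
    rw [(NatIso.mapHomologicalComplex φ (ComplexShape.up ℤ)).hom.naturality α,
      Iso.inv_hom_id_app_assoc])).trans
    (((h.compRight ((NatIso.mapHomologicalComplex φ (ComplexShape.up ℤ)).hom.app L)).compLeft
      ((NatIso.mapHomologicalComplex φ (ComplexShape.up ℤ)).inv.app K)).trans
      (Homotopy.ofEq (by simp)))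

/-- the image of a null-homotopic map under an additive functor is null-homotopic -/
noncomputable def mapHomotopyZero {A B : Type*} [Category A] [Category B] [Preadditive A]
    [Preadditive B] (G : A ⥤ B) [G.Additive] {K L : CochainComplex A ℤ} (α : K ⟶ L)
    (h : Homotopy α 0) : Homotopy ((G.mapHomologicalComplex (ComplexShape.up ℤ)).map α) 0 :=
  (G.mapHomotopy h).trans (Homotopy.ofEq (by simp))

lemma isZero_homology_map {A B : Type*} [Category A] [Category B] [Abelian A] [Abelian B]
    (R : A ⥤ B) [R.Additive] [PreservesFiniteLimits R] [PreservesFiniteColimits R]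
    (K : CochainComplex A ℤ) (i : ℤ) (h : IsZero (K.homology i)) :
    IsZero (((R.mapHomologicalComplex (ComplexShape.up ℤ)).obj K).homology i) := by
  rw [← HomologicalComplex.exactAt_iff_isZero_homology] at h ⊢
  rw [HomologicalComplex.exactAt_iff' _ (i - 1) i (i + 1) (by simp) (by simp)] at h ⊢
  exact h.map R

theorem isFinLocFree_restrict {X U : Scheme.{u}} (j : U ⟶ X) [IsOpenImmersion j] (M : X.Modules)
    (h : FlatMod.IsFinLocFree M) : FlatMod.IsFinLocFree ((Scheme.Modules.restrictFunctor j).obj M) :=
  FinLocFreeOps.isFinLocFree_of_iso ((Scheme.Modules.restrictFunctorIsoPullback j).app M).symm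
    (PerfectPull.isFinLocFree_pullback j M h)

open Scheme.Modules in
/-- the inductive claim: a map `α : E ⟶ F` with `E` termwise finite locally free, zero in degrees
`< a`, `F` acyclic in degrees `≥ a` and `α` zero in degrees `> b`, is locally null-homotopic. -/
theorem claim (n : ℕ) : ∀ {X : Scheme.{u}} {E F : CochainComplex X.Modules ℤ} (α : E ⟶ F) (a b : ℤ)
    (_ : b + 1 ≤ a + n) (_ : ∀ i, FlatMod.IsFinLocFree (E.X i))
    (_ : ∀ i, i < a → IsZero (E.X i)) (_ : ∀ i, a ≤ i → IsZero (F.homology i))
    (_ : ∀ i, b < i → α.f i = 0) (x : X),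
    ∃ (W : Scheme.{u}) (j : W ⟶ X) (_ : IsOpenImmersion j), x ∈ Set.range j ∧
      Nonempty (Homotopy (((restrictFunctor j).mapHomologicalComplex
        (ComplexShape.up ℤ)).map α) 0) := by
  have base : ∀ {X : Scheme.{u}} {E F : CochainComplex X.Modules ℤ} (α : E ⟶ F) (a b : ℤ)
      (_ : b < a) (_ : ∀ i, i < a → IsZero (E.X i)) (_ : ∀ i, b < i → α.f i = 0) (x : X),
      ∃ (W : Scheme.{u}) (j : W ⟶ X) (_ : IsOpenImmersion j), x ∈ Set.range j ∧
        Nonempty (Homotopy (((restrictFunctor j).mapHomologicalComplex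
          (ComplexShape.up ℤ)).map α) 0) := by
    intro X E F α a b hab hEa hα x
    have hα0 : α = 0 := by
      refine HomologicalComplex.hom_ext _ _ (fun i => ?_)
      by_cases hi : b < i
      · exact hα i hi
      · exact (hEa i (by omega)).eq_of_src _ _
    subst hα0
    exact ⟨X, 𝟙 X, inferInstance, ⟨x, rfl⟩, ⟨Homotopy.ofEq (by simp)⟩⟩
  induction n with
  | zero =>
    intro X E F α a b hn hfl hEa hF hα x
    exact base α a b (by omega) hEa hα x
  | succ n ih =>
    intro X E F α a b hn hfl hEa hF hα x
    by_cases hab : b < a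
    · exact base α a b hab hEa hα x
    · have hab' : a ≤ b := not_lt.1 hab
      let S := F.sc' (b - 1) b (b + 1)
      have hS : S.Exact :=
        (F.exactAt_iff' (b - 1) b (b + 1) (by simp) (by simp)).1
          ((F.exactAt_iff_isZero_homology b).2 (hF b hab'))
      let p : F.X (b - 1) ⟶ S.cycles := S.toCycles
      let ι : S.cycles ⟶ F.X b := S.iCycles
      have : Epi p := hS.epi_toCycles
      have hαd : α.f b ≫ F.d b (b + 1) = 0 := by
        rw [α.comm, hα (b + 1) (by omega), comp_zero]
      let φ : E.X b ⟶ S.cycles := S.liftCycles (α.f b) hαd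
      have h1 : p ≫ ι = F.d (b - 1) b := S.toCycles_i
      have h2 : φ ≫ ι = α.f b := S.liftCycles_i _ _
      obtain ⟨V, ψ, hxV, hψ⟩ :=
        Groth.Agent.H44.exists_local_lift_of_isFinLocFree p φ (hfl b) x
      let R := restrictFunctor V.ι
      have hψ' : ψ ≫ R.map (F.d (b - 1) b) = R.map (α.f b) := by
        rw [← h1, ← h2, R.map_comp, R.map_comp, ← Category.assoc]
        exact congrArg (· ≫ R.map ι) hψ
      let E' := (R.mapHomologicalComplex (ComplexShape.up ℤ)).obj E
      let F' := (R.mapHomologicalComplex (ComplexShape.up ℤ)).obj F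
      let hom : ∀ i j, E'.X i ⟶ F'.X j := fun i j =>
        if h : i = b ∧ j = b - 1 then
          (E'.XIsoOfEq h.1).hom ≫ ψ ≫ (F'.XIsoOfEq h.2.symm).hom else 0
      have hom_zero : ∀ i j, ¬ (i = b ∧ j = b - 1) → hom i j = 0 := fun i j h => dif_neg h
      have hom_b : hom b (b - 1) = ψ := by
        change dite _ _ _ = _
        rw [dif_pos ⟨rfl, rfl⟩]
        simp [HomologicalComplex.XIsoOfEq]
        exact Category.comp_id ψ
      let α' : E' ⟶ F' :=
        (R.mapHomologicalComplex (ComplexShape.up ℤ)).map α - Homotopy.nullHomotopicMap hom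
      have hα' : ∀ i, b - 1 < i → α'.f i = 0 := by
        intro i hi
        have hf : α'.f i = ((R.mapHomologicalComplex (ComplexShape.up ℤ)).map α).f i -
            (E'.d i (i + 1) ≫ hom (i + 1) i + hom i (i - 1) ≫ F'.d (i - 1) i) := by
          change ((R.mapHomologicalComplex (ComplexShape.up ℤ)).map α).f i -
            (Homotopy.nullHomotopicMap hom).f i = _
          rw [Homotopy.nullHomotopicMap_f (k₂ := i - 1) (k₁ := i) (k₀ := i + 1) (by simp)
            (by simp)]
        rw [hf]
        rcases eq_or_lt_of_le (show b ≤ i by omega) with hbi | hbi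
        · subst hbi
          rw [hom_zero (b + 1) b (by omega), comp_zero, zero_add, hom_b]
          change R.map (α.f b) - ψ ≫ R.map (F.d (b - 1) b) = 0
          rw [hψ', sub_self]
        · rw [hom_zero (i + 1) i (by omega), hom_zero i (i - 1) (by omega), comp_zero, zero_comp,
            add_zero, sub_zero]
          change R.map (α.f i) = 0
          rw [hα i hbi, R.map_zero]
      obtain ⟨W, j', hj', ⟨y, hy⟩, ⟨H'⟩⟩ := ih (X := (V : Scheme.{u})) α' a (b - 1) (by omega)
        (fun i => isFinLocFree_restrict V.ι _ (hfl i))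
        (fun i hi => R.map_isZero (hEa i hi))
        (fun i hi => isZero_homology_map R F i (hF i hi)) hα' ⟨x, hxV⟩
      refine ⟨W, j' ≫ V.ι, inferInstance, ⟨y, ?_⟩, ⟨?_⟩⟩
      · change V.ι (j' y) = x
        rw [hy]
        rfl
      · have hz : ∀ i j, ¬ (ComplexShape.up ℤ).Rel j i → hom i j = 0 := by
          intro i j hij
          refine hom_zero i j ?_
          rintro ⟨rfl, rfl⟩
          exact hij (by simp)
        have e1 : (R.mapHomologicalComplex (ComplexShape.up ℤ)).map α =
            α' + Homotopy.nullHomotopicMap hom := (sub_add_cancel _ _).symm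
        have G1 : Homotopy ((R.mapHomologicalComplex (ComplexShape.up ℤ)).map α) α' :=
          (Homotopy.ofEq e1).trans
            (((Homotopy.refl α').add (Homotopy.nullHomotopy hom hz)).trans
              (Homotopy.ofEq (add_zero _)))
        have G2 : Homotopy (((restrictFunctor j').mapHomologicalComplex (ComplexShape.up ℤ)).map
            ((R.mapHomologicalComplex (ComplexShape.up ℤ)).map α)) 0 :=
          ((restrictFunctor j').mapHomotopy G1).trans H'
        exact homotopyZeroOfNatIso (G := R ⋙ restrictFunctor j') (restrictFunctorComp j' V.ι).symm α G2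

open Scheme.Modules in
/-- A map from a strictly perfect complex (zero in degrees `< a`) to a complex which is acyclic
in degrees `≥ a` is locally null-homotopic. -/
theorem locally_nullhomotopic {X : Scheme.{u}} {E F : CochainComplex X.Modules ℤ}
    (α : E ⟶ F) (hE : DCoh.IsStrictlyPerfect E) (a : ℤ) (hEa : ∀ i : ℤ, i < a → IsZero (E.X i))
    (hF : ∀ i : ℤ, a ≤ i → IsZero (F.homology i)) (x : X) :
    ∃ V : X.Opens, x ∈ V ∧ Nonempty (Homotopy ((DCoh.restrictCx V).map α) 0) := by
  obtain ⟨⟨a', b', hab⟩, hfl⟩ := hE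
  obtain ⟨W, j, hj, hx, ⟨H⟩⟩ := claim (b' + 1 - a).toNat α a b' (by omega) hfl hEa hF
    (fun i hi => (hab i (Or.inr hi)).eq_of_src _ _) x
  refine ⟨j.opensRange, hx, ⟨?_⟩⟩
  have G := mapHomotopyZero (restrictFunctor j.isoOpensRange.inv) _ H
  exact homotopyZeroOfNatIso (G := restrictFunctor j ⋙ restrictFunctor j.isoOpensRange.inv)
    (Groth.Agent.H44.restrictRestrictNatIso j.isoOpensRange.inv j j.opensRange.ι
      j.isoOpensRange_inv_comp) α G

end Groth.Agent.H5.LocalNull
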