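import Mathlib

/-!
# A matrix of rank `≥ r` over a field has a nonvanishing `r × r` minor
-/

set_option autoImplicit false
universe u
open Module Matrix

namespace Groth.Agent.H5.MatrixMinor

variable {K : Type u} [Field K]

/-- from a finite family spanning a space of dimension `≥ r`, extract `r` linearly independent
members -/
lemma exists_linearIndependent_subfamily {V : Type u} [AddCommGroup V] [Module K V] {n : ℕ}
    (v : Fin n → V) (r : ℕ) (hr : r ≤ finrank K (Submodule.span K (Set.range v))) :
    ∃ c : Fin r → Fin n, LinearIndependent K (v ∘ c) := by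
  obtain ⟨κ, a, ha, hspan, hli⟩ := exists_linearIndependent' K v
  have : Finite κ := Finite.of_injective a ha
  have : Fintype κ := Fintype.ofFinite κ
  have hcard : Fintype.card κ = finrank K (Submodule.span K (Set.range v)) := by
    rw [← hspan]
    exact linearIndependent_iff_card_eq_finrank_span.1 hli
  have hle : r ≤ Fintype.card κ := hcard ▸ hr
  have e : Fin r ↪ κ := by
    have e1 : Fin r ↪ Fin (Fintype.card κ) := Fin.castLEEmb hle
    exact e1.trans (Fintype.equivFin κ).symm.toEmbedding
  exact ⟨a ∘ e, hli.comp e e.injective⟩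

theorem exists_minor {a b : ℕ} (A : Matrix (Fin b) (Fin a) K) (r : ℕ) (hr : r ≤ A.rank) :
    ∃ (ρ : Fin r → Fin b) (c : Fin r → Fin a), (A.submatrix ρ c).det ≠ 0 := by
  rw [Matrix.rank_eq_finrank_span_cols] at hr
  obtain ⟨c, hc⟩ := exists_linearIndependent_subfamily A.col r hr
  let B : Matrix (Fin b) (Fin r) K := A.submatrix id c
  have hBcol : LinearIndependent K B.col := hc
  have hBrank : B.rank = r := by
    have h1 : LinearIndependent K Bᵀ.row := hBcol
    have h2 := h1.rank_matrix
    rw [Matrix.rank_transpose, Fintype.card_fin] at h2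
    exact h2
  have hr' : r ≤ finrank K (Submodule.span K (Set.range B.row)) := by
    rw [← Matrix.rank_eq_finrank_span_row, hBrank]
  obtain ⟨ρ, hρ⟩ := exists_linearIndependent_subfamily B.row r hr'
  refine ⟨ρ, c, ?_⟩
  have hC : LinearIndependent K (A.submatrix ρ c).row := hρ
  have hunit := Matrix.linearIndependent_rows_iff_isUnit.1 hC
  exact ((Matrix.isUnit_iff_isUnit_det _).1 hunit).ne_zero

end Groth.Agent.H5.MatrixMinor
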