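import Mathlib.Algebra.Homology.HomotopyCategory.MappingCocone
import Mathlib.Algebra.Homology.HomotopyCategory.ShortExact
import Mathlib.Algebra.Homology.DerivedCategory.Basic
import Mathlib.Algebra.Homology.DerivedCategory.HomologySequence
import Mathlib.Algebra.Homology.Embedding.CochainComplex
import Groth.Agent.H5.PRes

/-!
# Factorisation of an `n`-quasi-isomorphism
-/

set_option autoImplicit false
universe v u
open CategoryTheory CategoryTheory.Limits

namespace Groth.Agent.H5.NQis

open CochainComplex HomComplex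

variable {A : Type u} [Category.{v} A] [Abelian A]

/-- two-out-of-three for the morphism induced on mapping cones -/
lemma quasiIso_mappingCone_map {K₁ L₁ K₂ L₂ : CochainComplex A ℤ} (φ₁ : K₁ ⟶ L₁) (φ₂ : K₂ ⟶ L₂)
    (a : K₁ ⟶ K₂) (b : L₁ ⟶ L₂) (comm : φ₁ ≫ b = a ≫ φ₂) [QuasiIso a] [QuasiIso b] :
    QuasiIso (mappingCone.map φ₁ φ₂ a b comm) := by
  letI : HasDerivedCategory A := HasDerivedCategory.standard A
  rw [← DerivedCategory.isIso_Q_map_iff_quasiIso]
  let ψ := DerivedCategory.Q.mapTriangle.map (mappingCone.triangleMap φ₁ φ₂ a b comm)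
  have h₁ : IsIso ψ.hom₁ := by
    change IsIso (DerivedCategory.Q.map a)
    infer_instance
  have h₂ : IsIso ψ.hom₂ := by
    change IsIso (DerivedCategory.Q.map b)
    infer_instance
  exact Pretriangulated.isIso₃_of_isIso₁₂ ψ (DerivedCategory.mappingCone_triangle_distinguished φ₁)
    (DerivedCategory.mappingCone_triangle_distinguished φ₂) h₁ h₂

section

variable {E F : CochainComplex A ℤ} (u : E ⟶ F)

/-- vanishing of the cohomology of the homotopy fibre -/
lemma isZero_homology_mappingCocone (i j : ℤ) (hij : i + 1 = j)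
    (hepi : Epi (HomologicalComplex.homologyMap u i))
    (hmono : Mono (HomologicalComplex.homologyMap u j)) :
    IsZero ((mappingCocone u).homology j) := by
  letI : HasDerivedCategory A := HasDerivedCategory.standard A
  have hT := DerivedCategory.mappingCocone_triangle_distinguished u
  have e₁ := CochainComplex.homologyMap_exact₁_of_distTriang _ hT i j hij
  have e₂ := CochainComplex.homologyMap_exact₂_of_distTriang _ hT j
  have e₃ := CochainComplex.homologyMap_exact₃_of_distTriang _ hT i j hij
  have h₁ : CochainComplex.homologyδOfTriangle (mappingCocone.triangle u) i j hij = 0 :=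
    e₃.epi_f_iff.1 hepi
  have h₂ : HomologicalComplex.homologyMap (mappingCocone.triangle u).mor₁ j = 0 :=
    e₂.mono_g_iff.1 hmono
  exact e₁.isZero_of_both_zeros h₁ h₂

end

section

variable {E F : CochainComplex A ℤ} (u : E ⟶ F)

/-- the canonical map `cone (fst u) ⟶ F` -/
noncomputable def p : mappingCone (mappingCocone.fst u) ⟶ F :=
  mappingCone.desc (mappingCocone.fst u) (-(mappingCocone.snd u)) u (by
    rw [δ_neg, PRes.δ_snd, neg_neg, Cochain.ofHom_comp])

/-- the canonical inclusion `F ⟶ cone (fst u)` -/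
noncomputable def s : F ⟶ mappingCone (mappingCocone.fst u) :=
  mappingCone.lift (mappingCocone.fst u) (mappingCocone.inr u) 0 (by
    ext i j hij
    simp)

/-- the canonical projection `cone (fst u) ⟶ cone (𝟙 E)` -/
noncomputable def q : mappingCone (mappingCocone.fst u) ⟶ mappingCone (𝟙 E) :=
  mappingCone.map (mappingCocone.fst u) (𝟙 E) (mappingCocone.fst u) (𝟙 E) (by simp)

@[reassoc (attr := simp)]
lemma inr_p : mappingCone.inr (mappingCocone.fst u) ≫ p u = u := by simp [p]

@[reassoc (attr := simp)]
lemma s_f_fst_v (i j : ℤ) (hij : i + 1 = j) :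
    (s u).f i ≫ (mappingCone.fst (mappingCocone.fst u)).1.v i j hij =
      (mappingCocone.inr u).1.v i j hij := by
  simp [s]

@[reassoc (attr := simp)]
lemma s_f_snd_v (i : ℤ) :
    (s u).f i ≫ (mappingCone.snd (mappingCocone.fst u)).v i i (add_zero i) = 0 := by
  simp [s]

lemma s_p : s u ≫ p u = -𝟙 F := by
  ext i
  simp [s, p, mappingCone.lift_desc_f _ _ _ _ _ _ _ i (i + 1) rfl]

@[reassoc (attr := simp)]
lemma q_f_fst_v (i j : ℤ) (hij : i + 1 = j) :
    (q u).f i ≫ (mappingCone.fst (𝟙 E)).1.v i j hij =
      (mappingCone.fst (mappingCocone.fst u)).1.v i j hij ≫ (mappingCocone.fst u).f j := by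
  simp [q, mappingCone.map, mappingCone.ext_from_iff _ j i hij]

@[reassoc (attr := simp)]
lemma q_f_snd_v (i : ℤ) :
    (q u).f i ≫ (mappingCone.snd (𝟙 E)).v i i (add_zero i) =
      (mappingCone.snd (mappingCocone.fst u)).v i i (add_zero i) := by
  simp [q, mappingCone.map, mappingCone.ext_from_iff _ (i + 1) i rfl]

@[reassoc (attr := simp)]
lemma inl_v_q_f (i j : ℤ) (hij : i + (-1) = j) :
    (mappingCone.inl (mappingCocone.fst u)).v i j hij ≫ (q u).f j =
      (mappingCocone.fst u).f i ≫ (mappingCone.inl (𝟙 E)).v i j hij := by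
  simp [q, mappingCone.map]

@[reassoc (attr := simp)]
lemma inr_f_q_f (i : ℤ) :
    (mappingCone.inr (mappingCocone.fst u)).f i ≫ (q u).f i = (mappingCone.inr (𝟙 E)).f i := by
  simp [q, mappingCone.map]

@[reassoc (attr := simp)]
lemma s_q : s u ≫ q u = 0 := by
  ext i
  simp [mappingCone.ext_to_iff _ i (i + 1) rfl]

/-- the short complex `0 → F → cone (fst u) → cone (𝟙 E) → 0` -/
noncomputable def ses : ShortComplex (CochainComplex A ℤ) :=
  ShortComplex.mk (s u) (q u) (s_q u)

lemma ses_shortExact : (ses u).ShortExact := by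
  apply HomologicalComplex.shortExact_of_degreewise_shortExact
  intro i
  have hmono : Mono ((s u).f i) := by
    apply mono_of_mono_fac (f := (mappingCone.fst (mappingCocone.fst u)).1.v i (i + 1) rfl ≫
      (mappingCocone.snd u).v (i + 1) i (by omega)) (h := 𝟙 _)
    simp
  have hepi : Epi ((q u).f i) := by
    constructor
    intro T a b h
    rw [mappingCone.ext_from_iff _ (i + 1) i rfl]
    constructor
    · have h₁ := (mappingCone.inl (mappingCocone.fst u)).v (i + 1) i (by omega) ≫= h
      simp only [inl_v_q_f_assoc] at h₁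
      have h₂ := (mappingCocone.inl u).v (i + 1) (i + 1) (add_zero _) ≫= h₁
      simpa using h₂
    · have h₁ := (mappingCone.inr (mappingCocone.fst u)).f i ≫= h
      simpa using h₁
  refine ShortComplex.ShortExact.mk' ?_ hmono hepi
  rw [ShortComplex.exact_iff_exact_up_to_refinements]
  intro T x hx
  change T ⟶ (mappingCone (mappingCocone.fst u)).X i at x
  change x ≫ (q u).f i = 0 at hx
  change ∃ (A' : A) (π : A' ⟶ T) (_ : Epi π) (x₁ : A' ⟶ F.X i),
    π ≫ x = x₁ ≫ (s u).f i
  have h1 : x ≫ (mappingCone.fst (mappingCocone.fst u)).1.v i (i + 1) rfl ≫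
      (mappingCocone.fst u).f (i + 1) = 0 := by
    rw [← q_f_fst_v, reassoc_of% hx, zero_comp]
  have h2 : x ≫ (mappingCone.snd (mappingCocone.fst u)).v i i (add_zero i) = 0 := by
    rw [← q_f_snd_v, reassoc_of% hx, zero_comp]
  refine ⟨T, 𝟙 _, inferInstance, x ≫ (mappingCone.fst (mappingCocone.fst u)).1.v i (i + 1) rfl ≫
      (mappingCocone.snd u).v (i + 1) i (by omega), ?_⟩
  rw [mappingCone.ext_to_iff _ i (i + 1) rfl]
  constructor
  · apply PRes.cocone_ext_to u (show i + 1 + -1 = i by omega)
    · simp [h1]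
    · simp
  · simp [h2]

lemma quasiIso_s : QuasiIso (s u) :=
  PRes.quasiIso_f_of_acyclic (ses_shortExact u) (by
    intro i
    exact (PRes.quasiIso_iff_exactAt_mappingCone (𝟙 E)).1 inferInstance i)

lemma quasiIso_p : QuasiIso (p u) := by
  have := quasiIso_s u
  have h : QuasiIso (s u ≫ p u) := by
    rw [s_p]
    have : IsIso (-𝟙 F) := ⟨-𝟙 F, by simp, by simp⟩
    infer_instance
  exact quasiIso_of_comp_left (s u) (p u)

end

section

variable {E F : CochainComplex A ℤ} (u : E ⟶ F) (n : ℤ)

theorem exists_factorisation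
    (hiso : ∀ i : ℤ, n < i → IsIso (HomologicalComplex.homologyMap u i))
    (hepi : Epi (HomologicalComplex.homologyMap u n)) :
    ∃ (E' : CochainComplex A ℤ) (v : E ⟶ E') (u' : E' ⟶ F), v ≫ u' = u ∧ QuasiIso u' ∧
      (∀ i : ℤ, Mono (v.f i)) ∧ (∀ i : ℤ, n ≤ i → IsIso (v.f i)) := by
  let N := mappingCocone u
  have hN : N.IsLE n := by
    rw [CochainComplex.isLE_iff]
    intro j hj
    rw [HomologicalComplex.exactAt_iff_isZero_homology]
    have := hiso j hj
    by_cases h : j = n + 1
    · exact isZero_homology_mappingCocone u n j h.symm hepi inferInstance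
    · have := hiso (j - 1) (by omega)
      exact isZero_homology_mappingCocone u (j - 1) j (by omega) inferInstance inferInstance
  let ι' := N.ιTruncLE n
  have : QuasiIso ι' := inferInstance
  let g := ι' ≫ mappingCocone.fst u
  let w := mappingCone.map g (mappingCocone.fst u) ι' (𝟙 E) (by simp [g])
  have hw : QuasiIso w := quasiIso_mappingCone_map _ _ _ _ _
  have := quasiIso_p u
  refine ⟨mappingCone g, mappingCone.inr g, w ≫ p u, ?_, inferInstance, ?_, ?_⟩
  · have h : mappingCone.inr g ≫ w = mappingCone.inr (mappingCocone.fst u) := by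
      simp [w, mappingCone.map]
    rw [← Category.assoc, h, inr_p]
  · intro i
    exact mono_of_mono_fac (mappingCone.inr_f_snd_v g i)
  · intro i hi
    have hz : IsZero ((N.truncLE n).X (i + 1)) :=
      CochainComplex.isZero_of_isStrictlyLE _ n (i + 1) (by omega)
    refine ⟨(mappingCone.snd g).v i i (add_zero i), mappingCone.inr_f_snd_v g i, ?_⟩
    rw [mappingCone.ext_to_iff _ i (i + 1) rfl]
    constructor
    · exact hz.eq_of_tgt _ _
    · simp

end

end Groth.Agent.H5.NQis
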