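import Groth.Agent.H5.Stalk.Acyclic
import Groth.Prelude.Def_Coh

/-!
# Global sections on a scheme with a single point are exact
-/

set_option autoImplicit false
universe u
open CategoryTheory CategoryTheory.Limits AlgebraicGeometry TopologicalSpace Opposite

namespace Groth.Agent.H5.OnePoint

open Groth.Agent.H5.Stalk

variable (S : Scheme.{u})

/-- global sections, as a functor to modules over the global functions -/
noncomputable abbrev evTop : S.Modules ⥤ ModuleCat.{u} (Coh.Γtop S) :=
  SheafOfModules.evaluation S.ringCatSheaf (op ⊤)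

instance : (evTop S).Additive := by
  have : (PresheafOfModules.evaluation.{u} S.ringCatSheaf.obj (op ⊤)).Additive := inferInstance
  exact inferInstanceAs (SheafOfModules.forget S.ringCatSheaf ⋙
    PresheafOfModules.evaluation S.ringCatSheaf.obj (op ⊤)).Additive

noncomputable instance : PreservesFiniteLimits (evTop S) :=
  SheafOfModules.Finite.evaluationPreservesFiniteLimits _ _

variable {S}

lemma evTop_map_surjective_of_epi (x : S) (hS : ∀ U : S.Opens, x ∈ U → U = ⊤)
    {M N : S.Modules} (φ : M ⟶ N) [Epi φ] : Function.Surjective ((evTop S).map φ).hom := by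
  intro t
  have hepi : Epi ((stalkFunctor x).map φ) := inferInstance
  have hsurj := (ModuleCat.epi_iff_surjective _).1 hepi
  obtain ⟨m, hm⟩ := hsurj (N.presheaf.germ ⊤ x trivial t)
  obtain ⟨U, hxU, s, rfl⟩ := M.presheaf.exists_germ_eq (m : M.presheaf.stalk x)
  obtain rfl := hS U hxU
  rw [stalkFunctor_map_germ] at hm
  obtain ⟨W, hxW, i₁, i₂, hW⟩ := N.presheaf.germ_eq x (U := ⊤) (V := ⊤) trivial trivial _ _ hm
  obtain rfl := hS W hxW
  refine ⟨s, ?_⟩
  have h1 : N.presheaf.map i₁.op = 𝟙 _ := by
    rw [Subsingleton.elim i₁ (𝟙 _)]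
    exact N.presheaf.map_id _
  have h2 : N.presheaf.map i₂.op = 𝟙 _ := by
    rw [Subsingleton.elim i₂ (𝟙 _)]
    exact N.presheaf.map_id _
  rw [h1, h2] at hW
  exact hW

lemma preservesEpimorphisms_evTop (x : S) (hS : ∀ U : S.Opens, x ∈ U → U = ⊤) :
    (evTop S).PreservesEpimorphisms where
  preserves φ _ := (ModuleCat.epi_iff_surjective _).2 (evTop_map_surjective_of_epi x hS φ)

lemma preservesFiniteColimits_evTop (x : S) (hS : ∀ U : S.Opens, x ∈ U → U = ⊤) :
    PreservesFiniteColimits (evTop S) := by
  have := preservesEpimorphisms_evTop x hS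
  rw [Functor.preservesFiniteColimits_iff_forall_exact_map_and_epi]
  intro T hT
  have := hT.epi_g
  have := hT.mono_f
  refine ⟨?_, inferInstanceAs (Epi ((evTop S).map T.g))⟩
  exact hT.exact.map_of_mono_of_preservesKernel (evTop S) inferInstance inferInstance

end Groth.Agent.H5.OnePoint
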