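import Groth.Agent.H5.PRes
import Mathlib.Algebra.Homology.Augment
import Mathlib.Algebra.Homology.Single

/-!
# Classes of objects of finite coresolution dimension (in the sense of exact `ℕ`-indexed complexes)
-/

set_option autoImplicit false
universe v u
open CategoryTheory CategoryTheory.Limits

namespace Groth.Agent.H5.PResDim

variable {A : Type u} [Category.{v} A] [Abelian A] (P : ObjectProperty A)

/-- `C` is a coresolution of `Y` (via `ι`), exact in all degrees, zero in degrees `> m`, and with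
terms in `P` in degrees `< m`. -/
structure GoodCores (m : ℕ) (C : CochainComplex A ℕ) {Y : A} (ι : Y ⟶ C.X 0) : Prop where
  mono : Mono ι
  w : ι ≫ C.d 0 1 = 0
  exact₀ : (ShortComplex.mk ι (C.d 0 1) w).Exact
  exact (j : ℕ) : (ShortComplex.mk (C.d j (j + 1)) (C.d (j + 1) (j + 2)) (C.d_comp_d _ _ _)).Exact
  mem (j : ℕ) (hj : j < m) : P (C.X j)
  isZero (j : ℕ) (hj : m < j) : IsZero (C.X j)

/-- the objects `Y` such that the last term of any good coresolution of length `m` lies in `P` -/
def E (m : ℕ) : ObjectProperty A := fun Y =>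
  ∀ (C : CochainComplex A ℕ) (ι : Y ⟶ C.X 0), GoodCores P m C ι → P (C.X m)

variable {P}

lemma E_of_h3 (n : ℕ) (hn : 1 ≤ n)
    (h3 : ∀ K : CochainComplex A ℕ, (∀ i : ℕ, 1 ≤ i → i ≤ n → K.ExactAt i) →
      (∀ i : ℕ, n < i → IsZero (K.X i)) →
      Epi (K.d (n - 1) n) → (∀ i : ℕ, i < n → P (K.X i)) → P (K.X n)) (Y : A) : E P n Y := by
  intro C ι h
  obtain ⟨k, rfl⟩ : ∃ k, n = k + 1 := ⟨n - 1, by omega⟩
  refine h3 C (fun i hi _ => ?_) h.isZero ?_ h.mem
  · obtain ⟨j, rfl⟩ : ∃ j, i = j + 1 := ⟨i - 1, by omega⟩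
    rw [HomologicalComplex.exactAt_iff' C j (j + 1) (j + 2) (by simp) (by simp)]
    exact h.exact j
  · have := h.exact k
    exact this.epi_f ((h.isZero (k + 2) (by omega)).eq_of_tgt _ _)

lemma P_of_E_zero (hP_iso : ∀ ⦃X Y : A⦄, (X ≅ Y) → P X → P Y) (Y : A) (hY : E P 0 Y) : P Y := by
  let C : CochainComplex A ℕ := (CochainComplex.single₀ A).obj Y
  let e : C.X 0 ≅ Y := HomologicalComplex.singleObjXSelf (ComplexShape.up ℕ) 0 Y
  have hz : ∀ j, 0 < j → IsZero (C.X j) := fun j hj =>
    HomologicalComplex.isZero_single_obj_X (ComplexShape.up ℕ) 0 Y j (by omega)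
  refine hP_iso e (hY C e.inv ?_)
  exact
    { mono := inferInstance
      w := (hz 1 (by omega)).eq_of_tgt _ _
      exact₀ := by
        rw [ShortComplex.exact_iff_epi _ ((hz 1 (by omega)).eq_of_tgt _ _)]
        dsimp
        infer_instance
      exact := fun j => ShortComplex.exact_of_isZero_X₂ _ (hz (j + 1) (by omega))
      mem := fun j hj => by omega
      isZero := hz }

lemma E_peel (m : ℕ) (S : ShortComplex A) (hS : S.ShortExact) (h₁ : E P (m + 1) S.X₁)
    (h₂ : P S.X₂) : E P m S.X₃ := by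
  intro C' ι' h'
  have := hS.mono_f
  have := hS.epi_g
  have := h'.mono
  have w : (S.g ≫ ι') ≫ C'.d 0 1 = 0 := by rw [Category.assoc, h'.w, comp_zero]
  let C : CochainComplex A ℕ := C'.augment (S.g ≫ ι') w
  have hC : GoodCores P (m + 1) C (S.f : S.X₁ ⟶ C.X 0) :=
    { mono := hS.mono_f
      w := by
        change S.f ≫ (S.g ≫ ι') = 0
        rw [S.zero_assoc, zero_comp]
      exact₀ := by
        rw [ShortComplex.exact_iff_exact_up_to_refinements]
        intro T x hx
        change x ≫ (S.g ≫ ι') = 0 at hx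
        have hx' : x ≫ S.g = 0 := by
          rw [← cancel_mono ι', Category.assoc, hx, zero_comp]
        exact ⟨T, 𝟙 _, inferInstance, hS.exact.lift x hx', by
          rw [Category.id_comp]
          exact (hS.exact.lift_f x hx').symm⟩
      exact := fun j => by
        cases j with
        | zero =>
          rw [ShortComplex.exact_iff_exact_up_to_refinements]
          intro T x hx
          change T ⟶ C'.X 0 at x
          change x ≫ C'.d 0 1 = 0 at hx
          obtain ⟨y, hy⟩ : ∃ y : T ⟶ S.X₃, y ≫ ι' = x := ⟨h'.exact₀.lift x hx, h'.exact₀.lift_f x hx⟩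
          obtain ⟨T', π, hπ, z, hz⟩ := surjective_up_to_refinements_of_epi S.g y
          refine ⟨T', π, hπ, z, ?_⟩
          change π ≫ x = z ≫ (S.g ≫ ι')
          rw [← hy, reassoc_of% hz]
        | succ j => exact h'.exact j
      mem := fun j hj => by
        cases j with
        | zero => exact h₂
        | succ j => exact h'.mem j (by omega)
      isZero := fun j hj => by
        cases j with
        | zero => omega
        | succ j => exact h'.isZero j (by omega) }
  exact h₁ C S.f hC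

section

variable (h1 : ∀ X : A, ∃ (Y : A) (i : X ⟶ Y), P Y ∧ Mono i)
  (h2 : ∀ S : ShortComplex A, S.ShortExact → P S.X₁ → (P S.X₂ ↔ P S.X₃))

include h1 h2

open ZeroObject in
lemma P_zero : P (0 : A) := by
  obtain ⟨Y, -, hY, -⟩ := h1 0
  let S : ShortComplex A := ShortComplex.mk (𝟙 Y) (0 : Y ⟶ 0) (by simp)
  have hS : S.ShortExact := ShortComplex.ShortExact.mk'
    ((ShortComplex.exact_iff_epi _ rfl).2 (by dsimp [S]; infer_instance))
    (by dsimp [S]; infer_instance) (by dsimp [S]; infer_instance)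
  exact (h2 S hS hY).1 hY

open ZeroObject in
lemma P_iso ⦃X Y : A⦄ (e : X ≅ Y) (hX : P X) : P Y := by
  let S : ShortComplex A := ShortComplex.mk (0 : 0 ⟶ X) e.hom (by simp)
  have hS : S.ShortExact := ShortComplex.ShortExact.mk'
    ((ShortComplex.exact_iff_mono _ rfl).2 (by dsimp [S]; infer_instance))
    (by dsimp [S]; infer_instance) (by dsimp [S]; infer_instance)
  exact (h2 S hS (P_zero h1 h2)).1 hX

lemma P_biprod (X Y : A) (hX : P X) (hY : P Y) : P (X ⊞ Y) := by
  let S : ShortComplex A := ShortComplex.mk (biprod.inl : X ⟶ X ⊞ Y) biprod.snd (by simp)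
  have hS : S.ShortExact := (ShortComplex.Splitting.ofHasBinaryBiproduct X Y).shortExact
  exact (h2 S hS hX).2 hY

theorem exists_quasiIso (n : ℕ) (hn : 1 ≤ n)
    (h3 : ∀ K : CochainComplex A ℕ, (∀ i : ℕ, 1 ≤ i → i ≤ n → K.ExactAt i) →
      (∀ i : ℕ, n < i → IsZero (K.X i)) →
      Epi (K.d (n - 1) n) → (∀ i : ℕ, i < n → P (K.X i)) → P (K.X n))
    (X : CochainComplex A ℤ) :
    ∃ (I : CochainComplex A ℤ) (f : X ⟶ I), QuasiIso f ∧ ∀ k : ℤ, P (I.X k) :=
  Groth.Agent.H5.PRes.exists_resolution P (E P) (P_iso h1 h2) (P_biprod h1 h2) h1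
    (P_of_E_zero (P_iso h1 h2)) E_peel n X (fun p => E_of_h3 n hn h3 (X.X p))

end

end Groth.Agent.H5.PResDim
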