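import Mathlib
import Groth.Agent.H5.SpreadPerfect
import Groth.Agent.H5.FiniteTorDimCx
import Groth.Agent.H5.PerfectIff

/-!
# A pseudo-coherent complex, bounded below, whose stalks have finite tor amplitude is perfect
-/

set_option autoImplicit false
universe u
open CategoryTheory CategoryTheory.Limits AlgebraicGeometry

attribute [local instance] HasDerivedCategory.standard

namespace Groth.Agent.H5.PerfectOfStalks

open Groth.Agent.H5.PerfectTriangle Groth.Agent.H5.PCAlong Groth.Agent.H5.Stalk
  Groth.Agent.H5.StalkTorAmp DerivedCategory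

/-- exact functors preserve the vanishing of cohomology in high degrees -/
lemma isLE_map {A B : Type*} [Category A] [Abelian A] [Category B] [Abelian B]
    [HasDerivedCategory A] [HasDerivedCategory B]
    (R : A ⥤ B) [R.Additive] [PreservesFiniteLimits R] [PreservesFiniteColimits R]
    (K : CochainComplex A ℤ) (a : ℤ) (h : (DerivedCategory.Q.obj K).IsLE a) :
    CochainComplex.IsLE ((R.mapHomologicalComplex (ComplexShape.up ℤ)).obj K) a := by
  rw [← DerivedCategory.isLE_Q_obj_iff, DerivedCategory.isLE_iff]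
  intro i hi
  have h1 : IsZero ((DerivedCategory.homologyFunctor A i).obj (DerivedCategory.Q.obj K)) :=
    (DerivedCategory.isLE_iff _ a).1 h i hi
  exact (R.map_isZero h1).of_iso
    ((DerivedCategory.homologyFunctor _ i).mapIso (R.mapDerivedCategoryFactors.app K).symm ≪≫
      (Groth.Agent.H16.ExactDer.homologyNatIso R i).app (DerivedCategory.Q.obj K))

variable {X : Scheme.{u}}

/-- **Perfection from stalks.** -/
theorem isPerfect_of_pseudoCoherent_of_stalks (F : CochainComplex X.Modules ℤ) (c : ℤ)
    [hc : (DCoh.toD X F).IsGE c]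
    (hpc : ∀ m : ℤ, DCoh.IsPseudoCoherentD m (DCoh.toD X F))
    (htor : ∀ x : X, ∃ a b : ℤ, DRing.HasTorAmplitudeIn (X.presheaf.stalk x) a b
      (DRing.toD ((sCx x).obj F))) :
    DCoh.IsPerfect (DCoh.toD X F) := by
  refine isPerfect_of_isSPAlong (Iso.refl _) (fun x => ?_)
  obtain ⟨a, b, h⟩ := htor x
  have h' := FiniteTorDimCx.hasTorAmplitudeIn_mono _ (min_le_left a c) le_rfl h
  have hGE : (DCoh.toD X F).IsGE (min a c) :=
    TStructure.t.isGE_of_ge _ (min a c) c (min_le_right a c)
  exact SpreadPerfect.exists_isSPAlong_of_stalk F (min a c) b x hGE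
    ((isPseudoCoherentD_iff (Iso.refl _) (min a c - 1)).1 (hpc _) x) h'

/-- pseudo-coherent ⟺ perfect for bounded complexes when all modules over all local rings
have finite tor dimension -/
theorem isPseudoCoherentD_iff_isPerfect
    (hX : ∀ (x : X) (M : Type u) [AddCommGroup M] [Module (X.presheaf.stalk x) M],
      DRing.HasFiniteTorDim (X.presheaf.stalk x) M)
    (F : CochainComplex X.Modules ℤ) (c d : ℤ) [hc : (DCoh.toD X F).IsGE c]
    [hd : (DCoh.toD X F).IsLE d] :
    (∀ m : ℤ, DCoh.IsPseudoCoherentD m (DCoh.toD X F)) ↔ DCoh.IsPerfect (DCoh.toD X F) := by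
  constructor
  · intro hpc
    refine isPerfect_of_pseudoCoherent_of_stalks F c hpc (fun x => ?_)
    have h1 : (Q.obj ((sCx x).obj F)).IsGE c := by
      rw [DerivedCategory.isGE_Q_obj_iff]
      exact SpreadPerfect.isGE_map (stalkFunctor x) F c hc
    have h2 : (Q.obj ((sCx x).obj F)).IsLE d := by
      rw [DerivedCategory.isLE_Q_obj_iff]
      exact isLE_map (stalkFunctor x) F d hd
    obtain ⟨a, -, h⟩ := FiniteTorDimCx.exists_hasTorAmplitudeIn (hX x) (d - c + 1).toNat
      (Q.obj ((sCx x).obj F)) c d (by omega) h1 h2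
    exact ⟨a, d, h⟩
  · intro h m
    exact PerfectIff.isPseudoCoherentD_of_isPerfect _ h m

end Groth.Agent.H5.PerfectOfStalks
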