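import Groth.Agent.H5.FlatTor
import Groth.Agent.H5.TensorUnit
import Mathlib.Algebra.Homology.Embedding.CochainComplex

/-!
# Tor amplitude implies flat amplitude on schemes
-/

set_option autoImplicit false
universe u
open CategoryTheory CategoryTheory.Limits AlgebraicGeometry ZeroObject

attribute [local instance] HasDerivedCategory.standard

namespace Groth.Agent.H5.TorAmpFlat

open KFlatScheme FlatTor

variable {X : Scheme.{u}}

/-- `F ⊗ O_X ≅ F`, naturally in `F`. -/
noncomputable def tensorRightModUnitIso :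
    DCoh.tensorRightMod (Coh.structureModule X) ≅ 𝟭 X.Modules :=
  tensorRightModIso (Coh.structureModule X) ≪≫ TensorUnit.tensorRightUnitIso X.sheaf

/-- For a K-flat complex `P`, the cohomology of `P ⊗^L O_X` is that of `P`. -/
noncomputable def HDLTensorModUnitIso [DCoh.HasLTensorMod (Coh.structureModule X)]
    (P : CochainComplex X.Modules ℤ) (hP : DCoh.IsKFlat P) (j : ℤ) :
    DCoh.HD ((DCoh.LTensorMod (Coh.structureModule X)).obj (DCoh.toD X P)) j ≅ P.homology j :=
  FlatCokerScheme.HDLTensorModIso (Coh.structureModule X) P hP j ≪≫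
    (HomologicalComplex.homologyFunctor _ _ j).mapIso
      ((NatIso.mapHomologicalComplex tensorRightModUnitIso (ComplexShape.up ℤ)).app P ≪≫
        (Functor.mapHomologicalComplexIdIso _ _).app P)

/-- Tor amplitude in `[a, b]` implies flat amplitude in `[a, b]`. -/
theorem hasFlatAmplitudeIn_of_hasTorAmplitudeIn (E : DCoh.D X) (a b : ℤ) (hab : a ≤ b)
    (hL : ∀ G : X.Modules, DCoh.HasLTensorMod G) (hE : DCoh.HasTorAmplitudeIn a b E) :
    DCoh.HasFlatAmplitudeIn a b E := by
  -- Step 1: a K-flat representative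
  let K := DerivedCategory.Q.objPreimage E
  have eK : DCoh.toD X K ≅ E := DerivedCategory.Q.objObjPreimageIso E
  obtain ⟨P, q, hP, hq⟩ := (hyp (X := X)).res K
  have : IsIso (DerivedCategory.Q.map q) := by
    rw [DerivedCategory.isIso_Q_map_iff_quasiIso]
    exact hq
  let eP : DCoh.toD X P ≅ E := asIso (DerivedCategory.Q.map q) ≪≫ eK
  haveI := hL (Coh.structureModule X)
  -- Step 2: the cohomology of `P` vanishes outside `[a, b]`
  have hPhom : ∀ i : ℤ, (i < a ∨ b < i) → IsZero (P.homology i) := fun i hi =>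
    ((hE _ i hi).of_iso ((DerivedCategory.homologyFunctor X.Modules i).mapIso
      ((DCoh.LTensorMod (Coh.structureModule X)).mapIso eP))).of_iso
        (HDLTensorModUnitIso P hP i).symm
  -- Step 3: a bounded above flat representative
  haveI : P.IsLE b := (P.isLE_iff b).2 (fun i hi =>
    (HomologicalComplex.exactAt_iff_isZero_homology _ _).2 (hPhom i (Or.inr hi)))
  obtain ⟨B, f, hB, hflat, hf⟩ := exists_flat_resolution (P.truncLE b) b
  let g : B ⟶ P := f ≫ P.ιTruncLE b
  have hg : QuasiIso g := inferInstance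
  have : IsIso (DerivedCategory.Q.map g) := by
    rw [DerivedCategory.isIso_Q_map_iff_quasiIso]
    exact hg
  let eB : DCoh.toD X B ≅ E := asIso (DerivedCategory.Q.map g) ≪≫ eP
  -- Step 4: the cokernel is flat
  have hM := FlatCokerScheme.isFlat_cokernel_d_of_isZero_HD B b hB hflat hL (a - 1) a (by lia)
    (fun G _ => (hE G (a - 1) (Or.inl (by lia))).of_iso
      ((DerivedCategory.homologyFunctor X.Modules (a - 1)).mapIso ((DCoh.LTensorMod G).mapIso eB)))
  -- Step 5: truncate
  haveI : B.IsGE a := (B.isGE_iff a).2 (fun i hi => by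
    rw [HomologicalComplex.exactAt_iff_isZero_homology]
    have := hg.quasiIsoAt i
    exact (hPhom i (Or.inl hi)).of_iso (_root_.isoOfQuasiIsoAt g i))
  have : IsIso (DerivedCategory.Q.map (B.πTruncGE a)) := by
    rw [DerivedCategory.isIso_Q_map_iff_quasiIso]
    infer_instance
  refine ⟨B.truncGE a, ?_, ?_, ⟨(asIso (DerivedCategory.Q.map (B.πTruncGE a))).symm ≪≫ eB⟩⟩
  · intro i hi
    rcases hi with hi | hi
    · exact (B.truncGE a).isZero_of_isStrictlyGE a i hi
    · exact (B.isZero_of_isStrictlyLE b i hi).of_iso (B.truncGEXIso a i (by lia))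
  · intro i
    rcases lt_trichotomy i a with h | h | h
    · exact flatMod_of_isZero ((B.truncGE a).isZero_of_isStrictlyGE a i h)
    · subst h
      exact flatMod_of_iso ((cokernelIsCokernel (B.d (i - 1) i)).coconePointUniqueUpToIso
        (B.opcyclesIsCokernel (i - 1) i (by simp)) ≪≫ (B.truncGEXIsoOpcycles i).symm) hM
    · exact flatMod_of_iso (B.truncGEXIso a i h).symm (hflat i)

end Groth.Agent.H5.TorAmpFlat
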