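import Groth.Agent.H5.PerfectIff
import Groth.Agent.H5.PCSummand
import Groth.Agent.H5.TorAmpFlat

/-!
# Direct summands of perfect objects are perfect
-/

set_option autoImplicit false
universe u
open CategoryTheory CategoryTheory.Limits AlgebraicGeometry ZeroObject HomologicalComplex
  Pretriangulated

attribute [local instance] HasDerivedCategory.standard

namespace Groth.Agent.H5.PerfectSummand

open CochainComplex Scheme.Modules Groth.Agent.H5.Approx Groth.Agent.H5.PerfectTriangle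
  Groth.Agent.H5.PCAlong Groth.Agent.H5.PCTriangle

variable {X : Scheme.{u}}

/-- an object which is a retract of `Q E` with `E` strictly perfect in `[a, b]` has flat amplitude in
`[a, b]` -/
theorem hasFlatAmplitudeIn_of_retract {V : Scheme.{u}} (E' : CochainComplex V.Modules ℤ)
    (hE' : DCoh.IsStrictlyPerfect E') (a b : ℤ) (hab : a ≤ b) (hv : DCoh.VanishesOutside E' a b)
    (T : DCoh.D V) (s : T ⟶ DerivedCategory.Q.obj E') (r : DerivedCategory.Q.obj E' ⟶ T)
    (hsr : s ≫ r = 𝟙 T) : DCoh.HasFlatAmplitudeIn a b T := by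
  refine TorAmpFlat.hasFlatAmplitudeIn_of_hasTorAmplitudeIn T a b hab
    (fun G => KFlatScheme.hasLTensorMod G) ?_
  intro G _ j hj
  have hK : DCoh.IsKFlat E' := (PerfectPull.kfl_of_isStrictlyPerfect E' hE').1
  have hz : IsZero (DCoh.HD ((DCoh.LTensorMod G).obj (DCoh.toD V E')) j) := by
    refine IsZero.of_iso ?_ (FlatCokerScheme.HDLTensorModIso G E' hK j)
    rw [← HomologicalComplex.exactAt_iff_isZero_homology]
    exact HomologicalComplex.ExactAt.of_isZero ((DCoh.tensorRightMod G).map_isZero (hv j hj))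
  let Φ := DCoh.LTensorMod G ⋙ DerivedCategory.homologyFunctor V.Modules j
  have h0 : Φ.map s = 0 := hz.eq_of_tgt _ _
  have h1 : 𝟙 (Φ.obj T) = Φ.map s ≫ Φ.map r := by
    rw [← Φ.map_comp, hsr, Φ.map_id]
  change IsZero (Φ.obj T)
  rw [IsZero.iff_id_eq_zero, h1, h0, zero_comp]

theorem locHasFiniteTorDim_of_retract {K A : DCoh.D X} (s : K ⟶ A) (r : A ⟶ K)
    (hsr : s ≫ r = 𝟙 K) (hA : DCoh.IsPerfect A) : DCoh.LocHasFiniteTorDim K := by
  obtain ⟨MA, ⟨eA⟩⟩ : ∃ M : CochainComplex X.Modules ℤ, Nonempty (DerivedCategory.Q.obj M ≅ A) :=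
    ⟨_, ⟨DerivedCategory.Q.objObjPreimageIso A⟩⟩
  intro x
  obtain ⟨V, hxV, hV⟩ := hA x
  obtain ⟨E', ⟨⟨a, b, hab⟩, hfl⟩, ⟨i⟩⟩ := hV MA ⟨eA⟩
  refine ⟨V, a, max a b, hxV, fun F' ⟨eF'⟩ => ?_⟩
  let R := restrictFunctor V.ι
  let s' : DerivedCategory.Q.obj ((DCoh.restrictCx V).obj F') ⟶ DerivedCategory.Q.obj E' :=
    R.mapDerivedCategoryFactors.inv.app F' ≫ R.mapDerivedCategory.map (eF'.hom ≫ s ≫ eA.inv) ≫
      R.mapDerivedCategoryFactors.hom.app MA ≫ i.hom
  let r' : DerivedCategory.Q.obj E' ⟶ DerivedCategory.Q.obj ((DCoh.restrictCx V).obj F') :=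
    i.inv ≫ R.mapDerivedCategoryFactors.inv.app MA ≫
      R.mapDerivedCategory.map (eA.hom ≫ r ≫ eF'.inv) ≫ R.mapDerivedCategoryFactors.hom.app F'
  have hsr' : s' ≫ r' = 𝟙 _ := by
    have h2 : (eF'.hom ≫ s ≫ eA.inv) ≫ (eA.hom ≫ r ≫ eF'.inv) = 𝟙 _ := by
      simp [reassoc_of% hsr]
    simp only [s', r', Category.assoc, Iso.hom_inv_id_assoc, Iso.hom_inv_id_app_assoc]
    rw [← Functor.map_comp_assoc, h2, CategoryTheory.Functor.map_id, Category.id_comp]
    exact Iso.inv_hom_id_app _ _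
  exact hasFlatAmplitudeIn_of_retract E' ⟨⟨a, b, hab⟩, hfl⟩ a (max a b) (le_max_left _ _)
    (fun j hj => hab j (hj.imp id (fun h => lt_of_le_of_lt (le_max_right _ _) h))) _ s' r' hsr'

theorem isPerfect_fst (K L : DCoh.D X) (h : DCoh.IsPerfect (K ⊞ L)) : DCoh.IsPerfect K := by
  refine PerfectIff.isPerfect_of_pc_of_locFiniteTorDim K (fun m => ?_) ?_
  · exact (PCSummand.summands m K L (PerfectIff.isPseudoCoherentD_of_isPerfect _ h m)).1
  · exact locHasFiniteTorDim_of_retract (biprod.inl : K ⟶ K ⊞ L) biprod.fst (by simp) h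

theorem summands (K L : DCoh.D X) (h : DCoh.IsPerfect (K ⊞ L)) :
    DCoh.IsPerfect K ∧ DCoh.IsPerfect L :=
  ⟨isPerfect_fst K L h, isPerfect_fst L K (isPerfect_of_iso (biprod.braiding K L) h)⟩

end Groth.Agent.H5.PerfectSummand
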