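import Mathlib.CategoryTheory.Triangulated.Triangulated
import Mathlib.Algebra.Homology.HomologicalComplex

/-!
# Postnikov systems in triangulated categories
-/

set_option autoImplicit false
universe v u
open CategoryTheory CategoryTheory.Limits Pretriangulated ZeroObject

namespace Groth.Agent.H5.Postnikov

variable {D : Type u} [Category.{v} D] [Preadditive D] [HasZeroObject D] [HasShift D ℤ]
  [∀ n : ℤ, (shiftFunctor D n).Additive] [Pretriangulated D]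

/-- dévissage: in a triangle `Y' ⟶ X' ⟶ Y ⟶ Y'[1]`, a map `g : W ⟶ Y'` killed by `Y' ⟶ X'` is zero
if all maps `W[1] ⟶ Y` vanish. -/
lemma eq_zero_of_comp_eq_zero {Y' X' Y : D} {a : Y' ⟶ X'} {b : X' ⟶ Y} {c : Y ⟶ Y'⟦(1 : ℤ)⟧}
    (hT : Triangle.mk a b c ∈ distTriang D) {W : D} (g : W ⟶ Y') (hg : g ≫ a = 0)
    (hW : ∀ t : W⟦(1 : ℤ)⟧ ⟶ Y, t = 0) : g = 0 := by
  obtain ⟨t, ht⟩ : ∃ t : W⟦(1 : ℤ)⟧ ⟶ Y, g⟦(1 : ℤ)⟧' = t ≫ c :=
    Triangle.coyoneda_exact₁ _ hT (g⟦(1 : ℤ)⟧')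
      (by change g⟦(1 : ℤ)⟧' ≫ a⟦(1 : ℤ)⟧' = 0; rw [← Functor.map_comp, hg, Functor.map_zero])
  rw [hW t, zero_comp] at ht
  exact (shiftFunctor D (1 : ℤ)).map_injective (by rw [ht, Functor.map_zero])

lemma van_shift {W Y : D} (s s' : ℤ) (h : s + 1 = s') (H : ∀ φ : W⟦s'⟧ ⟶ Y, φ = 0) :
    ∀ t : (W⟦s⟧)⟦(1 : ℤ)⟧ ⟶ Y, t = 0 := by
  intro t
  have h1 := H (((shiftFunctorAdd' D s 1 s' h).app W).hom ≫ t)
  rw [← cancel_epi ((shiftFunctorAdd' D s 1 s' h).app W).hom, h1, comp_zero]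

lemma van_cast {W Y : D} (s s' : ℤ) (h : s = s') (H : ∀ φ : W⟦s⟧ ⟶ Y, φ = 0) :
    ∀ φ : W⟦s'⟧ ⟶ Y, φ = 0 := by
  subst h
  exact H

variable (X : ChainComplex D ℕ) (n : ℕ)

/-- data at stage `k` of the construction -/
structure Stage (k : ℕ) where
  /-- the object `Y_k` -/
  Y : D
  /-- the map `Y_k ⟶ X_k` -/
  a : Y ⟶ X.X k
  van : ∀ i : ℕ, k + 2 < i → i ≤ n → ∀ φ : (X.X i)⟦(i : ℤ) - k - 2⟧ ⟶ Y, φ = 0
  lift : k + 1 ≤ n → ∃ b : X.X (k + 1) ⟶ Y, b ≫ a = X.d (k + 1) k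
  inj : k + 2 ≤ n → ∀ g : X.X (k + 2) ⟶ Y, g ≫ a = 0 → g = 0

variable (hX : ∀ i j : ℕ, j + 2 < i → i ≤ n →
  ∀ φ : (shiftFunctor D ((i : ℤ) - j - 2)).obj (X.X i) ⟶ X.X j, φ = 0)

/-- the initial stage -/
def stageZero : Stage X n 0 where
  Y := X.X 0
  a := 𝟙 _
  van := fun i hi hin φ => hX i 0 hi hin φ
  lift := fun _ => ⟨X.d 1 0, Category.comp_id _⟩
  inj := fun _ g hg => by rwa [Category.comp_id] at hg

include hX in
lemma step {k : ℕ} (S : Stage X n k) (hk : k + 1 ≤ n) :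
    ∃ (S' : Stage X n (k + 1)) (b : X.X (k + 1) ⟶ S.Y) (c : S.Y ⟶ (S'.Y)⟦(1 : ℤ)⟧),
      Triangle.mk S'.a b c ∈ distTriang D ∧ b ≫ S.a = X.d (k + 1) k := by
  obtain ⟨b, hb⟩ := S.lift hk
  obtain ⟨Y', a', c, hT⟩ := distinguished_cocone_triangle₁ b
  refine ⟨{ Y := Y', a := a', van := ?_, lift := ?_, inj := ?_ }, b, c, hT, hb⟩
  · intro i hi hin φ
    refine eq_zero_of_comp_eq_zero hT φ (hX i (k + 1) hi hin _) ?_
    refine van_shift _ _ ?_ (S.van i (by omega) hin)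
    push_cast
    omega
  · intro hk2
    have h0 : X.d (k + 1 + 1) (k + 1) ≫ b = 0 :=
      S.inj hk2 _ (by rw [Category.assoc, hb, X.d_comp_d])
    obtain ⟨g, hg⟩ : ∃ g : X.X (k + 1 + 1) ⟶ Y', X.d (k + 1 + 1) (k + 1) = g ≫ a' :=
      Triangle.coyoneda_exact₂ _ hT _ h0
    exact ⟨g, hg.symm⟩
  · intro hk3 g hg
    refine eq_zero_of_comp_eq_zero hT g hg ?_
    refine van_cast _ _ ?_ (S.van (k + 1 + 2) (by omega) hk3)
    push_cast
    omega

/-- the data produced by one step of the construction (junk when `n < k + 1`). -/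
structure StepData {k : ℕ} (S : Stage X n k) where
  /-- the next stage -/
  S' : Stage X n (k + 1)
  /-- the map `X_{k+1} ⟶ Y_k` -/
  b : X.X (k + 1) ⟶ S.Y
  /-- the connecting map -/
  c : S.Y ⟶ (S'.Y)⟦(1 : ℤ)⟧
  prop : k + 1 ≤ n → Triangle.mk S'.a b c ∈ distTriang D ∧ b ≫ S.a = X.d (k + 1) k

include hX in
lemma nonempty_stepData {k : ℕ} (S : Stage X n k) : Nonempty (StepData X n S) := by
  by_cases hk : k + 1 ≤ n
  · obtain ⟨S', b, c, h⟩ := step X n hX S hk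
    exact ⟨{ S' := S', b := b, c := c, prop := fun _ => h }⟩
  · exact ⟨{ S' := { Y := 0, a := 0
                     van := fun i hi hin _ => by omega
                     lift := fun h => by omega
                     inj := fun h => by omega }
             b := 0
             c := 0
             prop := fun h => absurd h hk }⟩

/-- all the stages -/
noncomputable def stage : ∀ k : ℕ, Stage X n k
  | 0 => stageZero X n hX
  | k + 1 => (Classical.choice (nonempty_stepData X n hX (stage k))).S'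

/-- the step data at all stages -/
noncomputable def stepData (k : ℕ) : StepData X n (stage X n hX k) :=
  Classical.choice (nonempty_stepData X n hX (stage X n hX k))

lemma stage_succ (k : ℕ) : stage X n hX (k + 1) = (stepData X n hX k).S' := rfl

lemma stage_zero_a : (stage X n hX 0).a = 𝟙 (X.X 0) := rfl

end Groth.Agent.H5.Postnikov
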