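import Groth.Agent.H5.ProjFormulaIso
import Groth.Agent.H5.PullbackTensorCx

/-!
# The projection formula for complexes, for a closed immersion
-/

set_option autoImplicit false
universe u
open CategoryTheory CategoryTheory.Limits AlgebraicGeometry TopologicalSpace Opposite
  Groth.Agent.H35.TotalMap Groth.Agent.H5.Stalk

namespace Groth.Agent.H5.ProjFormula

open Groth.Agent.H5.PullbackTensor

variable {X Y : Scheme.{u}} (f : X ⟶ Y) (M : CochainComplex X.Modules ℤ)
  (P : CochainComplex Y.Modules ℤ)

/-- termwise pushforward of a complex -/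
noncomputable abbrev pushCx (M : CochainComplex X.Modules ℤ) : CochainComplex Y.Modules ℤ :=
  ((Scheme.Modules.pushforward f).mapHomologicalComplex (ComplexShape.up ℤ)).obj M

lemma π_naturality_left {A A' : X.Modules} (g : A ⟶ A') (B : Y.Modules) :
    (DCoh.tensorBi.map ((Scheme.Modules.pushforward f).map g)).app B ≫ π f A' B =
      π f A B ≫ (Scheme.Modules.pushforward f).map
        ((DCoh.tensorBi.map g).app ((Scheme.Modules.pullback f).obj B)) := by
  have h := π_naturality f g (𝟙 B)
  rw [CategoryTheory.Functor.map_id] at h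
  rw [KoszTw.tensorBi_map_app, KoszTw.tensorBi_map_app]
  exact h

lemma π_naturality_right (A : X.Modules) {B B' : Y.Modules} (h : B ⟶ B') :
    (DCoh.tensorBi.obj ((Scheme.Modules.pushforward f).obj A)).map h ≫ π f A B' =
      π f A B ≫ (Scheme.Modules.pushforward f).map
        ((DCoh.tensorBi.obj A).map ((Scheme.Modules.pullback f).map h)) := by
  have h' := π_naturality f (𝟙 A) h
  rw [CategoryTheory.Functor.map_id] at h'
  rw [KoszTw.tensorBi_obj_map, KoszTw.tensorBi_obj_map]
  exact h'

/-- the comparison of bicomplexes -/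
noncomputable def πc : bic (pushCx f M) P ⟶
    mapBicomplex (bic M (pullCx f P)) (Scheme.Modules.pushforward f) :=
  HomologicalComplex₂.homMk (fun ⟨p, q⟩ => π f (M.X p) (P.X q))
    (fun p p' q _ => (π_naturality_left f (M.d p p') (P.X q)).symm)
    (fun p q q' _ => (π_naturality_right f (M.X p) (P.d q q')).symm)

variable [IsClosedImmersion f]

instance isIso_πc : IsIso (πc f M P) := by
  have : ∀ p, IsIso ((πc f M P).f p) := fun p => by
    have : ∀ q, IsIso (((πc f M P).f p).f q) := fun q => by
      change IsIso (π f (M.X p) (P.X q))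
      infer_instance
    exact HomologicalComplex.Hom.isIso_of_components _
  exact HomologicalComplex.Hom.isIso_of_components _

/-- `f_*M ⊗ P ≅ f_*(M ⊗ f^*P)` for complexes, `f` a closed immersion -/
noncomputable def pushTotIso :
    (DCoh.tensorCx.obj (pushCx f M)).obj P ≅
      pushCx f ((DCoh.tensorCx.obj M).obj (pullCx f P)) :=
  HomologicalComplex₂.total.mapIso (asIso (πc f M P)) (ComplexShape.up ℤ) ≪≫
    (totalMapIso (bic M (pullCx f P)) (ComplexShape.up ℤ) (Scheme.Modules.pushforward f)).symm

end Groth.Agent.H5.ProjFormula
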