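import Groth.Agent.H5.PerfectPull
import Groth.Agent.H5.LpullTri

/-!
# The derived pullback of a pseudo-coherent complex is pseudo-coherent
-/

set_option autoImplicit false
universe u
open CategoryTheory CategoryTheory.Limits AlgebraicGeometry ZeroObject

attribute [local instance] HasDerivedCategory.standard

namespace Groth.Agent.H5.PseudoCohPull

open Lpull FlatTor KFlatScheme PerfectPull

variable {X Y : Scheme.{u}}

/-- Local description of `Lf^* E₀` over `f⁻¹ V`: for any complex `F` representing `Lf^* E₀`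
there is a complex `P` representing `E₀` with `P|_V` K-flat with flat terms and
`F|_{f⁻¹V} ≅ L(f|_V)^* (P|_V)`. -/
theorem exists_local_data (f : X ⟶ Y) [DCoh.HasLpull f] (E₀ : DCoh.D Y) (V : Y.Opens)
    [DCoh.HasLpull (f ∣_ V)]
    (F : CochainComplex X.Modules ℤ) (eF : DCoh.toD X F ≅ (DCoh.Lpull f).obj E₀) :
    ∃ (P : CochainComplex Y.Modules ℤ) (_ : DCoh.toD Y P ≅ E₀)
      (_ : kfl ((DCoh.restrictCx V).obj P)),
      Nonempty (DerivedCategory.Q.obj ((DCoh.restrictCx (f ⁻¹ᵁ V)).obj F) ≅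
        (DCoh.Lpull (f ∣_ V)).obj (DerivedCategory.Q.obj ((DCoh.restrictCx V).obj P))) := by
  obtain ⟨G, ⟨eG⟩⟩ : ∃ G : CochainComplex Y.Modules ℤ, Nonempty (DerivedCategory.Q.obj G ≅ E₀) :=
    ⟨_, ⟨DerivedCategory.Q.objObjPreimageIso E₀⟩⟩
  obtain ⟨P, q, hq, hP, hP'⟩ := LpullComp.exists_resolution V.ι G
  have : IsIso (DerivedCategory.Q.map q) := by
    rw [DerivedCategory.isIso_Q_map_iff_quasiIso]
    exact hq
  let eP : DCoh.toD Y P ≅ E₀ := asIso (DerivedCategory.Q.map q) ≪≫ eG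
  have hPV : kfl ((DCoh.restrictCx V).obj P) :=
    kfl_of_iso ((NatIso.mapHomologicalComplex
      (Scheme.Modules.restrictFunctorIsoPullback V.ι) _).app P).symm hP'
  refine ⟨P, eP, hPV, ⟨?_⟩⟩
  let R := Scheme.Modules.restrictFunctor (f ⁻¹ᵁ V).ι
  let i1 : DerivedCategory.Q.obj ((DCoh.restrictCx (f ⁻¹ᵁ V)).obj F) ≅
      DerivedCategory.Q.obj ((DCoh.restrictCx (f ⁻¹ᵁ V)).obj
        (((Scheme.Modules.pullback f).mapHomologicalComplex (ComplexShape.up ℤ)).obj P)) :=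
    (R.mapDerivedCategoryFactors.app F).symm ≪≫
      R.mapDerivedCategory.mapIso (eF ≪≫ (DCoh.Lpull f).mapIso eP.symm ≪≫ LpullIso f P hP) ≪≫
      R.mapDerivedCategoryFactors.app _
  let i2 : DerivedCategory.Q.obj ((DCoh.restrictCx (f ⁻¹ᵁ V)).obj
        (((Scheme.Modules.pullback f).mapHomologicalComplex (ComplexShape.up ℤ)).obj P)) ≅
      DerivedCategory.Q.obj (((Scheme.Modules.pullback (f ∣_ V)).mapHomologicalComplex
        (ComplexShape.up ℤ)).obj ((DCoh.restrictCx V).obj P)) :=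
    DerivedCategory.Q.mapIso ((NatIso.mapHomologicalComplex (bcIso f V) (ComplexShape.up ℤ)).app P)
  exact i1 ≪≫ i2 ≪≫ (LpullIso (f ∣_ V) _ hPV).symm

/-- The derived pullback of an `m`-pseudo-coherent complex is `m`-pseudo-coherent. -/
theorem isPseudoCoherent_Lpull (f : X ⟶ Y) [DCoh.HasLpull f] (m : ℤ) (E₀ : DCoh.D Y)
    (hE : DCoh.IsPseudoCoherentD m E₀) :
    DCoh.IsPseudoCoherentD m ((DCoh.Lpull f).obj E₀) := by
  intro x
  obtain ⟨V, hxV, hV⟩ := hE (f x)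
  refine ⟨f ⁻¹ᵁ V, hxV, fun F ⟨eF⟩ => ?_⟩
  have := Lpull.hasLpull (f ∣_ V)
  obtain ⟨P, eP, hPV, ⟨j⟩⟩ := exists_local_data f E₀ V F eF
  obtain ⟨E, α, hE, hα₁, hα₂⟩ := hV P ⟨eP⟩
  have hEk := kfl_of_isStrictlyPerfect E hE
  obtain ⟨k₁, k₂⟩ := LpullTri.isIso_homology_Lpull_map (f ∣_ V) α m hα₁ hα₂
  refine ⟨((Scheme.Modules.pullback (f ∣_ V)).mapHomologicalComplex (ComplexShape.up ℤ)).obj E,
    (LpullIso (f ∣_ V) E hEk).inv ≫ (DCoh.Lpull (f ∣_ V)).map α ≫ j.inv,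
    isStrictlyPerfect_pullback _ E hE, fun i hi => ?_, ?_⟩
  · have := k₁ i hi
    rw [Functor.map_comp, Functor.map_comp]
    infer_instance
  · rw [Functor.map_comp, Functor.map_comp]
    infer_instance

end Groth.Agent.H5.PseudoCohPull
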