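import Mathlib.Algebra.Homology.DerivedCategory.RightDerivedFunctorPlus
import Mathlib.Topology.Sheaves.Functors
import Mathlib.Algebra.Category.Grp.FilteredColimits
import Mathlib.Algebra.Category.Grp.Limits
import Mathlib.Algebra.Category.Grp.Colimits

/-!
# Composition of right derived functors on `D⁺` when the first functor preserves injectives
-/

set_option autoImplicit false
universe w₁ w₂ w₃ v₁ v₂ v₃ u₁ u₂ u₃
open CategoryTheory CategoryTheory.Limits

namespace Groth.Agent.H5.RDFComp

variable {A : Type u₁} [Category.{v₁} A] [Abelian A] [HasDerivedCategory.{w₁} A] [EnoughInjectives A]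
  {B : Type u₂} [Category.{v₂} B] [Abelian B] [HasDerivedCategory.{w₂} B] [EnoughInjectives B]
  {C : Type u₃} [Category.{v₃} C] [Abelian C] [HasDerivedCategory.{w₃} C]
  (F : A ⥤ B) [F.Additive] (G : B ⥤ C) [G.Additive] (H : A ⥤ C) [H.Additive] (e : F ⋙ G ≅ H)

/-- the comparison transformation -/
noncomputable def compUnit :
    H.mapHomotopyCategoryPlus ⋙ DerivedCategory.Plus.Qh ⟶
      DerivedCategory.Plus.Qh ⋙ (F.rightDerivedFunctorPlus ⋙ G.rightDerivedFunctorPlus) :=
  Functor.whiskerRight (Functor.mapHomotopyCategoryPlusCompIso e).inv DerivedCategory.Plus.Qh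
    ≫ (Functor.associator _ _ _).hom
    ≫ Functor.whiskerLeft F.mapHomotopyCategoryPlus G.rightDerivedFunctorPlusUnit
    ≫ (Functor.associator _ _ _).inv
    ≫ Functor.whiskerRight F.rightDerivedFunctorPlusUnit G.rightDerivedFunctorPlus
    ≫ (Functor.associator _ _ _).hom

lemma compUnit_app (K : HomotopyCategory.Plus A) :
    (compUnit F G H e).app K =
      DerivedCategory.Plus.Qh.map ((Functor.mapHomotopyCategoryPlusCompIso e).inv.app K) ≫
        G.rightDerivedFunctorPlusUnit.app (F.mapHomotopyCategoryPlus.obj K) ≫
        G.rightDerivedFunctorPlus.map (F.rightDerivedFunctorPlusUnit.app K) := by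
  simp [compUnit]

variable (hF : ∀ I : A, Injective I → Injective (F.obj I))

include hF in
lemma isIso_compUnit_app (X₁ : HomotopyCategory.Plus (InjectiveObject A)) :
    IsIso ((compUnit F G H e).app ((InjectiveObject.ι A).mapHomotopyCategoryPlus.obj X₁)) := by
  rw [compUnit_app]
  have : ∀ n : ℤ, Injective ((F.mapHomotopyCategoryPlus.obj
      ((InjectiveObject.ι A).mapHomotopyCategoryPlus.obj X₁)).obj.as.X n) := fun n =>
    hF _ (inferInstanceAs (Injective
      (((InjectiveObject.ι A).mapHomotopyCategoryPlus.obj X₁).obj.as.X n)))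
  infer_instance

include hF in
lemma isRightDerivedFunctor_comp :
    (F.rightDerivedFunctorPlus ⋙ G.rightDerivedFunctorPlus).IsRightDerivedFunctor
      (compUnit F G H e) (HomotopyCategory.Plus.quasiIso A) :=
  (HomotopyCategory.Plus.localizerMorphism_derives
    (H.mapHomotopyCategoryPlus ⋙ DerivedCategory.Plus.Qh)).isRightDerivedFunctor_of_isIso _
      (isIso_compUnit_app F G H e hF)

include e hF in
theorem nonempty_iso :
    Nonempty (F.rightDerivedFunctorPlus ⋙ G.rightDerivedFunctorPlus ≅
      H.rightDerivedFunctorPlus) := by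
  have := isRightDerivedFunctor_comp F G H e hF
  exact ⟨Functor.rightDerivedUnique _ _ (compUnit F G H e) H.rightDerivedFunctorPlusUnit
    (HomotopyCategory.Plus.quasiIso A)⟩

section Leray

variable {F G}

/-- the comparison transformation for `H = F ⋙ G` makes `R⁺F ⋙ R⁺G` a right derived functor as
soon as the unit of `R⁺G` is an isomorphism on the image under `F` of bounded below complexes of
injectives. -/
lemma isRightDerivedFunctor_comp_of_isIso
    (h : ∀ K₁ : CochainComplex.Plus (InjectiveObject A),
      IsIso (G.rightDerivedFunctorPlusUnit.app ((HomotopyCategory.Plus.quotient B).obj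
        (F.mapCochainComplexPlus.obj ((InjectiveObject.ι A).mapCochainComplexPlus.obj K₁))))) :
    (F.rightDerivedFunctorPlus ⋙ G.rightDerivedFunctorPlus).IsRightDerivedFunctor
      (compUnit F G H e) (HomotopyCategory.Plus.quasiIso A) := by
  refine (HomotopyCategory.Plus.localizerMorphism_derives
    (H.mapHomotopyCategoryPlus ⋙ DerivedCategory.Plus.Qh)).isRightDerivedFunctor_of_isIso _
      (fun X₁ => ?_)
  obtain ⟨K₁, rfl⟩ := HomotopyCategory.Plus.quotient_obj_surjective X₁
  have := h K₁
  rw [compUnit_app]
  have h2 : IsIso (G.rightDerivedFunctorPlusUnit.app (F.mapHomotopyCategoryPlus.obj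
      ((InjectiveObject.ι A).mapHomotopyCategoryPlus.obj
        ((HomotopyCategory.Plus.quotient (InjectiveObject A)).obj K₁)))) := this
  infer_instance

end Leray

attribute [local instance] CategoryTheory.Limits.reflectsLimits_of_reflectsIsomorphisms in
/-- inverse image of abelian sheaves on topological spaces is left exact. -/
lemma preservesFiniteLimits_pull {X Y : TopCat.{u₁}} (f : X ⟶ Y) :
    PreservesFiniteLimits (TopCat.Sheaf.pullback AddCommGrpCat.{u₁} f) := by
  apply Functor.sheafPullbackConstruction.preservesFiniteLimits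

end Groth.Agent.H5.RDFComp
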