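import Mathlib
import Groth.Agent.H5.PerfectOfStalks
import Groth.Agent.H35.RegGlDim
import Groth.Agent.H33.PC.NoethPC

/-!
# Bounded complexes with coherent cohomology on a regular locally Noetherian scheme are perfect
-/

set_option autoImplicit false
universe u
open CategoryTheory CategoryTheory.Limits AlgebraicGeometry

attribute [local instance] HasDerivedCategory.standard

namespace Groth.Agent.H5.RegularPerfect

open DerivedCategory

/-- every module over a regular local ring has finite tor dimension -/
theorem hasFiniteTorDim_of_isRegularLocalRing (R : Type u) [CommRing R] [IsRegularLocalRing R]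
    (M : Type u) [AddCommGroup M] [Module R M] : DRing.HasFiniteTorDim R M := by
  obtain ⟨d, hd, -⟩ := Groth.Agent.Lead.RLR.exists_ringKrullDim_eq R
  refine ⟨d, ?_⟩
  intro N _ _ p hp
  have := Groth.Agent.Lead.RLR.hasProjectiveDimensionLT R d hd (ModuleCat.of R N)
  exact ModuleCat.subsingleton_of_isZero
    (Groth.Agent.H72.isZero_leftDerived_of_hasProjectiveDimensionLT
      ((MonoidalCategory.tensoringLeft (ModuleCat.{u} R)).obj (ModuleCat.of R M))
      (ModuleCat.of R N) d p hp)

variable {X : Scheme.{u}}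

lemma isPseudoCoherentD_of_iso {K K' : DCoh.D X} (e : K ≅ K') (m : ℤ)
    (h : DCoh.IsPseudoCoherentD m K) : DCoh.IsPseudoCoherentD m K' := by
  intro x
  obtain ⟨V, hxV, hV⟩ := h x
  exact ⟨V, hxV, fun F ⟨i⟩ => hV F ⟨i ≪≫ e.symm⟩⟩

/-- **Regular schemes**: bounded complexes with coherent cohomology are perfect. -/
theorem isPerfect_of_isCohD [IsLocallyNoetherian X]
    (hreg : ∀ x : X, IsRegularLocalRing (X.presheaf.stalk x))
    (K : DCoh.D X) (a b : ℤ) [ha : K.IsGE a] [hb : K.IsLE b] (hK : DCoh.IsCohD K) :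
    DCoh.IsPerfect K := by
  let F := Q.objPreimage K
  have e : DCoh.toD X F ≅ K := Q.objObjPreimageIso K
  haveI : (DCoh.toD X F).IsGE a := TStructure.t.isGE_of_iso e.symm a
  haveI : (DCoh.toD X F).IsLE b := TStructure.t.isLE_of_iso e.symm b
  have hpc : ∀ m : ℤ, DCoh.IsPseudoCoherentD m (DCoh.toD X F) := fun m =>
    isPseudoCoherentD_of_iso e.symm m
      (Groth.Agent.H33.PC.pc_of_coh_of_isLE (b - m + 1).toNat K b m hb (by omega)
        (fun i _ => hK i))
  have hX : ∀ (x : X) (M : Type u) [AddCommGroup M] [Module (X.presheaf.stalk x) M],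
      DRing.HasFiniteTorDim (X.presheaf.stalk x) M := fun x M _ _ => by
    haveI := hreg x
    exact hasFiniteTorDim_of_isRegularLocalRing _ M
  have h := (PerfectOfStalks.isPseudoCoherentD_iff_isPerfect hX F a b).1 hpc
  exact (PerfectTriangle.isPerfect_iff_of_iso e).2
    ((PerfectTriangle.isPerfect_iff_of_iso (Iso.refl (DCoh.toD X F))).1 h)

end Groth.Agent.H5.RegularPerfect
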