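import Groth.Agent.H5.Stalk.PushClosedColim
import Groth.Prelude.Def_DCoh2

/-!
# `Rf_*` is computed termwise for a closed immersion
-/

set_option autoImplicit false
universe u
open CategoryTheory CategoryTheory.Limits AlgebraicGeometry

attribute [local instance] HasDerivedCategory.standard

namespace Groth.Agent.H5.RpushExact

variable {X Y : Scheme.{u}} (f : X ⟶ Y)

section General

variable [PreservesFiniteLimits (Scheme.Modules.pushforward f)]
  [PreservesFiniteColimits (Scheme.Modules.pushforward f)]

theorem isInvertedBy_pushKh :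
    (HomotopyCategory.quasiIso X.Modules (ComplexShape.up ℤ)).IsInvertedBy (DCoh.pushKh f) := by
  intro K L g hg
  obtain ⟨K, rfl⟩ := HomotopyCategory.quotient_obj_surjective K
  obtain ⟨L, rfl⟩ := HomotopyCategory.quotient_obj_surjective L
  obtain ⟨g, rfl⟩ := (HomotopyCategory.quotient _ _).map_surjective g
  rw [HomotopyCategory.quotient_map_mem_quasiIso_iff] at hg
  have : QuasiIso g := hg
  change IsIso (DerivedCategory.Qh.map
    (((Scheme.Modules.pushforward f).mapHomotopyCategory (ComplexShape.up ℤ)).map
      ((HomotopyCategory.quotient _ _).map g)))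
  have h : ((Scheme.Modules.pushforward f).mapHomotopyCategory (ComplexShape.up ℤ)).map
      ((HomotopyCategory.quotient _ _).map g) =
      (HomotopyCategory.quotient _ _).map
        (((Scheme.Modules.pushforward f).mapHomologicalComplex (ComplexShape.up ℤ)).map g) := rfl
  rw [h]
  have h2 : QuasiIso (((Scheme.Modules.pushforward f).mapHomologicalComplex
      (ComplexShape.up ℤ)).map g) := inferInstance
  exact (DerivedCategory.isIso_Q_map_iff_quasiIso _ _).2 h2

theorem isIso_unit [DCoh.HasRpush f] :
    IsIso ((DCoh.pushKh f).totalRightDerivedUnit DerivedCategory.Qh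
      (HomotopyCategory.quasiIso X.Modules (ComplexShape.up ℤ))) :=
  Functor.isIso_of_isRightDerivedFunctor_of_inverts _ _ (isInvertedBy_pushKh f)

/-- for `f_*` exact, `Rf_* (Q M) ≅ Q (f_* M)` -/
noncomputable def RpushIso [DCoh.HasRpush f] (M : CochainComplex X.Modules ℤ) :
    (DCoh.Rpush f).obj (DerivedCategory.Q.obj M) ≅
      DerivedCategory.Q.obj
        (((Scheme.Modules.pushforward f).mapHomologicalComplex (ComplexShape.up ℤ)).obj M) :=
  haveI := isIso_unit f
  ((asIso ((DCoh.pushKh f).totalRightDerivedUnit DerivedCategory.Qh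
    (HomotopyCategory.quasiIso X.Modules (ComplexShape.up ℤ)))).app
      ((HomotopyCategory.quotient _ _).obj M)).symm

end General

section Closed

variable [IsClosedImmersion f]

/-- for a closed immersion, `Rf_* (Q M) ≅ Q (f_* M)` -/
noncomputable def RpushIsoClosed [DCoh.HasRpush f] (M : CochainComplex X.Modules ℤ) :
    (DCoh.Rpush f).obj (DerivedCategory.Q.obj M) ≅
      DerivedCategory.Q.obj
        (((Scheme.Modules.pushforward f).mapHomologicalComplex (ComplexShape.up ℤ)).obj M) :=
  haveI : PreservesLimitsOfSize.{0, 0} (Scheme.Modules.pushforward f) :=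
    (Scheme.Modules.pullbackPushforwardAdjunction f).rightAdjoint_preservesLimits
  haveI : PreservesFiniteLimits (Scheme.Modules.pushforward f) :=
    PreservesLimitsOfSize.preservesFiniteLimits _
  RpushIso f M

end Closed

end Groth.Agent.H5.RpushExact
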