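import Mathlib.CategoryTheory.Abelian.GrothendieckAxioms.Colim
import Mathlib.CategoryTheory.Functor.OfSequence
import Mathlib.CategoryTheory.Limits.Connected
import Mathlib.Algebra.Homology.ShortComplex.ShortExact
import Mathlib.CategoryTheory.Abelian.Basic

set_option autoImplicit false
universe v u
open CategoryTheory CategoryTheory.Limits

namespace Groth.Agent.H5

variable {A : Type u} [Category.{v} A] [Abelian A]

section Proj

variable (X : ℕ → A) [HasCoproduct X]

/-- the tail truncation endomorphism of a coproduct indexed by `ℕ` -/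
noncomputable def tailTrunc (N : ℕ) : ∐ X ⟶ ∐ X :=
  Sigma.desc (fun n => if N ≤ n then Sigma.ι X n else 0)

@[reassoc]
lemma ι_tailTrunc_of_le (N n : ℕ) (h : N ≤ n) :
    Sigma.ι X n ≫ tailTrunc X N = Sigma.ι X n := by
  simp [tailTrunc, h]

@[reassoc]
lemma ι_tailTrunc_of_lt (N n : ℕ) (h : n < N) :
    Sigma.ι X n ≫ tailTrunc X N = 0 := by
  have : ¬ N ≤ n := by omega
  simp [tailTrunc, this]

lemma tailTrunc_zero : tailTrunc X 0 = 𝟙 _ := by
  ext n
  rw [ι_tailTrunc_of_le _ _ _ (Nat.zero_le n), Category.comp_id]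

lemma tailTrunc_succ (N : ℕ) :
    tailTrunc X (N + 1) = tailTrunc X N - Sigma.π X N ≫ Sigma.ι X N := by
  ext n
  rw [Preadditive.comp_sub]
  rcases lt_trichotomy n N with h | h | h
  · rw [ι_tailTrunc_of_lt _ _ _ (by omega), ι_tailTrunc_of_lt _ _ _ h,
      Sigma.ι_π_of_ne_assoc _ (by omega), zero_comp, sub_zero]
  · subst h
    rw [ι_tailTrunc_of_lt _ _ _ (by omega), ι_tailTrunc_of_le _ _ _ le_rfl,
      Sigma.ι_π_eq_id_assoc, sub_self]
  · rw [ι_tailTrunc_of_le _ _ _ (by omega), ι_tailTrunc_of_le _ _ _ (by omega),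
      Sigma.ι_π_of_ne_assoc _ (by omega), zero_comp, sub_zero]

lemma comp_tailTrunc_of_comp_π_eq_zero {W : A} (u : W ⟶ ∐ X)
    (hu : ∀ n, u ≫ Sigma.π X n = 0) (N : ℕ) : u ≫ tailTrunc X N = u := by
  induction N with
  | zero => rw [tailTrunc_zero, Category.comp_id]
  | succ N ih =>
    rw [tailTrunc_succ, Preadditive.comp_sub, ih, reassoc_of% (hu N), zero_comp, sub_zero]

/-- the sequence `∐ X ⟶ ∐ X ⟶ ...` given by the tail truncations -/
noncomputable def tailSeq : ℕ ⥤ A :=
  Functor.ofSequence (X := fun _ => ∐ X) (fun N => tailTrunc X (N + 1))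

variable [HasColimitsOfShape ℕ A]

/-- the colimit inclusions of `tailSeq`, with source written as the coproduct -/
noncomputable def tailι (N : ℕ) : ∐ X ⟶ colimit (tailSeq X) := colimit.ι (tailSeq X) N

lemma tailι_succ (N : ℕ) : tailTrunc X (N + 1) ≫ tailι X (N + 1) = tailι X N := by
  have h := colimit.w (tailSeq X) (homOfLE (Nat.le_add_right N 1))
  have h' : (tailSeq X).map (homOfLE (Nat.le_add_right N 1)) = tailTrunc X (N + 1) :=
    Functor.ofSequence_map_homOfLE_succ _ N
  rw [h'] at h
  exact h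

lemma ι_tailι (n N : ℕ) :
    Sigma.ι X n ≫ tailι X N = 0 := by
  have key : ∀ N, Sigma.ι X n ≫ tailι X N =
      Sigma.ι X n ≫ tailTrunc X (N + 1) ≫ tailι X (N + 1) := by
    intro N
    rw [tailι_succ]
  have h1 : ∀ N, n ≤ N → Sigma.ι X n ≫ tailι X N = 0 := by
    intro N hN
    rw [key, ι_tailTrunc_of_lt_assoc _ _ _ (by omega), zero_comp]
  have h2 : ∀ d N, N + d = n → Sigma.ι X n ≫ tailι X N = 0 := by
    intro d
    induction d with
    | zero => intro N hN; exact h1 N (by omega)
    | succ d ih =>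
      intro N hN
      rw [key, ι_tailTrunc_of_le_assoc _ _ _ (by omega)]
      exact ih (N + 1) (by omega)
  by_cases h : n ≤ N
  · exact h1 N h
  · exact h2 (n - N) N (by omega)

lemma tailι_eq_zero (N : ℕ) : tailι X N = 0 := by
  refine Sigma.hom_ext _ _ (fun n => ?_)
  rw [comp_zero]
  exact ι_tailι X n N

lemma isZero_colimit_tailSeq : IsZero (colimit (tailSeq X)) := by
  rw [IsZero.iff_id_eq_zero]
  apply colimit.hom_ext
  intro N
  rw [Category.comp_id, comp_zero]
  exact tailι_eq_zero X N

variable [HasExactColimitsOfShape ℕ A]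

/-- The projections from a countable coproduct are jointly monic when sequential colimits are
exact. -/
lemma eq_zero_of_comp_π_eq_zero {W : A} (u : W ⟶ ∐ X)
    (hu : ∀ n, u ≫ Sigma.π X n = 0) : u = 0 := by
  have hm : ∀ N, Abelian.image.ι u ≫ tailTrunc X N = Abelian.image.ι u := by
    intro N
    rw [← cancel_epi (Abelian.factorThruImage u)]
    rw [← Category.assoc, Abelian.image.fac]
    exact comp_tailTrunc_of_comp_π_eq_zero X u hu N
  let φ : (Functor.const ℕ).obj (Abelian.image u) ⟶ tailSeq X :=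
    NatTrans.ofSequence (fun _ => Abelian.image.ι u) (fun N => by
      dsimp only [tailSeq]
      rw [Functor.ofSequence_map_homOfLE_succ]
      simp only [Functor.const_obj_obj, Functor.const_obj_map, Category.id_comp]
      exact (hm (N + 1)).symm)
  have : ∀ N, Mono (φ.app N) := fun N => by
    show Mono (Abelian.image.ι u)
    infer_instance
  have : IsConnected ℕ := IsFiltered.isConnected ℕ
  have : Mono φ := NatTrans.mono_of_mono_app φ
  have hmono : Mono (0 : Abelian.image u ⟶ colimit (tailSeq X)) :=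
    colim.map_mono' φ (isColimitConstCocone ℕ (Abelian.image u)) (colimit.isColimit _) 0
      (fun N => (isZero_colimit_tailSeq X).eq_of_tgt _ _)
  have hz : IsZero (Abelian.image u) := by
    rw [IsZero.iff_id_eq_zero, ← cancel_mono (0 : Abelian.image u ⟶ colimit (tailSeq X))]
    simp
  rw [← Abelian.image.fac u, hz.eq_of_tgt (Abelian.factorThruImage u) 0, zero_comp]

end Proj

end Groth.Agent.H5
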