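import Mathlib.Algebra.Homology.DerivedCategory.TStructure
import Mathlib.Algebra.Homology.DerivedCategory.HomologySequence
import Mathlib.Algebra.Homology.DerivedCategory.FullyFaithful
import Mathlib.CategoryTheory.Limits.Shapes.Biproducts
import Mathlib.Data.Int.Interval

/-!
# Splitting of bounded objects of the derived category when `Ext^{≥ 2}` between cohomologies vanish
-/

set_option autoImplicit false
universe w v u
open CategoryTheory CategoryTheory.Limits Pretriangulated DerivedCategory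

namespace Groth.Agent.H5.SplitDerived

variable {A : Type u} [Category.{v} A] [Abelian A] [HasDerivedCategory.{w} A]

/-- cohomology object -/
noncomputable abbrev H (n : ℤ) (K : DerivedCategory A) : A := (homologyFunctor A n).obj K

/-- single -/
noncomputable abbrev sg (n : ℤ) (M : A) : DerivedCategory A := (singleFunctor A n).obj M

lemma exists_trunc (K : DerivedCategory A) (n : ℤ) :
    ∃ (X Z : DerivedCategory A) (ι : X ⟶ K) (π : K ⟶ Z) (δ : Z ⟶ X⟦(1 : ℤ)⟧),
      Triangle.mk ι π δ ∈ distTriang _ ∧ X.IsLE (n - 1) ∧ Z.IsGE n := by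
  obtain ⟨X, Z, hX, hZ, ι, π, δ, hT⟩ := (TStructure.t (C := A)).exists_triangle K (n - 1) n (by omega)
  exact ⟨X, Z, ι, π, δ, hT, ⟨hX⟩, ⟨hZ⟩⟩

section Triangle

variable {X K Z : DerivedCategory A} {ι : X ⟶ K} {π : K ⟶ Z} {δ : Z ⟶ X⟦(1 : ℤ)⟧}

lemma isIso_H_ι (hT : Triangle.mk ι π δ ∈ distTriang (DerivedCategory A)) (n : ℤ) [Z.IsGE n]
    (j : ℤ) (hj : j < n) : IsIso ((homologyFunctor A j).map ι) := by
  have h1 : Mono ((homologyFunctor A j).map ι) := by
    refine (HomologySequence.mono_homologyMap_mor₁_iff _ hT (j - 1) j (by omega)).2 ?_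
    exact (isZero_of_isGE Z n (j - 1) (by omega)).eq_of_src _ _
  have h2 : Epi ((homologyFunctor A j).map ι) := by
    refine (HomologySequence.epi_homologyMap_mor₁_iff _ hT j).2 ?_
    exact (isZero_of_isGE Z n j hj).eq_of_tgt _ _
  exact isIso_of_mono_of_epi _

lemma isIso_H_π (hT : Triangle.mk ι π δ ∈ distTriang (DerivedCategory A)) (n : ℤ) [X.IsLE (n - 1)]
    (j : ℤ) (hj : n ≤ j) : IsIso ((homologyFunctor A j).map π) := by
  have h1 : Mono ((homologyFunctor A j).map π) := by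
    refine (HomologySequence.mono_homologyMap_mor₂_iff _ hT j).2 ?_
    exact (isZero_of_isLE X (n - 1) j (by omega)).eq_of_src _ _
  have h2 : Epi ((homologyFunctor A j).map π) := by
    refine (HomologySequence.epi_homologyMap_mor₂_iff _ hT j (j + 1) rfl).2 ?_
    exact (isZero_of_isLE X (n - 1) (j + 1) (by omega)).eq_of_tgt _ _
  exact isIso_of_mono_of_epi _

lemma isGE_left (hT : Triangle.mk ι π δ ∈ distTriang (DerivedCategory A)) (n : ℤ) [X.IsLE (n - 1)]
    [Z.IsGE n] (a : ℤ) [K.IsGE a] : X.IsGE a := by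
  rw [isGE_iff]
  intro j hj
  by_cases hjn : j < n
  · have := isIso_H_ι hT n j hjn
    exact (isZero_of_isGE K a j hj).of_iso (asIso ((homologyFunctor A j).map ι))
  · exact isZero_of_isLE X (n - 1) j (by omega)

lemma isLE_right (hT : Triangle.mk ι π δ ∈ distTriang (DerivedCategory A)) (n : ℤ) [X.IsLE (n - 1)]
    [Z.IsGE n] (b : ℤ) [K.IsLE b] : Z.IsLE b := by
  rw [isLE_iff]
  intro j hj
  by_cases hjn : n ≤ j
  · have := isIso_H_π hT n j hjn
    exact (isZero_of_isLE K b j hj).of_iso (asIso ((homologyFunctor A j).map π)).symm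
  · exact isZero_of_isGE Z n j (by omega)

end Triangle

lemma nonempty_iso_single (Z : DerivedCategory A) (c : ℤ) [Z.IsGE c] [Z.IsLE c] :
    Nonempty (Z ≅ sg c (H c Z)) := by
  obtain ⟨Y, ⟨e⟩⟩ := exists_iso_singleFunctor_obj_of_isGE_of_isLE Z c
  let θ : Y ≅ H c Z :=
    ((homologyFunctor A c).mapIso e ≪≫ (singleFunctorCompHomologyFunctorIso A c).app Y).symm
  exact ⟨e ≪≫ (singleFunctor A c).mapIso θ⟩

/-- Vanishing of all `Ext^p(M, N)`, `p ≥ 2`, phrased in the derived category. -/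
def ExtVanish (M N : A) : Prop :=
  ∀ (p : ℕ), 2 ≤ p → ∀ f : sg 0 M ⟶ (sg 0 N)⟦(p : ℤ)⟧, f = 0

lemma ExtVanish.of_iso {M N N' : A} (h : ExtVanish M N) (θ : N ≅ N') : ExtVanish M N' := by
  intro p hp f
  have := h p hp (f ≫ ((singleFunctor A 0).map θ.inv)⟦(p : ℤ)⟧')
  have h2 : IsIso (((singleFunctor A 0).map θ.inv)⟦(p : ℤ)⟧') := inferInstance
  rw [← cancel_mono (((singleFunctor A 0).map θ.inv)⟦(p : ℤ)⟧'), this, zero_comp]

lemma ExtVanish.eq_zero {M N : A} (h : ExtVanish M N) (m c : ℤ) (hmc : c < m)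
    (g : sg m M ⟶ (sg c N)⟦(1 : ℤ)⟧) : g = 0 := by
  obtain ⟨p, hp⟩ : ∃ p : ℕ, (p : ℤ) = m - c + 1 := ⟨(m - c + 1).toNat, by omega⟩
  have hp2 : 2 ≤ p := by omega
  let e₁ : (sg m M)⟦m⟧ ≅ sg 0 M := ((singleFunctors A).shiftIso m 0 m (by omega)).app M
  let e₂ : (sg c N)⟦c⟧ ≅ sg 0 N := ((singleFunctors A).shiftIso c 0 c (by omega)).app N
  let e₃ : ((sg c N)⟦(1 : ℤ)⟧)⟦m⟧ ≅ ((sg c N)⟦c⟧)⟦(p : ℤ)⟧ :=
    ((shiftFunctorAdd' (DerivedCategory A) 1 m (1 + m) rfl).app _).symm ≪≫
      (shiftFunctorAdd' (DerivedCategory A) c p (1 + m) (by omega)).app _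
  have h1 := h p hp2 (e₁.inv ≫ g⟦m⟧' ≫ e₃.hom ≫ e₂.hom⟦(p : ℤ)⟧')
  have h2 : g⟦m⟧' = 0 := by
    have h3 : IsIso (e₂.hom⟦(p : ℤ)⟧') := inferInstance
    rw [← cancel_epi e₁.inv, ← cancel_mono e₃.hom, ← cancel_mono (e₂.hom⟦(p : ℤ)⟧')]
    simpa using h1
  exact (shiftFunctor _ m).map_injective (by rw [h2, Functor.map_zero])

/-- variant with isomorphic source and target -/
lemma ExtVanish.eq_zero' {M N : A} (h : ExtVanish M N) (m c : ℤ) (hmc : c < m)
    {W Z : DerivedCategory A} (eW : W ≅ sg m M) (eZ : Z ≅ sg c N)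
    (g : W ⟶ Z⟦(1 : ℤ)⟧) : g = 0 := by
  have h1 := h.eq_zero m c hmc (eW.inv ≫ g ≫ eZ.hom⟦(1 : ℤ)⟧')
  have h3 : IsIso (eZ.hom⟦(1 : ℤ)⟧') := inferInstance
  rw [← cancel_epi eW.inv, ← cancel_mono (eZ.hom⟦(1 : ℤ)⟧')]
  simpa using h1

/-- Dévissage: `Hom(M[-m], Y[1]) = 0` when `Y ∈ D^{[a,c]}`, `c < m` and `Ext^{≥ 2}(M, H^j Y) = 0`. -/
lemma hom_shift_eq_zero (n : ℕ) : ∀ (Y : DerivedCategory A) (a c : ℤ) [Y.IsGE a] [Y.IsLE c],
    c - a < n → ∀ (M : A) (m : ℤ), c < m → (∀ j, j ≤ c → ExtVanish M (H j Y)) →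
    ∀ g : sg m M ⟶ Y⟦(1 : ℤ)⟧, g = 0 := by
  induction n with
  | zero =>
    intro Y a c _ _ hca M m _ _ g
    have hY : IsZero Y := (TStructure.t (C := A)).isZero Y c a (by omega)
    exact ((shiftFunctor (DerivedCategory A) (1 : ℤ)).map_isZero hY).eq_of_tgt _ _
  | succ n ih =>
    intro Y a c _ _ hca M m hcm hExt g
    obtain ⟨X, Z, ι, π, δ, hT, hX, hZ⟩ := exists_trunc Y c
    have hXa : X.IsGE a := isGE_left hT c a
    have hZc : Z.IsLE c := isLE_right hT c c
    obtain ⟨eZ⟩ := nonempty_iso_single Z c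
    have hπ := isIso_H_π hT c c le_rfl
    have h1 : g ≫ π⟦(1 : ℤ)⟧' = 0 :=
      ((hExt c le_rfl).of_iso (asIso ((homologyFunctor A c).map π))).eq_zero' m c hcm (Iso.refl _) eZ _
    obtain ⟨g', hg'⟩ : ∃ g' : sg m M ⟶ X⟦(1 : ℤ)⟧, g = g' ≫ (-(ι⟦(1 : ℤ)⟧')) :=
      Triangle.coyoneda_exact₃ _ (rot_of_distTriang _ (rot_of_distTriang _ hT)) g
        (by change g ≫ (-(π⟦(1 : ℤ)⟧')) = 0; rw [Preadditive.comp_neg, h1, neg_zero])
    have h2 : g' = 0 := by
      have : X.IsLE (c - 1) := hX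
      refine ih X a (c - 1) (by omega) M m (by omega) ?_ g'
      intro j hj
      have hι := isIso_H_ι hT c j (by omega)
      exact (hExt j (by omega)).of_iso (asIso ((homologyFunctor A j).map ι)).symm
    rw [hg', h2, zero_comp]

/-- Existence of a "section" `H^i(K)[-i] ⟶ K` inducing an isomorphism on `H^i`. -/
lemma exists_section (K : DerivedCategory A) (a : ℤ) [K.IsGE a]
    (hExt : ∀ i j : ℤ, j < i → ExtVanish (H i K) (H j K)) (i : ℤ) :
    ∃ s : sg i (H i K) ⟶ K, IsIso ((homologyFunctor A i).map s) := by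
  obtain ⟨X, Z, ι, π, δ, hT, hX, hZ⟩ := exists_trunc K i
  have hXa : X.IsGE a := isGE_left hT i a
  obtain ⟨X', Z', ι', π', δ', hT', hX', hZ'⟩ := exists_trunc Z (i + 1)
  have hX'i : X'.IsLE i := by
    have : i + 1 - 1 = i := by omega
    rw [this] at hX'
    exact hX'
  have hX'i' : X'.IsGE i := isGE_left hT' (i + 1) i
  obtain ⟨eX'⟩ := nonempty_iso_single X' i
  have hπ := isIso_H_π hT i i le_rfl
  have hι' := isIso_H_ι hT' (i + 1) i (by omega)
  -- the iso `H^i K ≅ H^i X'`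
  let θ : H i K ≅ H i X' :=
    asIso ((homologyFunctor A i).map π) ≪≫ (asIso ((homologyFunctor A i).map ι')).symm
  let t : sg i (H i K) ⟶ Z := (singleFunctor A i).map θ.hom ≫ eX'.inv ≫ ι'
  have ht : IsIso ((homologyFunctor A i).map t) := by
    dsimp only [t]
    rw [Functor.map_comp, Functor.map_comp]
    infer_instance
  have h0 : t ≫ δ = 0 := by
    refine hom_shift_eq_zero (i - 1 - a + 1).toNat X a (i - 1) (by omega) (H i K) i (by omega) ?_ _
    intro j hj
    have hι := isIso_H_ι hT i j (by omega)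
    exact (hExt i j (by omega)).of_iso (asIso ((homologyFunctor A j).map ι)).symm
  obtain ⟨s, hs⟩ : ∃ s : sg i (H i K) ⟶ K, t = s ≫ π := Triangle.coyoneda_exact₃ _ hT t h0
  refine ⟨s, ?_⟩
  have h1 : (homologyFunctor A i).map s ≫ (homologyFunctor A i).map π = (homologyFunctor A i).map t := by
    rw [← Functor.map_comp]
    exact congrArg _ hs.symm
  have h2 : IsIso ((homologyFunctor A i).map s ≫ (homologyFunctor A i).map π) := by
    rw [h1]; exact ht
  have h3 : (homologyFunctor A i).map s =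
      ((homologyFunctor A i).map s ≫ (homologyFunctor A i).map π) ≫
        inv ((homologyFunctor A i).map π) := by
    rw [Category.assoc, IsIso.hom_inv_id, Category.comp_id]
  rw [h3]
  infer_instance

/-- Assembly: the sections give an isomorphism from the direct sum of the shifted cohomologies. -/
lemma nonempty_iso_biproduct (K : DerivedCategory A) (a b : ℤ) [K.IsGE a] [K.IsLE b]
    (hExt : ∀ i j : ℤ, j < i → ExtVanish (H i K) (H j K))
    [HasBiproduct (fun i : Finset.Icc a b => sg (i : ℤ) (H (i : ℤ) K))] :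
    Nonempty (K ≅ ⨁ (fun i : Finset.Icc a b => sg (i : ℤ) (H (i : ℤ) K))) := by
  classical
  choose s hs using exists_section K a hExt
  let S : Finset.Icc a b → DerivedCategory A := fun i => sg (i : ℤ) (H (i : ℤ) K)
  let φ : ⨁ S ⟶ K := biproduct.desc (fun i => s i)
  suffices IsIso φ from ⟨(asIso φ).symm⟩
  rw [DerivedCategory.isIso_iff]
  intro n
  let F := homologyFunctor A n
  have hz : ∀ i : Finset.Icc a b, (i : ℤ) ≠ n → IsZero (F.obj (S i)) := by
    intro i hi
    rcases lt_or_gt_of_ne hi with h | h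
    · exact isZero_of_isLE (S i) i n h
    · exact isZero_of_isGE (S i) i n h
  by_cases hn : n ∈ Finset.Icc a b
  · let i₀ : Finset.Icc a b := ⟨n, hn⟩
    have hsum : 𝟙 (F.obj (⨁ S)) = F.map (biproduct.π S i₀) ≫ F.map (biproduct.ι S i₀) := by
      rw [← F.map_id, ← biproduct.total, Functor.map_sum, Finset.sum_eq_single i₀]
      · rw [F.map_comp]
      · intro i _ hi
        rw [F.map_comp, (hz i (fun h => hi (Subtype.ext h))).eq_of_tgt (F.map (biproduct.π S i)) 0,
          zero_comp]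
      · simp
    have hιiso : IsIso (F.map (biproduct.ι S i₀)) :=
      ⟨F.map (biproduct.π S i₀), by rw [← F.map_comp, biproduct.ι_π_self, F.map_id], hsum.symm⟩
    have hcomp : F.map (biproduct.ι S i₀) ≫ F.map φ = F.map (s n) := by
      rw [← F.map_comp, biproduct.ι_desc]
    have : IsIso (F.map (biproduct.ι S i₀) ≫ F.map φ) := by rw [hcomp]; exact hs n
    exact IsIso.of_isIso_comp_left (F.map (biproduct.ι S i₀)) (F.map φ)
  · have h1 : IsZero (F.obj K) := by
      rw [Finset.mem_Icc, not_and_or, not_le, not_le] at hn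
      rcases hn with h | h
      · exact isZero_of_isGE K a n h
      · exact isZero_of_isLE K b n h
    have h2 : IsZero (F.obj (⨁ S)) := by
      rw [IsZero.iff_id_eq_zero, ← F.map_id, ← biproduct.total, Functor.map_sum]
      refine Finset.sum_eq_zero (fun i _ => ?_)
      have hi : (i : ℤ) ≠ n := fun h => hn (h ▸ i.2)
      rw [F.map_comp, (hz i hi).eq_of_tgt (F.map (biproduct.π S i)) 0, zero_comp]
    exact ⟨0, h2.eq_of_src _ _, h1.eq_of_src _ _⟩

end Groth.Agent.H5.SplitDerived
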