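import Groth.Agent.H5.RankOpen
import Groth.Agent.H19.SummandsFree

/-!
# Morphisms of free modules with an invertible maximal minor are split
-/

set_option autoImplicit false
universe u
open CategoryTheory CategoryTheory.Limits AlgebraicGeometry TopologicalSpace Opposite Matrix

namespace Groth.Agent.H5.SplitFree

section Algebra

variable {R : Type u} [CommRing R]

lemma isUnit_det_of_isUnit_det_submatrix_left {n : ℕ} (M : Matrix (Fin n) (Fin n) R)
    (ρ : Fin n → Fin n) (h : IsUnit (M.submatrix ρ id).det) : IsUnit M.det := by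
  by_cases hρ : Function.Injective ρ
  · let σ : Equiv.Perm (Fin n) := Equiv.ofBijective ρ (Finite.injective_iff_bijective.1 hρ)
    have h1 : (M.submatrix ρ id).det = (Equiv.Perm.sign σ : ℤˣ) * M.det :=
      Matrix.det_permute σ M
    rw [h1] at h
    exact isUnit_of_mul_isUnit_right h
  · have : ∃ i j, ρ i = ρ j ∧ i ≠ j := by
      by_contra hcon
      push Not at hcon
      exact hρ (fun i j hij => hcon i j hij)
    obtain ⟨i, j, hij, hne⟩ := this
    have h0 : (M.submatrix ρ id).det = 0 :=
      Matrix.det_zero_of_row_eq hne (by ext l; simp [Matrix.submatrix_apply, hij])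
    rw [h0] at h
    have : Subsingleton R := subsingleton_of_zero_eq_one (isUnit_zero_iff.1 h)
    exact isUnit_of_subsingleton _

lemma isUnit_det_of_isUnit_det_submatrix_right {n : ℕ} (M : Matrix (Fin n) (Fin n) R)
    (c : Fin n → Fin n) (h : IsUnit (M.submatrix id c).det) : IsUnit M.det := by
  by_cases hc : Function.Injective c
  · let σ : Equiv.Perm (Fin n) := Equiv.ofBijective c (Finite.injective_iff_bijective.1 hc)
    have h1 : (M.submatrix id c).det = (Equiv.Perm.sign σ : ℤˣ) * M.det :=
      Matrix.det_permute' σ M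
    rw [h1] at h
    exact isUnit_of_mul_isUnit_right h
  · have : ∃ i j, c i = c j ∧ i ≠ j := by
      by_contra hcon
      push Not at hcon
      exact hc (fun i j hij => hcon i j hij)
    obtain ⟨i, j, hij, hne⟩ := this
    have h0 : (M.submatrix id c).det = 0 :=
      Matrix.det_zero_of_column_eq hne (by intro l; simp [Matrix.submatrix_apply, hij])
    rw [h0] at h
    have : Subsingleton R := subsingleton_of_zero_eq_one (isUnit_zero_iff.1 h)
    exact isUnit_of_subsingleton _

/-- a matrix with an invertible maximal minor (all rows) has a right inverse -/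
theorem exists_rightInverse {a b : ℕ} (A : Matrix (Fin b) (Fin a) R) (ρ : Fin b → Fin b)
    (c : Fin b → Fin a) (h : IsUnit (A.submatrix ρ c).det) :
    ∃ B : Matrix (Fin a) (Fin b) R, A * B = 1 := by
  have hB : IsUnit (A.submatrix id c).det :=
    isUnit_det_of_isUnit_det_submatrix_left (A.submatrix id c) ρ h
  let C : Matrix (Fin a) (Fin b) R := (1 : Matrix (Fin a) (Fin a) R).submatrix id c
  have hC : A * C = A.submatrix id c := by
    ext i j
    simp [C, Matrix.mul_apply, Matrix.one_apply]
  refine ⟨C * (A.submatrix id c)⁻¹, ?_⟩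
  rw [← Matrix.mul_assoc, hC, Matrix.mul_nonsing_inv _ hB]

/-- a matrix with an invertible maximal minor (all columns) has a left inverse -/
theorem exists_leftInverse {a b : ℕ} (A : Matrix (Fin b) (Fin a) R) (ρ : Fin a → Fin b)
    (c : Fin a → Fin a) (h : IsUnit (A.submatrix ρ c).det) :
    ∃ L : Matrix (Fin a) (Fin b) R, L * A = 1 := by
  have hB : IsUnit (A.submatrix ρ id).det :=
    isUnit_det_of_isUnit_det_submatrix_right (A.submatrix ρ id) c h
  let C : Matrix (Fin a) (Fin b) R := (1 : Matrix (Fin b) (Fin b) R).submatrix ρ id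
  have hC : C * A = A.submatrix ρ id := by
    ext i j
    simp [C, Matrix.mul_apply, Matrix.one_apply]
  refine ⟨(A.submatrix ρ id)⁻¹ * C, ?_⟩
  rw [Matrix.mul_assoc, hC, Matrix.nonsing_inv_mul _ hB]

end Algebra

section Sheaf

open Groth.Agent.H5.OnePoint Groth.Agent.H5.FreeSections Groth.Agent.H5.FreeMatrix
  Groth.Agent.H92.LocFreeRank

variable (W : Scheme.{u})

lemma P_I (n : ℕ) (v : Fin n → Coh.Γtop W) : P W n (I W n v) = v := by
  funext j
  rw [P_apply, I_apply, map_sum, map_sum]
  have h : ∀ l : Fin n, evTopUnitEquiv W (((evTop W).map (prj W n j)).hom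
      (v l • ((evTop W).map (inc W n l)).hom (one' W))) = if l = j then v l else 0 := by
    intro l
    rw [map_smul, map_smul]
    have h1 : ((evTop W).map (prj W n j)).hom (((evTop W).map (inc W n l)).hom (one' W)) =
        ((evTop W).map (inc W n l ≫ prj W n j)).hom (one' W) := by
      rw [Functor.map_comp]
      rfl
    rw [h1, inc_prj]
    split_ifs with hlj
    · rw [CategoryTheory.Functor.map_id]
      change v l • evTopUnitEquiv W (one' W) = v l
      unfold one'
      rw [LinearEquiv.apply_symm_apply, smul_eq_mul, mul_one]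
    · rw [Functor.map_zero]
      change v l • evTopUnitEquiv W 0 = 0
      rw [map_zero, smul_zero]
  rw [Finset.sum_congr rfl (fun l _ => h l)]
  simp

variable {W}

lemma evTop_map_eq {a b : ℕ} (φ : FlatMod.freeMod W a ⟶ FlatMod.freeMod W b)
    (x : (evTop W).obj (FlatMod.freeMod W a)) :
    ((evTop W).map φ).hom x = I W b ((mat φ).mulVecLin (P W a x)) := by
  have h := LinearMap.congr_fun (P_map_I φ) (P W a x)
  rw [LinearMap.comp_apply, LinearMap.comp_apply, I_P] at h
  rw [← h, I_P]

lemma projective_evTop_free (n : ℕ) :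
    Module.Projective (Coh.Γtop W) ((evTop W).obj (FlatMod.freeMod W n)) :=
  Module.Projective.of_equiv (evTopFreeEquiv W n).symm

lemma comp_eq_of_mul_eq_one {a b : ℕ} (φ : FlatMod.freeMod W a ⟶ FlatMod.freeMod W b)
    (B : Matrix (Fin a) (Fin b) (Coh.Γtop W)) (hB : mat φ * B = 1)
    (x : (evTop W).obj (FlatMod.freeMod W b)) :
    ((evTop W).map φ).hom (((I W a).comp (B.mulVecLin.comp (P W b))) x) = x := by
  rw [evTop_map_eq]
  simp only [LinearMap.comp_apply, P_I, Matrix.mulVecLin_apply, Matrix.mulVec_mulVec, hB,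
    Matrix.one_mulVec, I_P]

lemma comp_eq_of_mul_eq_one' {a b : ℕ} (φ : FlatMod.freeMod W a ⟶ FlatMod.freeMod W b)
    (L : Matrix (Fin a) (Fin b) (Coh.Γtop W)) (hL : L * mat φ = 1)
    (x : (evTop W).obj (FlatMod.freeMod W a)) :
    ((I W a).comp (L.mulVecLin.comp (P W b))) (((evTop W).map φ).hom x) = x := by
  rw [evTop_map_eq]
  simp only [LinearMap.comp_apply, P_I, Matrix.mulVecLin_apply, Matrix.mulVec_mulVec, hL,
    Matrix.one_mulVec, I_P]

/-- a morphism of free modules whose matrix has a right inverse is a split epimorphism -/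
theorem exists_section {a b : ℕ} (φ : FlatMod.freeMod W a ⟶ FlatMod.freeMod W b)
    (B : Matrix (Fin a) (Fin b) (Coh.Γtop W)) (hB : mat φ * B = 1) :
    ∃ g : FlatMod.freeMod W b ⟶ FlatMod.freeMod W a, g ≫ φ = 𝟙 _ := by
  let s : (evTop W).obj (FlatMod.freeMod W b) →ₗ[Coh.Γtop W]
      (evTop W).obj (FlatMod.freeMod W a) := (I W a).comp (B.mulVecLin.comp (P W b))
  obtain ⟨g, hg⟩ := (Groth.Agent.H19.SummandsFree.map_free_bijective W b
    (FlatMod.freeMod W a)).2 (ModuleCat.ofHom s)
  refine ⟨g, ?_⟩
  apply (Groth.Agent.H19.SummandsFree.map_free_bijective W b (FlatMod.freeMod W b)).1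
  rw [Functor.map_comp, hg, CategoryTheory.Functor.map_id]
  ext x
  exact comp_eq_of_mul_eq_one φ B hB x

/-- a morphism of free modules whose matrix has a left inverse is a split monomorphism -/
theorem exists_retraction {a b : ℕ} (φ : FlatMod.freeMod W a ⟶ FlatMod.freeMod W b)
    (L : Matrix (Fin a) (Fin b) (Coh.Γtop W)) (hL : L * mat φ = 1) :
    ∃ r : FlatMod.freeMod W b ⟶ FlatMod.freeMod W a, φ ≫ r = 𝟙 _ := by
  let s : (evTop W).obj (FlatMod.freeMod W b) →ₗ[Coh.Γtop W]
      (evTop W).obj (FlatMod.freeMod W a) := (I W a).comp (L.mulVecLin.comp (P W b))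
  obtain ⟨r, hr⟩ := (Groth.Agent.H19.SummandsFree.map_free_bijective W b
    (FlatMod.freeMod W a)).2 (ModuleCat.ofHom s)
  refine ⟨r, ?_⟩
  apply (Groth.Agent.H19.SummandsFree.map_free_bijective W a (FlatMod.freeMod W a)).1
  rw [Functor.map_comp, hr, CategoryTheory.Functor.map_id]
  ext x
  exact comp_eq_of_mul_eq_one' φ L hL x

end Sheaf

end Groth.Agent.H5.SplitFree
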