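import Groth.Agent.H5.SplitFree
import Groth.Agent.H5.FinLocFreeOps

/-!
# A morphism of finite locally free modules which is epi (mono) at a field point is split epi
(split mono) near that point
-/

set_option autoImplicit false
set_option linter.style.haveILetI false
universe u
open CategoryTheory CategoryTheory.Limits AlgebraicGeometry TopologicalSpace Opposite Matrix

namespace Groth.Agent.H5.SplitNear

open Groth.Agent.H5.OnePoint Groth.Agent.H5.FreeSections Groth.Agent.H5.FreeMatrix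
  Groth.Agent.H5.RankOpen Groth.Agent.H5.PullbackUnit Groth.Agent.H5.SplitFree

section General

variable {C D : Type*} [Category C] [Category D]

lemma isSplitEpi_of_natIso {F G : C ⥤ D} (e : F ≅ G) {X Y : C} (f : X ⟶ Y)
    (_ : IsSplitEpi (G.map f)) : IsSplitEpi (F.map f) := by
  rw [← NatIso.naturality_2 e f]
  infer_instance

lemma isSplitMono_of_natIso {F G : C ⥤ D} (e : F ≅ G) {X Y : C} (f : X ⟶ Y)
    (_ : IsSplitMono (G.map f)) : IsSplitMono (F.map f) := by
  rw [← NatIso.naturality_2 e f]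
  infer_instance

lemma mono_map_iff_of_natIso {F G : C ⥤ D} (e : F ≅ G) {X Y : C} (f : X ⟶ Y) :
    Mono (F.map f) ↔ Mono (G.map f) := by
  constructor
  · intro h
    rw [← NatIso.naturality_1 e f]
    infer_instance
  · intro h
    rw [← NatIso.naturality_2 e f]
    infer_instance

lemma epi_map_iff_of_natIso {F G : C ⥤ D} (e : F ≅ G) {X Y : C} (f : X ⟶ Y) :
    Epi (F.map f) ↔ Epi (G.map f) := by
  constructor
  · intro h
    rw [← NatIso.naturality_1 e f]
    infer_instance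
  · intro h
    rw [← NatIso.naturality_2 e f]
    infer_instance

lemma isSplitEpi_of_conj {X X' Y Y' : C} (f : X ⟶ Y) (a : X' ≅ X) (b : Y ≅ Y')
    (_ : IsSplitEpi (a.hom ≫ f ≫ b.hom)) : IsSplitEpi f := by
  have : f = a.inv ≫ (a.hom ≫ f ≫ b.hom) ≫ b.inv := by simp
  rw [this]
  infer_instance

lemma isSplitMono_of_conj {X X' Y Y' : C} (f : X ⟶ Y) (a : X' ≅ X) (b : Y ≅ Y')
    (_ : IsSplitMono (a.hom ≫ f ≫ b.hom)) : IsSplitMono f := by
  have : f = a.inv ≫ (a.hom ≫ f ≫ b.hom) ≫ b.inv := by simp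
  rw [this]
  infer_instance

end General

variable {W : Scheme.{u}}

/-- a local trivialisation in terms of the pullback -/
lemma exists_trivialization (M : W.Modules) (hM : FlatMod.IsFinLocFree M) (x : W) :
    ∃ (U : W.Opens) (n : ℕ), x ∈ U ∧
      Nonempty ((Scheme.Modules.pullback U.ι).obj M ≅ FlatMod.freeMod (U : Scheme.{u}) n) := by
  obtain ⟨U, n, hx, ⟨e⟩⟩ := hM x
  exact ⟨U, n, hx, ⟨((Scheme.Modules.restrictFunctorIsoPullback U.ι).app M).symm ≪≫ e⟩⟩

/-- a local trivialisation restricts to smaller opens -/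
lemma trivialization_of_le (M : W.Modules) {U U' : W.Opens} (h : U' ≤ U) {n : ℕ}
    (e : (Scheme.Modules.pullback U.ι).obj M ≅ FlatMod.freeMod (U : Scheme.{u}) n) :
    Nonempty ((Scheme.Modules.pullback U'.ι).obj M ≅ FlatMod.freeMod (U' : Scheme.{u}) n) :=
  ⟨(Scheme.Modules.pullbackCongr (W.homOfLE_ι h).symm).app M ≪≫
    ((Scheme.Modules.pullbackComp (W.homOfLE h) U.ι).app M).symm ≪≫
    (Scheme.Modules.pullback (W.homOfLE h)).mapIso e ≪≫ pullbackFreeIso (W.homOfLE h) n⟩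

section Core

variable {T : Scheme.{u}} {z : T} (hT : IsFieldPoint T z)

lemma det_submatrix_map' {R S : Type u} [CommRing R] [CommRing S] (g : R →+* S) {a b r : ℕ}
    (A : Matrix (Fin b) (Fin a) R) (ρ : Fin r → Fin b) (c : Fin r → Fin a) :
    ((A.map g).submatrix ρ c).det = g ((A.submatrix ρ c).det) := by
  rw [RingHom.map_det]
  rfl

/-- the restriction of a function to its basic open is a unit -/
lemma isUnit_kS_basicOpen {W₀ : Scheme.{u}} (δ : Γ(W₀, ⊤)) :
    IsUnit (kS (W₀.basicOpen δ).ι δ) := by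
  let D : Scheme.{u} := (W₀.basicOpen δ : Scheme.{u})
  have h1 : D.basicOpen ((W₀.basicOpen δ).ι.appTop δ) = ⊤ := by
    rw [← Scheme.preimage_basicOpen_top]
    exact Scheme.Opens.ι_preimage_self _
  refine RingedSpace.isUnit_of_isUnit_germ D.toRingedSpace ⊤ _ (fun x hx => ?_)
  have hx' : x ∈ D.basicOpen ((W₀.basicOpen δ).ι.appTop δ) := by rw [h1]; trivial
  exact (Scheme.mem_basicOpen_top D _ x).1 hx'


/-- the trivialised morphism restricted to an open -/
noncomputable def res {W₀ W₁ : Scheme.{u}} (j₁ : W₁ ⟶ W₀) {a b : ℕ}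
    (φ₀ : FlatMod.freeMod W₀ a ⟶ FlatMod.freeMod W₀ b) :
    FlatMod.freeMod W₁ a ⟶ FlatMod.freeMod W₁ b :=
  (pullbackFreeIso j₁ a).inv ≫ (Scheme.Modules.pullback j₁).map φ₀ ≫ (pullbackFreeIso j₁ b).hom

lemma mat_res {W₀ W₁ : Scheme.{u}} (j₁ : W₁ ⟶ W₀) {a b : ℕ}
    (φ₀ : FlatMod.freeMod W₀ a ⟶ FlatMod.freeMod W₀ b) :
    mat (res j₁ φ₀) = (mat φ₀).map (kS j₁) := mat_pullback j₁ φ₀

include hT in
/-- an invertible minor at the field point gives a basic open neighbourhood on which the minor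
is invertible -/
lemma minor_isUnit {W₀ : Scheme.{u}} {a b r : ℕ}
    (φ₀ : FlatMod.freeMod W₀ a ⟶ FlatMod.freeMod W₀ b) (k₀ : T ⟶ W₀)
    (ρ : Fin r → Fin b) (c : Fin r → Fin a)
    (hdet : kS k₀ ((mat φ₀).submatrix ρ c).det ≠ 0) :
    k₀ z ∈ W₀.basicOpen ((mat φ₀).submatrix ρ c).det ∧
      IsUnit ((mat (res (W₀.basicOpen ((mat φ₀).submatrix ρ c).det).ι φ₀)).submatrix ρ c).det := by
  refine ⟨(kS_ne_zero_iff hT k₀ _).1 hdet, ?_⟩
  rw [mat_res, det_submatrix_map']
  exact isUnit_kS_basicOpen _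

include hT in
lemma surjective_mulVecLin_of_epi {a b : ℕ} (ψ : FlatMod.freeMod T a ⟶ FlatMod.freeMod T b)
    [Epi ψ] : Function.Surjective (mat ψ).mulVecLin := by
  intro w
  obtain ⟨x, hx⟩ := evTop_map_surjective_of_epi z hT.top ψ (I T b w)
  refine ⟨P T a x, ?_⟩
  have h := evTop_map_eq ψ x
  rw [hx] at h
  have h2 := congrArg (P T b) h
  rw [P_I, P_I] at h2
  exact h2.symm

lemma injective_mulVecLin_of_mono {a b : ℕ} (ψ : FlatMod.freeMod T a ⟶ FlatMod.freeMod T b)
    [Mono ψ] : Function.Injective (mat ψ).mulVecLin := by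
  have hinj : Function.Injective ((evTop T).map ψ).hom :=
    (ModuleCat.mono_iff_injective _).1 inferInstance
  intro v w hvw
  have h1 := evTop_map_eq ψ (I T a v)
  have h2 := evTop_map_eq ψ (I T a w)
  rw [P_I] at h1 h2
  rw [hvw, ← h2] at h1
  have h3 := hinj h1
  have h4 := congrArg (P T a) h3
  rwa [P_I, P_I] at h4

include hT in
lemma exists_minor_of_epi {W₀ : Scheme.{u}} {a b : ℕ}
    (φ₀ : FlatMod.freeMod W₀ a ⟶ FlatMod.freeMod W₀ b) (k₀ : T ⟶ W₀)
    (h : Epi ((Scheme.Modules.pullback k₀).map φ₀)) :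
    ∃ (ρ : Fin b → Fin b) (c : Fin b → Fin a), kS k₀ ((mat φ₀).submatrix ρ c).det ≠ 0 := by
  haveI : Epi (res k₀ φ₀) := by unfold res; infer_instance
  have hs := surjective_mulVecLin_of_epi hT (res k₀ φ₀)
  rw [mat_res] at hs
  haveI : Nontrivial (Coh.Γtop T) := hT.field.nontrivial
  have hr : rankAt (mat φ₀) k₀ = b := by
    unfold rankAt
    rw [LinearMap.range_eq_top.2 hs, finrank_top, Module.finrank_fin_fun]
  exact (le_rankAt_iff hT (mat φ₀) k₀ b).1 hr.ge

include hT in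
lemma exists_minor_of_mono {W₀ : Scheme.{u}} {a b : ℕ}
    (φ₀ : FlatMod.freeMod W₀ a ⟶ FlatMod.freeMod W₀ b) (k₀ : T ⟶ W₀)
    (h : Mono ((Scheme.Modules.pullback k₀).map φ₀)) :
    ∃ (ρ : Fin a → Fin b) (c : Fin a → Fin a), kS k₀ ((mat φ₀).submatrix ρ c).det ≠ 0 := by
  haveI : Mono (res k₀ φ₀) := by unfold res; infer_instance
  have hs := injective_mulVecLin_of_mono (res k₀ φ₀)
  rw [mat_res] at hs
  haveI : Nontrivial (Coh.Γtop T) := hT.field.nontrivial
  letI : Field (Coh.Γtop T) := hT.field.toField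
  have hr : rankAt (mat φ₀) k₀ = a := by
    unfold rankAt
    rw [LinearMap.finrank_range_of_inj hs, Module.finrank_fin_fun]
  exact (le_rankAt_iff hT (mat φ₀) k₀ a).1 hr.ge

end Core

section Point

variable {T : Scheme.{u}} {z : T} (hT : IsFieldPoint T z) (k : T ⟶ W)

include hT in
lemma range_subset (U : W.Opens) (hU : k z ∈ U) :
    Set.range k.base ⊆ Set.range U.ι.base := by
  rintro _ ⟨t, rfl⟩
  rw [Scheme.Opens.range_ι]
  have h1 : k ⁻¹ᵁ U = ⊤ := hT.top _ hU
  have : t ∈ k ⁻¹ᵁ U := by rw [h1]; trivial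
  exact this

/-- data: a common trivialisation of source and target near the image of the field point -/
structure Triv {M N : W.Modules} (φ : M ⟶ N) where
  U : W.Opens
  a : ℕ
  b : ℕ
  eM : (Scheme.Modules.pullback U.ι).obj M ≅ FlatMod.freeMod (U : Scheme.{u}) a
  eN : (Scheme.Modules.pullback U.ι).obj N ≅ FlatMod.freeMod (U : Scheme.{u}) b

/-- the trivialised morphism -/
noncomputable def Triv.φ₀ {M N : W.Modules} {φ : M ⟶ N} (t : Triv φ) :
    FlatMod.freeMod (t.U : Scheme.{u}) t.a ⟶ FlatMod.freeMod (t.U : Scheme.{u}) t.b :=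
  t.eM.inv ≫ (Scheme.Modules.pullback t.U.ι).map φ ≫ t.eN.hom

lemma exists_triv {M N : W.Modules} (hM : FlatMod.IsFinLocFree M) (hN : FlatMod.IsFinLocFree N)
    (φ : M ⟶ N) (x : W) : ∃ t : Triv φ, x ∈ t.U := by
  obtain ⟨U₁, a, hx₁, ⟨e₁⟩⟩ := exists_trivialization M hM x
  obtain ⟨U₂, b, hx₂, ⟨e₂⟩⟩ := exists_trivialization N hN x
  obtain ⟨e₁'⟩ := trivialization_of_le M (inf_le_left : U₁ ⊓ U₂ ≤ U₁) e₁
  obtain ⟨e₂'⟩ := trivialization_of_le N (inf_le_right : U₁ ⊓ U₂ ≤ U₂) e₂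
  exact ⟨⟨U₁ ⊓ U₂, a, b, e₁', e₂'⟩, ⟨hx₁, hx₂⟩⟩

include hT in
/-- a morphism of finite locally free modules which is an epimorphism at a field point is a
split epimorphism on an open neighbourhood of (the image of) that point -/
theorem exists_isSplitEpi {M N : W.Modules} (hM : FlatMod.IsFinLocFree M)
    (hN : FlatMod.IsFinLocFree N) (φ : M ⟶ N)
    (h : Epi ((Scheme.Modules.pullback k).map φ)) :
    ∃ (W₁ : Scheme.{u}) (j : W₁ ⟶ W) (_ : IsOpenImmersion j), k z ∈ Set.range j.base ∧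
      IsSplitEpi ((Scheme.Modules.restrictFunctor j).map φ) := by
  obtain ⟨t, hx⟩ := exists_triv hM hN φ (k z)
  let k₀ : T ⟶ (t.U : Scheme.{u}) := IsOpenImmersion.lift t.U.ι k (range_subset hT k t.U hx)
  have hk₀ : k₀ ≫ t.U.ι = k := IsOpenImmersion.lift_fac _ _ _
  let e : Scheme.Modules.pullback t.U.ι ⋙ Scheme.Modules.pullback k₀ ≅
      Scheme.Modules.pullback k :=
    Scheme.Modules.pullbackComp k₀ t.U.ι ≪≫ Scheme.Modules.pullbackCongr hk₀
  have h1 : Epi ((Scheme.Modules.pullback k₀).map ((Scheme.Modules.pullback t.U.ι).map φ)) :=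
    (epi_map_iff_of_natIso e φ).2 h
  have h2 : Epi ((Scheme.Modules.pullback k₀).map t.φ₀) := by
    unfold Triv.φ₀
    rw [Functor.map_comp, Functor.map_comp]
    infer_instance
  obtain ⟨ρ, c, hdet⟩ := exists_minor_of_epi hT t.φ₀ k₀ h2
  obtain ⟨hmem, hunit⟩ := minor_isUnit hT t.φ₀ k₀ ρ c hdet
  obtain ⟨B, hB⟩ := exists_rightInverse _ ρ c hunit
  obtain ⟨g, hg⟩ := exists_section _ B hB
  let D := (t.U : Scheme.{u}).basicOpen ((mat t.φ₀).submatrix ρ c).det
  have hres : IsSplitEpi (res D.ι t.φ₀) := IsSplitEpi.mk' ⟨g, hg⟩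
  refine ⟨D, D.ι ≫ t.U.ι, inferInstance, ⟨⟨k₀ z, hmem⟩, ?_⟩, ?_⟩
  · change t.U.ι.base (k₀.base z) = k.base z
    rw [← hk₀]
    rfl
  · have hp : IsSplitEpi ((Scheme.Modules.pullback D.ι).map t.φ₀) :=
      isSplitEpi_of_conj _ (pullbackFreeIso D.ι t.a).symm (pullbackFreeIso D.ι t.b) hres
    have hpp : IsSplitEpi ((Scheme.Modules.pullback D.ι).map
        ((Scheme.Modules.pullback t.U.ι).map φ)) := by
      have : IsSplitEpi (((Scheme.Modules.pullback D.ι).mapIso t.eM.symm).hom ≫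
          (Scheme.Modules.pullback D.ι).map ((Scheme.Modules.pullback t.U.ι).map φ) ≫
          ((Scheme.Modules.pullback D.ι).mapIso t.eN).hom) := by
        have h3 : ((Scheme.Modules.pullback D.ι).mapIso t.eM.symm).hom ≫
          (Scheme.Modules.pullback D.ι).map ((Scheme.Modules.pullback t.U.ι).map φ) ≫
          ((Scheme.Modules.pullback D.ι).mapIso t.eN).hom =
            (Scheme.Modules.pullback D.ι).map t.φ₀ := by
          unfold Triv.φ₀
          simp
        rw [h3]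
        exact hp
      exact isSplitEpi_of_conj _ ((Scheme.Modules.pullback D.ι).mapIso t.eM.symm)
        ((Scheme.Modules.pullback D.ι).mapIso t.eN) this
    have hc : IsSplitEpi ((Scheme.Modules.pullback (D.ι ≫ t.U.ι)).map φ) :=
      isSplitEpi_of_natIso (Scheme.Modules.pullbackComp D.ι t.U.ι).symm φ hpp
    exact isSplitEpi_of_natIso (Scheme.Modules.restrictFunctorIsoPullback (D.ι ≫ t.U.ι)) φ hc

include hT in
/-- a morphism of finite locally free modules which is a monomorphism at a field point is a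
split monomorphism on an open neighbourhood of (the image of) that point -/
theorem exists_isSplitMono {M N : W.Modules} (hM : FlatMod.IsFinLocFree M)
    (hN : FlatMod.IsFinLocFree N) (φ : M ⟶ N)
    (h : Mono ((Scheme.Modules.pullback k).map φ)) :
    ∃ (W₁ : Scheme.{u}) (j : W₁ ⟶ W) (_ : IsOpenImmersion j), k z ∈ Set.range j.base ∧
      IsSplitMono ((Scheme.Modules.restrictFunctor j).map φ) := by
  obtain ⟨t, hx⟩ := exists_triv hM hN φ (k z)
  let k₀ : T ⟶ (t.U : Scheme.{u}) := IsOpenImmersion.lift t.U.ι k (range_subset hT k t.U hx)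
  have hk₀ : k₀ ≫ t.U.ι = k := IsOpenImmersion.lift_fac _ _ _
  let e : Scheme.Modules.pullback t.U.ι ⋙ Scheme.Modules.pullback k₀ ≅
      Scheme.Modules.pullback k :=
    Scheme.Modules.pullbackComp k₀ t.U.ι ≪≫ Scheme.Modules.pullbackCongr hk₀
  have h1 : Mono ((Scheme.Modules.pullback k₀).map ((Scheme.Modules.pullback t.U.ι).map φ)) :=
    (mono_map_iff_of_natIso e φ).2 h
  have h2 : Mono ((Scheme.Modules.pullback k₀).map t.φ₀) := by
    unfold Triv.φ₀
    rw [Functor.map_comp, Functor.map_comp]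
    infer_instance
  obtain ⟨ρ, c, hdet⟩ := exists_minor_of_mono hT t.φ₀ k₀ h2
  obtain ⟨hmem, hunit⟩ := minor_isUnit hT t.φ₀ k₀ ρ c hdet
  obtain ⟨L, hL⟩ := exists_leftInverse _ ρ c hunit
  obtain ⟨r, hr⟩ := exists_retraction _ L hL
  let D := (t.U : Scheme.{u}).basicOpen ((mat t.φ₀).submatrix ρ c).det
  have hres : IsSplitMono (res D.ι t.φ₀) := IsSplitMono.mk' ⟨r, hr⟩
  refine ⟨D, D.ι ≫ t.U.ι, inferInstance, ⟨⟨k₀ z, hmem⟩, ?_⟩, ?_⟩
  · change t.U.ι.base (k₀.base z) = k.base z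
    rw [← hk₀]
    rfl
  · have hp : IsSplitMono ((Scheme.Modules.pullback D.ι).map t.φ₀) :=
      isSplitMono_of_conj _ (pullbackFreeIso D.ι t.a).symm (pullbackFreeIso D.ι t.b) hres
    have hpp : IsSplitMono ((Scheme.Modules.pullback D.ι).map
        ((Scheme.Modules.pullback t.U.ι).map φ)) := by
      have : IsSplitMono (((Scheme.Modules.pullback D.ι).mapIso t.eM.symm).hom ≫
          (Scheme.Modules.pullback D.ι).map ((Scheme.Modules.pullback t.U.ι).map φ) ≫
          ((Scheme.Modules.pullback D.ι).mapIso t.eN).hom) := by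
        have h3 : ((Scheme.Modules.pullback D.ι).mapIso t.eM.symm).hom ≫
          (Scheme.Modules.pullback D.ι).map ((Scheme.Modules.pullback t.U.ι).map φ) ≫
          ((Scheme.Modules.pullback D.ι).mapIso t.eN).hom =
            (Scheme.Modules.pullback D.ι).map t.φ₀ := by
          unfold Triv.φ₀
          simp
        rw [h3]
        exact hp
      exact isSplitMono_of_conj _ ((Scheme.Modules.pullback D.ι).mapIso t.eM.symm)
        ((Scheme.Modules.pullback D.ι).mapIso t.eN) this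
    have hc : IsSplitMono ((Scheme.Modules.pullback (D.ι ≫ t.U.ι)).map φ) :=
      isSplitMono_of_natIso (Scheme.Modules.pullbackComp D.ι t.U.ι).symm φ hpp
    exact isSplitMono_of_natIso (Scheme.Modules.restrictFunctorIsoPullback (D.ι ≫ t.U.ι)) φ hc

end Point

end Groth.Agent.H5.SplitNear
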