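import Mathlib.Order.WellFounded
import Mathlib.Order.Basic
import Mathlib.Order.RelClasses

set_option autoImplicit false

universe w w'

namespace Groth.Agent.H5.Transfinite

variable {I : Type w} [LinearOrder I] [WellFoundedLT I] (X : I → Type w') [∀ β, Inhabited (X β)]
  (r : ∀ {γ β : I}, γ ≤ β → X β → X γ)
  (hr_refl : ∀ (β : I) (x : X β), r (le_refl β) x = x)
  (Φ : ∀ β, X β → Prop)

/-- the partial family below `β` is good -/
def Good (β : I) (b : ∀ γ, γ < β → X γ) : Prop :=
  (∀ γ hγ, Φ γ (b γ hγ)) ∧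
    ∀ (γ γ' : I) (hγ : γ < β) (hγ' : γ' < β) (h : γ ≤ γ'), r h (b γ' hγ') = b γ hγ

include hr_refl in
/-- transfinite dependent choice of a compatible family -/
theorem exists_family
    (ext : ∀ (β : I) (b : ∀ γ, γ < β → X γ), Good X r Φ β b →
      ∃ x : X β, Φ β x ∧ ∀ γ (hγ : γ < β), r (le_of_lt hγ) x = b γ hγ) :
    ∃ b : ∀ β, X β, (∀ β, Φ β (b β)) ∧ ∀ (γ β : I) (h : γ ≤ β), r h (b β) = b γ := by
  classical
  let F : ∀ β, (∀ γ, γ < β → X γ) → X β := fun β prev =>
    if h : Good X r Φ β prev then (ext β prev h).choose else default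
  let b : ∀ β, X β := fun β => (wellFounded_lt (α := I)).fix F β
  have hb : ∀ β, b β = F β (fun γ _ => b γ) := fun β => (wellFounded_lt (α := I)).fix_eq F β
  have key : ∀ β, Φ β (b β) ∧ ∀ γ (h : γ ≤ β), r h (b β) = b γ := by
    intro β
    induction β using (wellFounded_lt (α := I)).induction with
    | _ β ih =>
      have hgood : Good X r Φ β (fun γ _ => b γ) :=
        ⟨fun γ hγ => (ih γ hγ).1, fun γ γ' _ hγ' h => (ih γ' hγ').2 γ h⟩
      have hbβ : b β = (ext β _ hgood).choose := by
        rw [hb β]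
        simp only [F, dif_pos hgood]
      have hspec := (ext β _ hgood).choose_spec
      rw [← hbβ] at hspec
      refine ⟨hspec.1, fun γ h => ?_⟩
      rcases lt_or_eq_of_le h with hlt | heq
      · exact hspec.2 γ hlt
      · subst heq
        exact hr_refl _ _
  exact ⟨b, fun β => (key β).1, fun γ β h => (key β).2 γ h⟩

end Groth.Agent.H5.Transfinite
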