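import Groth.Agent.H5.TriDeriv
import Groth.Agent.H5.LeftDeriv
import Mathlib.CategoryTheory.Triangulated.Opposite.Subcategory
import Mathlib.CategoryTheory.Triangulated.Opposite.Functor
import Mathlib.CategoryTheory.Triangulated.Opposite.Triangulated

/-!
# Left derived functors from triangulated subcategories with enough left resolutions
-/

set_option autoImplicit false
open CategoryTheory CategoryTheory.Limits Pretriangulated Opposite
open Pretriangulated.Opposite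

namespace Groth.Agent.H5.TriDerivLeft

variable {C : Type*} [Category C] [HasZeroObject C] [HasShift C ℤ] [Preadditive C]
  [∀ (n : ℤ), (shiftFunctor C n).Additive] [Pretriangulated C] [IsTriangulated C]
  (𝒜 ℬ : ObjectProperty C) [𝒜.IsTriangulated] [ℬ.IsTriangulated]
  [𝒜.IsClosedUnderIsomorphisms] [ℬ.IsClosedUnderIsomorphisms]
  (hres : ∀ X : C, ∃ (Y : C) (s : Y ⟶ X), 𝒜 Y ∧ ℬ.trW s)
  {D : Type*} [Category D] [HasZeroObject D] [HasShift D ℤ] [Preadditive D]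
  [∀ (n : ℤ), (shiftFunctor D n).Additive] [Pretriangulated D]
  (G : C ⥤ D) [G.CommShift ℤ] [G.IsTriangulated]
  (hG : ∀ Z : C, 𝒜 Z → ℬ Z → IsZero (G.obj Z))

include hres in
lemma hres_op : ∀ X : Cᵒᵖ, ∃ (Y : Cᵒᵖ) (s : X ⟶ Y), 𝒜.op Y ∧ ℬ.op.trW s := by
  intro X
  obtain ⟨Y, s, hY, hs⟩ := hres X.unop
  exact ⟨op Y, s.op, hY, (ℬ.trW_op_iff).2 hs⟩

include hG in
lemma hG_op : ∀ Z : Cᵒᵖ, 𝒜.op Z → ℬ.op Z → IsZero (G.op.obj Z) := by
  intro Z h₁ h₂
  exact (hG Z.unop h₁ h₂).op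

include hres hG in
lemma hasRightDerivedFunctor_op : G.op.HasRightDerivedFunctor ℬ.trW.op := by
  have h₁ := TriDeriv.isRightDerivabilityStructure 𝒜.op ℬ.op (hres_op 𝒜 ℬ hres)
  have h₂ := TriDeriv.derives 𝒜.op ℬ.op G.op (hG_op 𝒜 ℬ G hG)
  have := h₂.hasPointwiseRightDerivedFunctor
  rw [← ℬ.trW_op]
  infer_instance

include hres hG in
theorem hasLeftDerivedFunctor : G.HasLeftDerivedFunctor ℬ.trW := by
  have := hasRightDerivedFunctor_op 𝒜 ℬ hres G hG
  exact LeftDeriv.hasLeftDerivedFunctor_of_op ℬ.trW G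

include hres hG in
theorem isIso_counit_app {E : Type*} [Category E] (L : C ⥤ E) [L.IsLocalization ℬ.trW]
    (LG : E ⥤ D) (α : L ⋙ LG ⟶ G) [LG.IsLeftDerivedFunctor α ℬ.trW] (Y : C) (hY : 𝒜 Y) :
    IsIso (α.app Y) := by
  have := hasRightDerivedFunctor_op 𝒜 ℬ hres G hG
  refine LeftDeriv.isIso_counit_app_of_op L ℬ.trW G Y ?_ LG α
  have h₁ := TriDeriv.isRightDerivabilityStructure 𝒜.op ℬ.op (hres_op 𝒜 ℬ hres)
  have h₂ := TriDeriv.derives 𝒜.op ℬ.op G.op (hG_op 𝒜 ℬ G hG)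
  have hL : L.op.IsLocalization ℬ.op.trW := by
    rw [ℬ.trW_op]
    infer_instance
  have hRF : (G.op.totalRightDerived L.op ℬ.trW.op).IsRightDerivedFunctor
      (G.op.totalRightDerivedUnit L.op ℬ.trW.op) ℬ.op.trW := by
    have key : ∀ (W' : MorphismProperty Cᵒᵖ) (h : W' = ℬ.trW.op) [L.op.IsLocalization W'],
        (G.op.totalRightDerived L.op ℬ.trW.op).IsRightDerivedFunctor
          (G.op.totalRightDerivedUnit L.op ℬ.trW.op) W' := by
      intro W' h _
      subst h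
      infer_instance
    exact key _ ℬ.trW_op
  exact h₂.isIso_of_isRightDerivedFunctor (G.op.totalRightDerivedUnit L.op ℬ.trW.op) ⟨op Y, hY⟩

end Groth.Agent.H5.TriDerivLeft
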